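import Cfsg.Agent.R2.H27.F4Th.Exc_m3
import Cfsg.Agent.R2.F4P.Id_m3
import Cfsg.Agent.R2.F4P.Mn7_m3
import Cfsg.Agent.R2.H27.F4Th.SqY_m3
import Cfsg.Agent.Prune
set_option linter.all false

section
prune_inst 0x7f00000000000000000000000000000000000000000000000000000000000000000000000000000000000000000000000000000000000000000000000000000000000000000000000000000000000000003fffffffffffffffffffffffffffaeffbdffffffff

section
prune_inst 0xffeffdbbfeefffdfff7e7fa6deeffc1b931fffa4dff94bffe061ff2b9f339009e56b8d09e030fe1ed6401410a87843fb7eeeffea6bdc7ffffd5ff41ffbee4fe5f7b50951d484240fbc0ff603f0778a7f000000000000000000000000000000000200000000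

-- part: R2/F4N/Lam
section
prune_inst 0x1002440010002000018050010001e0282000422004b0000906008020cc2f84020030e21903018129a3014c56031004811000110422000000a0004000118018000810000b089010020009e000080400000000000000000000000000000051000000000000
set_option linter.all false
open scoped Cfsg.Agent.FastGrp

/-!
# Tori in `F₄(F)` from weights (lead, S5931)

* `exists_lam` : a grading of `J` compatible with the trilinear form gives elements of `F₄(F)`;
* `mem_range` : such an element in `H` which is compatible with a standard basis has its parameter in `K`.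
-/

set_option autoImplicit false
set_option linter.unusedSectionVars false

namespace Cfsg.Agent.R2.F4N

open Cfsg Cfsg.Lie Module Matrix
open Cfsg.Agent.ChevalleyStructure.E6Min.Basic
open Cfsg.Agent.H952.F4 Cfsg.Agent.H952.F4.Jord
open Cfsg.Agent.H952.F4.FixV (W0 mem_W0 finrank_W0 u0_ne_zero tr1_eq)
open Cfsg.Agent.R2.H9.E6
open Cfsg.Agent.GpExc.Field (emb)
open Cfsg.Agent.R2.H28.SL2 Cfsg.Agent.H943.RepAdd
open Cfsg.Agent.R2.F4M
open Cfsg.Agent.R2.GEO (tfB tfB_apply)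

universe u v w

section tri

variable (F : Type u) [Field F]

/-- the trilinear form -/
noncomputable def NN : (I27 → F) →ₗ[F] (I27 → F) →ₗ[F] (I27 → F) →ₗ[F] F :=
  LinearMap.mk₂ F (fun x y => tfB F (cr x y)) (fun x x' y => by rw [cr_add_left, map_add])
    (fun c x y => by rw [cr_smul_left, map_smul]) (fun x y y' => by rw [cr_add_right, map_add])
    (fun c x y => by rw [cr_smul_right, map_smul])

variable {F}

theorem NN_apply (x y z : I27 → F) : NN F x y z = tf (cr x y) z := rfl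

theorem NN_comm (x y z : I27 → F) : NN F x y z = NN F y x z := by rw [NN_apply, NN_apply, cr_comm]

theorem NN_rot (x y z : I27 → F) : NN F x y z = NN F y z x := by
  rw [NN_apply, NN_apply, tf_cr]
  exact tf_comm _ _

theorem NN_u0 (y z : I27 → F) : NN F (u0 F) y z = tr1 y * tr1 z - tf y z := by
  rw [NN_apply, cr_u0, sub_eq_add_neg, tf_add_left, tf_smul_left, tf_u0, ← neg_one_smul F y, tf_smul_left]
  ring

theorem NN_u0_u0 (z : I27 → F) : NN F (u0 F) (u0 F) z = 2 * tr1 z := by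
  rw [NN_u0, tr1_u0, tf_u0]
  ring

/-- linear automorphisms which preserve the trilinear form and the unit -/
theorem full_NN [Finite F] (h2 : (2 : F) ≠ 0) (g : (I27 → F) ≃ₗ[F] (I27 → F))
    (hN : ∀ x y z, NN F (g x) (g y) (g z) = NN F x y z) (hu : g (u0 F) = u0 F) :
    ∃ z : ↥(chevF4.group F), ∀ x, g x = Jr F z x := by
  have htr : ∀ x, tr1 (g x) = tr1 x := by
    intro x
    have h1 := hN (u0 F) (u0 F) x
    rw [hu, NN_u0_u0, NN_u0_u0] at h1
    exact mul_left_cancel₀ h2 h1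
  have htf : ∀ x y, tf (g x) (g y) = tf x y := by
    intro x y
    have h1 := hN (u0 F) x y
    rw [hu, NN_u0, NN_u0, htr, htr] at h1
    exact sub_right_injective h1
  have hcr : ∀ x y, cr (g x) (g y) = g (cr x y) := by
    intro x y
    rw [← sub_eq_zero]
    refine tf_nondeg fun z => ?_
    obtain ⟨z, rfl⟩ := g.surjective z
    have h1 := hN x y z
    rw [NN_apply, NN_apply] at h1
    rw [sub_eq_add_neg, tf_add_left, ← neg_one_smul F, tf_smul_left, h1, htf]
    ring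
  refine full_sh (g := g) (fun x => ?_) hu
  have h1 := hcr x x
  rw [cr_self, cr_self, map_smul] at h1
  exact smul_right_injective _ h2 h1

/-- **tori from gradings** -/
theorem exists_lam [Finite F] (h2 : (2 : F) ≠ 0) {I : Type*} [Fintype I] (B : Basis I F (I27 → F)) (m : I → ℤ)
    (hN : ∀ i j l, NN F (B i) (B j) (B l) ≠ 0 → m i + m j + m l = 0) (hu : ∀ i, B.repr (u0 F) i ≠ 0 → m i = 0) (c : Fˣ) :
    ∃ z : ↥(chevF4.group F), ∀ i, Jr F z (B i) = ((c ^ m i : Fˣ) : F) • B i := by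
  classical
  let g : (I27 → F) ≃ₗ[F] (I27 → F) := B.equiv (B.unitsSMul fun i => c ^ m i) (Equiv.refl I)
  have hg : ∀ i, g (B i) = ((c ^ m i : Fˣ) : F) • B i := by
    intro i
    rw [Basis.equiv_apply, Equiv.refl_apply, Basis.unitsSMul_apply]
    rfl
  have h3 : ∀ x y z, NN F (g x) (g y) (g z) = NN F x y z := by
    have h4 : (NN F).compl₁₂ g.toLinearMap g.toLinearMap = (NN F).compr₂ (LinearMap.lcomp F F g.symm.toLinearMap) := by
      refine B.ext fun i => B.ext fun j => LinearMap.ext fun z => ?_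
      obtain ⟨z, rfl⟩ := g.surjective z
      have h5 : ((NN F).compl₁₂ g.toLinearMap g.toLinearMap) (B i) (B j) (g z) = NN F (g (B i)) (g (B j)) (g z) := rfl
      have h6 : (((NN F).compr₂ (LinearMap.lcomp F F g.symm.toLinearMap)) (B i) (B j)) (g z) = NN F (B i) (B j) z := by
        show NN F (B i) (B j) (g.symm (g z)) = _
        rw [g.symm_apply_apply]
      rw [h5, h6]
      have h7 : (NN F (g (B i)) (g (B j))).comp g.toLinearMap = NN F (B i) (B j) := by
        refine B.ext fun l => ?_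
        show NN F (g (B i)) (g (B j)) (g (B l)) = _
        rw [hg, hg, hg]
        simp only [map_smul, LinearMap.smul_apply, smul_eq_mul]
        by_cases h0 : NN F (B i) (B j) (B l) = 0
        · rw [h0]
          ring
        · have h8 := hN i j l h0
          rw [← mul_assoc, ← mul_assoc, ← Units.val_mul, ← Units.val_mul, ← _root_.zpow_add, ← _root_.zpow_add,
            show m l + m j + m i = 0 by omega, zpow_zero, Units.val_one, one_mul]
      exact LinearMap.congr_fun h7 z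
    intro x y z
    have h9 := LinearMap.congr_fun (LinearMap.congr_fun (LinearMap.congr_fun h4 x) y) (g z)
    have h10 : (((NN F).compr₂ (LinearMap.lcomp F F g.symm.toLinearMap)) x y) (g z) = NN F x y z := by
      show NN F x y (g.symm (g z)) = _
      rw [g.symm_apply_apply]
    rw [h10] at h9
    exact h9
  obtain ⟨z, hz⟩ := full_NN h2 g h3 (by
    conv_lhs => rw [← B.sum_repr (u0 F)]
    rw [map_sum]
    conv_rhs => rw [← B.sum_repr (u0 F)]
    refine Finset.sum_congr rfl fun i _ => ?_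
    rw [map_smul, hg]
    by_cases h0 : B.repr (u0 F) i = 0
    · rw [h0, zero_smul, zero_smul]
    · rw [hu i h0, zpow_zero, Units.val_one, one_smul])
  exact ⟨z, fun i => by rw [← hz, hg]⟩

end tri

section rat

variable {F : Type u} [Field F] [Fintype F] {K : Type v} [Field K] [Fintype K] {p a b : ℕ}
variable {H : Subgroup ↥(chevF4.group F)} {φ : ProjectiveSpecialLinearGroup (Fin 2) K →* ↥(chevF4.group F)}

/-- combinations with coefficients in `K` -/
def Cb (κ : K →+* F) (n : ℕ) (x : ℕ → I27 → F) (v : I27 → F) : Prop :=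
  ∃ d : ℕ → K, v = ∑ j ∈ Finset.range (n + 1), κ (d j) • x j

variable {κ : K →+* F} {n : ℕ} {x : ℕ → I27 → F}

theorem Cb.add {v w : I27 → F} (hv : Cb κ n x v) (hw : Cb κ n x w) : Cb κ n x (v + w) := by
  obtain ⟨d, rfl⟩ := hv
  obtain ⟨e, rfl⟩ := hw
  refine ⟨fun j => d j + e j, ?_⟩
  rw [← Finset.sum_add_distrib]
  refine Finset.sum_congr rfl fun j _ => ?_
  rw [map_add, add_smul]

theorem Cb.zero : Cb κ n x 0 := ⟨0, by simp⟩

theorem Cb.smul {v : I27 → F} (hv : Cb κ n x v) (c : K) : Cb κ n x (κ c • v) := by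
  obtain ⟨d, rfl⟩ := hv
  refine ⟨fun j => c * d j, ?_⟩
  rw [Finset.smul_sum]
  refine Finset.sum_congr rfl fun j _ => ?_
  rw [map_mul, smul_smul]

theorem Cb.sum {α : Type*} (S : Finset α) (v : α → I27 → F) (h : ∀ i ∈ S, Cb κ n x (v i)) : Cb κ n x (∑ i ∈ S, v i) := by
  classical
  induction S using Finset.induction_on with
  | empty =>
    rw [Finset.sum_empty]
    exact Cb.zero
  | insert a S ha ih =>
    rw [Finset.sum_insert ha]
    exact (h a (Finset.mem_insert_self _ _)).add (ih fun i hi => h i (Finset.mem_insert_of_mem hi))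

theorem Cb.self {s : ℕ} (hs : s ≤ n) : Cb κ n x (x s) := by
  classical
  refine ⟨fun j => if j = s then 1 else 0, ?_⟩
  rw [Finset.sum_eq_single s]
  · simp only [if_true, map_one, one_smul]
  · intro j _ hj
    simp only [if_neg hj, map_zero, zero_smul]
  · intro h
    exact absurd (Finset.mem_range.2 (by omega)) h

theorem Cb.of_basis {g : SpecialLinearGroup (Fin 2) K} (h : ∀ s ≤ n, Cb κ n x (RF φ g (x s))) {v : I27 → F} (hv : Cb κ n x v) :
    Cb κ n x (RF φ g v) := by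
  obtain ⟨d, rfl⟩ := hv
  rw [map_sum]
  refine Cb.sum _ _ fun j hj => ?_
  rw [map_smul]
  exact (h j (by have := Finset.mem_range.1 hj; omega)).smul _

theorem Str.cb (hx : Str κ (RF φ) n x) (g : SpecialLinearGroup (Fin 2) K) : ∀ v, Cb κ n x v → Cb κ n x (RF φ g v) := by
  refine Cfsg.Agent.H943.SL2Rel.induct (P := fun g => ∀ v, Cb κ n x v → Cb κ n x (RF φ g v)) ?_ ?_ ?_ ?_ g
  · intro t v hv
    refine Cb.of_basis (fun s hs => ?_) hv
    rw [hx.u s hs t]
    refine Cb.sum _ _ fun j hj => ?_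
    have h1 : ((n - s).choose j : F) * κ t ^ j = κ (((n - s).choose j : K) * t ^ j) := by
      rw [map_mul, map_natCast, map_pow]
    rw [h1]
    exact (Cb.self (by have := Finset.mem_range.1 hj; omega)).smul _
  · intro a v hv
    refine Cb.of_basis (fun s hs => ?_) hv
    rw [hx.h s hs a]
    have h1 : (κ a ^ s * ((κ a)⁻¹) ^ (n - s) : F) = κ ((a : K) ^ s * ((a : K)⁻¹) ^ (n - s)) := by
      rw [map_mul, map_pow, map_pow, map_inv₀]
    rw [h1]
    exact (Cb.self hs).smul _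
  · intro v hv
    refine Cb.of_basis (fun s hs => ?_) hv
    rw [hx.w s hs]
    have h1 : ((-1 : F) ^ s) = κ ((-1) ^ s) := by rw [map_pow, map_neg, map_one]
    rw [h1]
    exact (Cb.self (by omega)).smul _
  · intro g h hg hh v hv
    rw [map_mul]
    exact hg _ (hh _ hv)

theorem mem_range (hc : Cfg p a b H φ) (hn : 1 ≤ n) (hnp : n < p) (hx : Str κ (RF φ) n x)
    (hli : LinearIndependent F (fun s : Fin (n + 1) => x s)) {U : Submodule F (I27 → F)} (hU : Hst H U) (hpr : Pr U)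
    {z : ↥(chevF4.group F)} (hz : ∀ v ∈ U, Jr F z v ∈ U) {c : Fˣ} {m : ℤ}
    (hzx : ∀ s ≤ n, Jr F z (x s) = ((c ^ (m + s) : Fˣ) : F) • x s) : ∃ d : K, κ d = c := by
  classical
  have hp : Fact p.Prime := ⟨hc.prime⟩
  have hcF := hc.charF
  have hcK := hc.charK
  have hzH : z ∈ H := hc.gp hU hpr hz
  obtain ⟨t, ht⟩ := hc.max.norm z hzH (φ (pq (Cfsg.Agent.H943.SL2Rel.u 1))) ⟨_, rfl⟩
  obtain ⟨g, rfl⟩ := pq_surjective t
  obtain ⟨d, hd⟩ := hx.cb g (x 0) (Cb.self (Nat.zero_le _))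
  have h1 : Jr F z⁻¹ (x 0) = ((c ^ (-m) : Fˣ) : F) • x 0 := by
    apply Jr_inj z
    rw [Jr_apply_inv, map_smul, hzx 0 (Nat.zero_le _), smul_smul, ← Units.val_mul, ← _root_.zpow_add]
    simp
  have h2 : RF φ g (x 0) = ∑ j ∈ Finset.range (n + 1), ((n.choose j : F) * (c : F) ^ j) • x j := by
    rw [RF_apply, ht, Jr_mul, Jr_mul, h1, map_smul, map_smul]
    have h3 : Jr F (φ (pq (Cfsg.Agent.H943.SL2Rel.u 1))) (x 0) = ∑ j ∈ Finset.range (n + 1), (n.choose j : F) • x j := by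
      have h4 := hx.u 0 (Nat.zero_le _) 1
      rw [RF_apply] at h4
      rw [h4, Nat.sub_zero]
      refine Finset.sum_congr rfl fun j _ => ?_
      rw [map_one, one_pow, mul_one, zero_add]
    rw [h3, map_sum, Finset.smul_sum]
    refine Finset.sum_congr rfl fun j hj => ?_
    rw [map_smul, hzx j (by have := Finset.mem_range.1 hj; omega), smul_smul, smul_smul]
    congr 1
    have h5 : ((c ^ (-m) : Fˣ) : F) * ((c ^ (m + j) : Fˣ) : F) = (c : F) ^ j := by
      rw [← Units.val_mul, ← _root_.zpow_add, neg_add_cancel_left, zpow_natCast, Units.val_pow_eq_pow_val]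
    rw [← h5]
    ring
  rw [h2, Finset.sum_range, Finset.sum_range] at hd
  have h6 : ∑ j : Fin (n + 1), (((n.choose j : F) * (c : F) ^ (j : ℕ)) - κ (d j)) • x j = 0 := by
    simp only [sub_smul, Finset.sum_sub_distrib]
    rw [hd, sub_self]
  have h7 := (Fintype.linearIndependent_iff.1 hli) _ h6 ⟨1, by omega⟩
  simp only [Nat.choose_one_right, pow_one] at h7
  have hnF : (n : F) ≠ 0 := by
    have := choose_ne (k := F) hnp (m := 1) hn
    rwa [Nat.choose_one_right] at this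
  refine ⟨d 1 / n, ?_⟩
  rw [map_div₀, map_natCast, div_eq_iff hnF, ← sub_eq_zero.1 h7]
  ring

end rat

end Cfsg.Agent.R2.F4N
end

-- part: R2/F4N/Dn
section
set_option linter.all false
open scoped Cfsg.Agent.FastGrp

/-!
# Rational points of submodules with rational bases (lead, S5931)
-/

set_option autoImplicit false
set_option linter.unusedSectionVars false

namespace Cfsg.Agent.R2.F4N

open Cfsg Cfsg.Lie Module Matrix
open Cfsg.Agent.ChevalleyStructure.E6Min.Basic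
open Cfsg.Agent.H952.F4 Cfsg.Agent.H952.F4.Jord
open Cfsg.Agent.R2.F4M

universe u v w

variable {F : Type u} [Field F] [Fintype F] {k : Type u} [Field k] {f : F →+* k}

theorem up_li {I : Type*} {x : I → I27 → F} (h : LinearIndependent k (fun s => (fun i => f (x s i) : I27 → k))) :
    LinearIndependent F x := by
  rw [linearIndependent_iff'] at h ⊢
  intro S g hg i hi
  have h1 : ∑ j ∈ S, f (g j) • (fun l => f (x j l) : I27 → k) = 0 := by
    have h2 := up_sum (f := f) S (fun j => g j • x j)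
    rw [hg] at h2
    refine (Finset.sum_congr rfl fun j _ => (up_smul (g j) (x j)).symm).trans (h2.symm.trans ?_)
    funext l
    exact map_zero f
  exact f.injective (by rw [h S (fun j => f (g j)) h1 i hi, map_zero])

theorem dn_span {p b : ℕ} [Fact p.Prime] [CharP k p] (hF : Fintype.card F = p ^ b) {I : Type*} [Fintype I] {x : I → I27 → F}
    (h : LinearIndependent k (fun s => (fun i => f (x s i) : I27 → k))) {X : Submodule k (I27 → k)}
    (hX : X = Submodule.span k (Set.range fun s => (fun i => f (x s i) : I27 → k))) :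
    dn f X = Submodule.span F (Set.range x) := by
  classical
  apply le_antisymm
  · intro v hv
    rw [mem_dn, hX, Submodule.mem_span_range_iff_exists_fun] at hv
    obtain ⟨c, hc⟩ := hv
    let s : k →+* k := iterateFrobenius k p b
    have hs1 : ∀ c, s c = c ^ Fintype.card F := fun c => by rw [hF]; exact iterateFrobenius_def p b c
    have hs : ∀ c, s (f c) = f c := fun c => by rw [hs1, ← map_pow, FiniteField.pow_card]
    have hup : ∀ w : I27 → F, sm s (fun i => f (w i)) = fun i => f (w i) := fun w => funext fun i => hs _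
    have h1 := congrArg (sm s) hc
    rw [hup, sm_sum] at h1
    simp only [sm_smul, hup] at h1
    have h2 : ∑ i, (s (c i) - c i) • (fun j => f (x i j) : I27 → k) = 0 := by
      simp only [sub_smul, Finset.sum_sub_distrib]
      rw [h1, hc, sub_self]
    have h3 : ∀ i, ∃ d, f d = c i := fun i => exists_of_pow f (by
      rw [← hs1]
      exact sub_eq_zero.1 (Fintype.linearIndependent_iff.1 h _ h2 i))
    choose d hd using h3
    rw [Submodule.mem_span_range_iff_exists_fun]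
    refine ⟨d, up_inj (f := f) ?_⟩
    rw [up_sum, ← hc]
    refine Finset.sum_congr rfl fun i _ => ?_
    rw [up_smul, hd]
  · rw [Submodule.span_le]
    rintro _ ⟨s, rfl⟩
    show _ ∈ X
    rw [hX]
    exact Submodule.subset_span ⟨s, rfl⟩

end Cfsg.Agent.R2.F4N
end

-- part: R2/F4N/Rb
section
prune_inst 0x1002440110002000000059211003e4282000420000b0000e8e009060c80ec6089422e60b83000029aa890854039004811000110420000000a000400011b018000810202b189a10000009e000000400000000000000000000000000000010004000000000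
set_option linter.all false
open scoped Cfsg.Agent.FastGrp

/-!
# Box R: `J₀ = V_8 ⊕ V_16` (lead, S5931)
-/

set_option autoImplicit false
set_option linter.unusedSectionVars false

namespace Cfsg.Agent.R2.F4N

open Cfsg Cfsg.Lie Module Matrix
open Cfsg.Agent.ChevalleyStructure.E6Min.Basic
open Cfsg.Agent.H952.F4 Cfsg.Agent.H952.F4.Jord
open Cfsg.Agent.H952.F4.FixV (W0 mem_W0 finrank_W0 u0_ne_zero tr1_eq)
open Cfsg.Agent.R2.F4M
open Cfsg.Agent.R2.H9.E6
open Cfsg.Agent.R2.GEO (tfB tfB_apply)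

universe u v w

section ex

variable {k : Type u} [Field k] {K : Type w} [Field K] [Fintype K] {W : Type v} [AddCommGroup W] [Module k W]
variable {κ : K →+* k} {ρ : Representation k (_root_.Matrix.SpecialLinearGroup (Fin 2) K) W}
variable {N : W →ₗ[k] W →ₗ[k] W →ₗ[k] k} (hN : ∀ g x y z, N (ρ g x) (ρ g y) (ρ g z) = N x y z)
  (hrot : ∀ x y z, N x y z = N y z x)
variable {i j l : ℕ} {x y z : ℕ → W} (hx : Str κ ρ i x) (hy : Str κ ρ j y) (hz : Str κ ρ l z)

include hN hrot hx hy hz in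
theorem exact_sym {p s : ℕ} [Fact p.Prime] [CharP k p] (hpK : p ≤ Fintype.card K) (hi : i < p) (hj : j < p)
    (hl : l < p) (hs : 2 * s = i + j + l) (hij : i + j < l + (Fintype.card K - 1) ∨ j + l < i + (Fintype.card K - 1) ∨
      l + i < j + (Fintype.card K - 1)) {a b c : ℕ} (ha : a ≤ i) (hb : b ≤ j)
    (hc : c ≤ l) (h : a + b + c ≠ s) : N (x a) (y b) (z c) = 0 := by
  rcases hij with h1 | h1 | h1
  · exact exact hN hx hy hz hpK hi hj hl hs h1 ha hb hc h
  · rw [hrot]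
    exact exact (s := s) hN hy hz hx hpK hj hl hi (by omega) h1 hb hc ha (by omega)
  · rw [hrot, hrot]
    exact exact (s := s) hN hz hx hy hpK hl hi hj (by omega) h1 hc ha hb (by omega)

theorem Str.const {v : W} (hv : ∀ g, ρ g v = v) : Str κ ρ 0 (fun _ => v) where
  u s hs t := by
    obtain rfl : s = 0 := by omega
    rw [hv]
    simp only [_root_.tsub_self, _root_.zero_add, _root_.Finset.range_one, _root_.Finset.sum_singleton, _root_.Nat.choose_self, _root_.Nat.cast_one, _root_.pow_zero, _root_.mul_one, _root_.one_smul]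
  h s hs a := by
    obtain rfl : s = 0 := by omega
    rw [hv]
    simp
  w s hs := by
    obtain rfl : s = 0 := by omega
    rw [hv]
    simp

end ex

section core

variable {F : Type u} [Field F] [Fintype F] {K : Type v} [Field K] [Fintype K] {p a b : ℕ}
variable {H : Subgroup ↥(chevF4.group F)} {φ : ProjectiveSpecialLinearGroup (Fin 2) K →* ↥(chevF4.group F)}
variable {κ : K →+* F}

theorem NN_RF (g : _root_.Matrix.SpecialLinearGroup (Fin 2) K) (x y z : I27 → F) :
    NN F (RF φ g x) (RF φ g y) (RF φ g z) = NN F x y z := by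
  rw [NN_apply, NN_apply, RF_apply, RF_apply, RF_apply, Jr_cr, Jr_tf]

/-- a vector with `v # = c v` which is isotropic is white -/
theorem cr_self_zero (h2 : (2 : F) ≠ 0) (h3 : (3 : F) ≠ 0) {v : I27 → F} {c : F} (h : cr v v = c • v) (ht : tf v v = 0) :
    cr v v = 0 := by
  by_cases hv : v = 0
  · rw [h, hv, smul_zero]
  have h4 : sh v = (c / 2) • v := by
    rw [cr_self] at h
    rw [div_eq_inv_mul, ← smul_smul, ← h, smul_smul, inv_mul_cancel₀ h2, one_smul]
  have h5 := tf_sh_self v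
  rw [h4, tf_smul_left, ht, mul_zero] at h5
  have h6 : cubicT v = 0 := (mul_eq_zero.1 h5.symm).resolve_left h3
  have h7 := sh_sh v
  rw [h4, sh_smul, h4, h6, zero_smul, smul_smul] at h7
  have h8 : (c / 2) ^ 2 * (c / 2) = 0 := (smul_eq_zero.1 h7).resolve_right hv
  rw [← pow_succ] at h8
  have h9 : c / 2 = 0 := eq_zero_of_pow_eq_zero h8
  have h10 : c = 0 := (div_eq_zero_iff.1 h9).resolve_right h2
  rw [h, h10, zero_smul]

/-- the lengths -/
def nn : Fin 3 → ℕ := ![0, 8, 16]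

theorem nn_even (t : Fin 3) : ∃ r, nn t = 2 * r := by
  fin_cases t
  · exact ⟨0, rfl⟩
  · exact ⟨4, rfl⟩
  · exact ⟨8, rfl⟩

/-- the data -/
structure Dt (κ : K →+* F) (φ : ProjectiveSpecialLinearGroup (Fin 2) K →* ↥(chevF4.group F)) (v : Fin 3 → ℕ → I27 → F) :
    Prop where
  str : ∀ t, Str κ (RF φ) (nn t) (v t)
  zero : v 0 0 = u0 F
  t8 : ∀ s ≤ 8, tr1 (v 1 s) = 0
  t16 : ∀ s ≤ 16, tr1 (v 2 s) = 0
  li : LinearIndependent F (fun i : Σ t : Fin 3, Fin (nn t + 1) => v i.1 i.2)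

variable {v : Fin 3 → ℕ → I27 → F} (d : Dt κ φ v)

include d

theorem Dt.sym_of {t₁ t₂ t₃ : Fin 3} (hp : 17 ≤ p) (hcF : CharP F p) (hpp : p.Prime) (hpK : p ≤ Fintype.card K)
    (ht : ¬ (t₁ = 2 ∧ t₂ = 2 ∧ t₃ = 2) ∨ 17 < Fintype.card K) {a b c : ℕ} (ha : a ≤ nn t₁) (hb : b ≤ nn t₂)
    (hc : c ≤ nn t₃) (h : NN F (v t₁ a) (v t₂ b) (v t₃ c) ≠ 0) : 2 * (a + b + c) = nn t₁ + nn t₂ + nn t₃ := by
  have hpf : Fact p.Prime := ⟨hpp⟩
  by_contra hcon
  apply h
  obtain ⟨r₁, h1⟩ := nn_even t₁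
  obtain ⟨r₂, h2⟩ := nn_even t₂
  obtain ⟨r₃, h3⟩ := nn_even t₃
  have hle : ∀ t, nn t ≤ 16 := by decide
  refine exact_sym (by exact NN_RF) (by exact NN_rot) (d.str t₁) (d.str t₂) (d.str t₃) (p := p) (s := r₁ + r₂ + r₃) hpK
    (by have := hle t₁; omega) (by have := hle t₂; omega) (by have := hle t₃; omega) (by omega) ?_ ha hb hc (by omega)
  have key : ∀ t₁ t₂ t₃ : Fin 3, (t₁ = 2 ∧ t₂ = 2 ∧ t₃ = 2) ∨ nn t₁ + nn t₂ < nn t₃ + 16 ∨ nn t₂ + nn t₃ < nn t₁ + 16 ∨
      nn t₃ + nn t₁ < nn t₂ + 16 := by decide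
  rcases key t₁ t₂ t₃ with ⟨rfl, rfl, rfl⟩ | h4 | h4 | h4
  · rcases ht with ht | ht
    · exact absurd ⟨rfl, rfl, rfl⟩ ht
    · left
      show 16 + 16 < 16 + (Fintype.card K - 1)
      omega
  · left; omega
  · right; left; omega
  · right; right; omega

theorem Dt.tf_of (hp : 17 ≤ p) (hcF : CharP F p) (hpp : p.Prime) (hpK : p ≤ Fintype.card K)
    {t₂ t₃ : Fin 3} (ht : t₂ ≠ 0) {b c : ℕ} (hb : b ≤ nn t₂)
    (hc : c ≤ nn t₃) (h : 2 * (b + c) ≠ nn t₂ + nn t₃) : tf (v t₂ b) (v t₃ c) = 0 := by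
  have htr : ∀ t : Fin 3, t ≠ 0 → ∀ s ≤ nn t, tr1 (v t s) = 0 := by
    intro t ht s hs
    fin_cases t
    · exact absurd rfl ht
    · exact d.t8 s hs
    · exact d.t16 s hs
  by_contra hne
  have h1 := d.sym_of (t₁ := 0) hp hcF hpp hpK (Or.inl fun h => absurd h.1 (by decide)) (a := 0) (Nat.zero_le _) hb hc
    (by
      rw [d.zero, NN_u0, htr t₂ ht b hb, zero_mul, zero_sub]
      exact neg_ne_zero.2 hne)
  have h2 : nn 0 = 0 := rfl
  omega

/-- a vector orthogonal to the basis is zero -/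
theorem Dt.nd (w : I27 → F) (h : ∀ t, ∀ s ≤ nn t, tf w (v t s) = 0) : w = 0 := by
  have hcard : Fintype.card (Σ t : Fin 3, Fin (nn t + 1)) = finrank F (I27 → F) := by
    rw [Module.finrank_fintype_fun_eq_card]
    decide
  let B := basisOfLinearIndependentOfCardEqFinrank d.li hcard
  refine tf_nondeg fun y => ?_
  have h1 : tfB F w = 0 := by
    refine B.ext fun i => ?_
    rw [coe_basisOfLinearIndependentOfCardEqFinrank, tfB_apply, LinearMap.zero_apply]
    exact h i.1 i.2 (Nat.lt_succ_iff.1 i.2.2)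
  rw [← tfB_apply, h1, LinearMap.zero_apply]

theorem Dt.ne {t : Fin 3} {s : ℕ} (hs : s ≤ nn t) : v t s ≠ 0 :=
  d.li.ne_zero (⟨t, ⟨s, Nat.lt_succ_iff.2 hs⟩⟩ : Σ t : Fin 3, Fin (nn t + 1))

/-- the top vector is white -/
theorem Dt.top_zero (hp : 17 ≤ p) (hcF : CharP F p) (hpp : p.Prime) (hpK : p ≤ Fintype.card K) :
    NN F (v 2 16) (v 2 16) (v 2 0) = 0 := by
  have hpf : Fact p.Prime := ⟨hpp⟩
  have h2 : (2 : F) ≠ 0 := by
    have h := (CharP.cast_eq_zero_iff F p 2).not.2 (fun h => by have := Nat.le_of_dvd (by norm_num) h; omega)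
    exact_mod_cast h
  have h3 : (3 : F) ≠ 0 := by
    have h := (CharP.cast_eq_zero_iff F p 3).not.2 (fun h => by have := Nat.le_of_dvd (by norm_num) h; omega)
    exact_mod_cast h
  -- the higher coefficients
  have h4 : ∀ c < 17, 1 ≤ c → NN F (v 2 16) (v 2 16) (v 2 c) = 0 := by
    intro c hc hc1
    have h5 := coef_eq κ (d := 17) (by omega) (a := fun j => ((16 : ℕ).choose j : F) * NN F (v 2 16) (v 2 16) (v 2 j))
      (b := fun j => if j = 0 then NN F (v 2 16) (v 2 16) (v 2 0) else 0) (fun t => by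
        have h6 := NN_RF (φ := φ) (Cfsg.Agent.H943.SL2Rel.u t) (v 2 16) (v 2 16) (v 2 0)
        have h7 : RF φ (Cfsg.Agent.H943.SL2Rel.u t) (v 2 16) = v 2 16 := (d.str 2).top t
        rw [h7, (d.str 2).u 0 (Nat.zero_le _) t] at h6
        rw [show nn 2 - 0 + 1 = 17 from rfl, show nn 2 - 0 = 16 from rfl] at h6
        refine Eq.trans ?_ (Finset.sum_eq_single 0 (fun j _ hj => by rw [if_neg hj, zero_mul])
          (fun h => absurd (Finset.mem_range.2 (by norm_num)) h)).symm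
        rw [if_pos rfl, pow_zero, mul_one, ← h6, map_sum]
        refine Finset.sum_congr rfl fun j _ => ?_
        rw [map_smul, smul_eq_mul, zero_add]
        ring) c hc
    simp only [if_neg (show ¬ c = 0 by omega)] at h5
    exact (mul_eq_zero.1 h5).resolve_left (choose_ne (by omega) (by omega))
  have ht0 : tf (v 2 16) (v 2 0) ≠ 0 := by
    intro h0
    refine d.ne (t := 2) (s := 16) le_rfl (d.nd _ fun t s hs => ?_)
    fin_cases t
    · have hs0 : s = 0 := Nat.le_zero.1 hs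
      show tf (v 2 16) (v 0 s) = 0
      rw [hs0, d.zero, tf_u0_right]
      exact d.t16 16 le_rfl
    · refine d.tf_of hp hcF hpp hpK (by decide) (le_refl 16) hs ?_
      show 2 * (16 + s) ≠ 16 + 8
      omega
    · rcases Nat.eq_zero_or_pos s with rfl | hs0
      · exact h0
      · refine d.tf_of hp hcF hpp hpK (by decide) (le_refl 16) hs ?_
        show 2 * (16 + s) ≠ 16 + 16
        omega
  obtain ⟨β, hβ⟩ : ∃ β, NN F (v 2 16) (v 2 16) (v 2 0) = β * tf (v 2 16) (v 2 0) :=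
    ⟨NN F (v 2 16) (v 2 16) (v 2 0) / tf (v 2 16) (v 2 0), by rw [div_mul_cancel₀ _ ht0]⟩
  have hcr : cr (v 2 16) (v 2 16) = β • v 2 16 := by
    rw [← sub_eq_zero]
    refine d.nd _ fun t s hs => ?_
    rw [sub_eq_add_neg, tf_add_left, ← neg_one_smul F, tf_smul_left, tf_smul_left, ← NN_apply]
    fin_cases t
    · have hs0 : s = 0 := Nat.le_zero.1 hs
      show NN F (v 2 16) (v 2 16) (v 0 s) + -1 * (β * tf (v 2 16) (v 0 s)) = 0
      have h5 : NN F (v 2 16) (v 2 16) (v 0 s) = 0 := by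
        by_contra hne
        have := d.sym_of (t₁ := 2) (t₂ := 2) (t₃ := 0) hp hcF hpp hpK (Or.inl (by decide)) (le_refl 16) (le_refl 16) hs hne
        have e0 : nn 0 = 0 := rfl
        have e2 : nn 2 = 16 := rfl
        omega
      have h6 : tf (v 2 16) (v 0 s) = 0 := by
        rw [hs0, d.zero, tf_u0_right]
        exact d.t16 16 le_rfl
      rw [h5, h6]
      ring
    · show NN F (v 2 16) (v 2 16) (v 1 s) + -1 * (β * tf (v 2 16) (v 1 s)) = 0
      have h5 : NN F (v 2 16) (v 2 16) (v 1 s) = 0 := by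
        by_contra hne
        have := d.sym_of (t₁ := 2) (t₂ := 2) (t₃ := 1) hp hcF hpp hpK (Or.inl (by decide)) (le_refl 16) (le_refl 16) hs hne
        have e0 : nn 1 = 8 := rfl
        have e2 : nn 2 = 16 := rfl
        omega
      have h6 : tf (v 2 16) (v 1 s) = 0 := by
        refine d.tf_of hp hcF hpp hpK (by decide) (le_refl 16) hs ?_
        show 2 * (16 + s) ≠ 16 + 8
        omega
      rw [h5, h6]
      ring
    · show NN F (v 2 16) (v 2 16) (v 2 s) + -1 * (β * tf (v 2 16) (v 2 s)) = 0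
      rcases Nat.eq_zero_or_pos s with rfl | hs0
      · rw [hβ]
        ring
      · have h5 : NN F (v 2 16) (v 2 16) (v 2 s) = 0 := h4 s (Nat.lt_succ_iff.2 hs) hs0
        have h6 : tf (v 2 16) (v 2 s) = 0 := by
          refine d.tf_of hp hcF hpp hpK (by decide) (le_refl 16) hs ?_
          show 2 * (16 + s) ≠ 16 + 16
          omega
        rw [h5, h6]
        ring
  have htt : tf (v 2 16) (v 2 16) = 0 := by
    refine d.tf_of hp hcF hpp hpK (by decide) (le_refl 16) (le_refl 16) ?_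
    show 2 * (16 + 16) ≠ 16 + 16
    omega
  rw [NN_apply, cr_self_zero h2 h3 hcr htt]
  have := tf_smul_left (0 : F) (0 : I27 → F) (v 2 0)
  rwa [zero_smul, zero_mul] at this

/-- **all weights are exact** -/
theorem Dt.sym (hp : 17 ≤ p) (hcF : CharP F p) (hpp : p.Prime) (hpK : p ≤ Fintype.card K) {t₁ t₂ t₃ : Fin 3} {a b c : ℕ}
    (ha : a ≤ nn t₁) (hb : b ≤ nn t₂)
    (hc : c ≤ nn t₃) (h : NN F (v t₁ a) (v t₂ b) (v t₃ c) ≠ 0) : 2 * (a + b + c) = nn t₁ + nn t₂ + nn t₃ := by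
  have hpf : Fact p.Prime := ⟨hpp⟩
  by_cases h17 : 17 < Fintype.card K
  · exact d.sym_of hp hcF hpp hpK (Or.inr h17) ha hb hc h
  by_cases ht : t₁ = 2 ∧ t₂ = 2 ∧ t₃ = 2
  swap
  · exact d.sym_of hp hcF hpp hpK (Or.inl ht) ha hb hc h
  obtain ⟨rfl, rfl, rfl⟩ := ht
  have hK : Fintype.card K = 17 := by omega
  have e2 : nn 2 = 16 := rfl
  by_contra hcon
  apply h
  refine exact_of (by exact NN_RF) (d.str 2) (d.str 2) (d.str 2) (s := 24) hpK (by rw [e2]; omega) (by rw [e2]; omega) (by rw [e2]; omega)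
    rfl ?_ ha hb hc (by omega)
  intro c hc hcs
  by_contra hne
  have h1 := wt_mod (by exact NN_RF) (d.str 2) (d.str 2) (d.str 2) (Nat.zero_le _) (le_refl (nn 2)) hc hne
  rw [hK, e2] at h1
  rw [e2] at hc
  have h2 : c = 0 ∨ c = 16 := by
    unfold Nat.ModEq at h1
    omega
  rcases h2 with rfl | rfl
  · apply hne
    rw [mirror (by exact NN_RF) (d.str 2) (d.str 2) (d.str 2) (Nat.zero_le _) (le_refl (nn 2)) (Nat.zero_le _)]
    have h3 : NN F (v 2 (nn 2 - 0)) (v 2 (nn 2 - nn 2)) (v 2 (nn 2 - 0)) = 0 := by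
      rw [← NN_rot]
      exact d.top_zero hp hcF hpp hpK
    rw [h3]
    ring
  · apply hne
    show NN F (v 2 0) (v 2 16) (v 2 16) = 0
    rw [NN_rot]
    exact d.top_zero hp hcF hpp hpK

end core

end Cfsg.Agent.R2.F4N
end

-- part: R2/F4N/R8
section
prune_inst 0x1002440110002000000059011001e0282000420004b0000a96001060c80cc0089420e60ac2012021aa0988560310048100000104000000000000400411b018000810202b099ad00320018000000400000000000000000000000000000010000000000000
set_option linter.all false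
open scoped Cfsg.Agent.FastGrp

/-!
# Box R: `J₀ = V_8 ⊕ V_16` implies `q = Q` (lead, S5931)
-/

set_option autoImplicit false
set_option linter.unusedSectionVars false

namespace Cfsg.Agent.R2.F4N

open Cfsg Cfsg.Lie Module Matrix
open Cfsg.Agent.ChevalleyStructure.E6Min.Basic
open Cfsg.Agent.H952.F4 Cfsg.Agent.H952.F4.Jord
open Cfsg.Agent.H952.F4.FixV (W0 mem_W0 finrank_W0 u0_ne_zero tr1_eq)
open Cfsg.Agent.R2.F4M
open Cfsg.Agent.R2.H9.E6
open Cfsg.Agent.R2.GEO (tfB tfB_apply)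
open Cfsg.Agent.R2.H28.SL2 Cfsg.Agent.H943.RepAdd Cfsg.Agent.H943.SL2Mod

universe u v w

variable {F : Type u} [Field F] [Fintype F] {K : Type v} [Field K] [Fintype K] {p a b : ℕ}
variable {H : Subgroup ↥(chevF4.group F)} {φ : ProjectiveSpecialLinearGroup (Fin 2) K →* ↥(chevF4.group F)}

section core

variable {κ : K →+* F} {v : Fin 3 → ℕ → I27 → F} (d : Dt κ φ v)

include d

theorem Dt.onto (hc : Cfg p a b H φ) (hp : 17 ≤ p)
    (hU : Hst H (Submodule.span F (Set.range fun s : Fin 9 => v 1 s))) (c : Fˣ) : ∃ e : K, κ e = c := by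
  have hpp := hc.prime
  have hpf : Fact p.Prime := ⟨hpp⟩
  have hcF := hc.charF
  have hpK : p ≤ Fintype.card K := by
    rw [hc.cardK]
    exact Nat.le_self_pow (by have := hc.ha; omega) p
  have h2 : (2 : F) ≠ 0 := by
    have h := (CharP.cast_eq_zero_iff F p 2).not.2 (fun h => by have := Nat.le_of_dvd (by norm_num) h; omega)
    exact_mod_cast h
  have hcard : Fintype.card (Σ t : Fin 3, Fin (nn t + 1)) = finrank F (I27 → F) := by
    rw [Module.finrank_fintype_fun_eq_card]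
    decide
  let B := basisOfLinearIndependentOfCardEqFinrank d.li hcard
  have hB : ∀ i, B i = v i.1 i.2 := fun i => by
    rw [coe_basisOfLinearIndependentOfCardEqFinrank]
  obtain ⟨z, hz⟩ := exists_lam h2 B (fun i => ((i.2 : ℕ) : ℤ) - ((nn i.1 / 2 : ℕ) : ℤ)) (by
    intro i j l h
    rw [hB, hB, hB] at h
    have h1 := d.sym hp hcF hpp hpK (Nat.lt_succ_iff.1 i.2.2) (Nat.lt_succ_iff.1 j.2.2) (Nat.lt_succ_iff.1 l.2.2) h
    obtain ⟨r₁, e1⟩ := nn_even i.1
    obtain ⟨r₂, e2⟩ := nn_even j.1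
    obtain ⟨r₃, e3⟩ := nn_even l.1
    omega) (by
    intro i hi
    have h0 : u0 F = B ⟨0, 0⟩ := by
      rw [hB]
      exact d.zero.symm
    rw [h0, Basis.repr_self, Finsupp.single_apply] at hi
    split_ifs at hi with h
    · subst h
      rfl
    · exact absurd rfl hi) c
  have hzx : ∀ s ≤ 8, Jr F z (v 1 s) = ((c ^ (-4 + (s : ℤ)) : Fˣ) : F) • v 1 s := by
    intro s hs
    have h1 := hz ⟨1, ⟨s, Nat.lt_succ_iff.2 hs⟩⟩
    rw [hB] at h1
    have e : (-4 : ℤ) + (s : ℤ) = (s : ℤ) - ((nn 1 / 2 : ℕ) : ℤ) := by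
      show (-4 : ℤ) + (s : ℤ) = (s : ℤ) - ((4 : ℕ) : ℤ)
      push_cast
      ring
    rw [e]
    exact h1
  have hli : LinearIndependent F (fun s : Fin (8 + 1) => v 1 s) :=
    d.li.comp (fun s : Fin (8 + 1) => (⟨1, s⟩ : Σ t : Fin 3, Fin (nn t + 1))) (fun s t hst => by
      have := (Sigma.mk.inj hst).2
      exact eq_of_heq this)
  refine mem_range hc (n := 8) (by norm_num) (by omega) (d.str 1) hli hU ?_ (z := z) ?_ (m := -4) hzx
  · refine pr_of_finrank ?_ ?_ <;> rw [finrank_span_eq_card hli, Fintype.card_fin] <;> norm_num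
  · intro w hw
    induction hw using Submodule.span_induction with
    | mem w hw =>
      obtain ⟨s, rfl⟩ := hw
      show Jr F z (v 1 s) ∈ _
      rw [hzx s (Nat.lt_succ_iff.1 s.2)]
      exact Submodule.smul_mem _ _ (Submodule.subset_span ⟨s, rfl⟩)
    | zero =>
      rw [map_zero]
      exact Submodule.zero_mem _
    | add x y _ _ hx hy =>
      rw [map_add]
      exact Submodule.add_mem _ hx hy
    | smul e x _ hx =>
      rw [map_smul]
      exact Submodule.smul_mem _ _ hx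

end core

theorem eq_of_onto (hc : Cfg p a b H φ) (κ : K →+* F) (h : ∀ c : Fˣ, ∃ e : K, κ e = c) : a = b := by
  have hs : Function.Surjective κ := fun c => by
    by_cases h0 : c = 0
    · exact ⟨0, by rw [map_zero, h0]⟩
    · exact h (Units.mk0 c h0)
  have h1 := Fintype.card_of_bijective (⟨κ.injective, hs⟩ : Function.Bijective κ)
  rw [hc.cardF, hc.cardK] at h1
  exact Nat.pow_right_injective hc.prime.two_le h1

variable {k : Type u} [Field k] {f : F →+* k}

theorem tr1_up (x : I27 → F) : tr1 (fun i => f (x i)) = f (tr1 x) := by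
  rw [tr1_eq, tr1_eq, map_add, map_add]

/-- **box R** -/
theorem box_R (hc : Cfg p a b H φ) [IsAlgClosed k] (hp : 17 ≤ p) {X Y : Submodule k (I27 → k)} (hX : Uq f φ X)
    (hY : Uq f φ Y) {κ : K →+* k} {x y : ℕ → I27 → k} (bX : Sb κ f φ X 8 x) (bY : Sb κ f φ Y 16 y) : a = b := by
  have hpf : Fact p.Prime := ⟨hc.prime⟩
  have hcF := hc.charF
  have hk : CharP k p := charP_of_injective_ringHom f.injective p
  have h3 : (3 : k) ≠ 0 := by
    have h := (CharP.cast_eq_zero_iff k p 3).not.2 (fun h => by have := Nat.le_of_dvd (by norm_num) h; omega)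
    exact_mod_cast h
  -- the intersection
  have hXY : ∀ w ∈ X, w ∈ Y → w = 0 := by
    intro w h1 h2
    rcases hX.ir (X ⊓ Y) inf_le_left (fun g z hz => ⟨hX.st g z hz.1, hY.st g z hz.2⟩) with h4 | h4
    · have h5 : w ∈ X ⊓ Y := ⟨h1, h2⟩
      rwa [h4, Submodule.mem_bot] at h5
    · exfalso
      have h5 : X ≤ Y := inf_eq_left.1 h4
      rcases hY.ir X h5 hX.st with h6 | h6
      · exact hX.ne h6
      · have h7 := bX.finrank
        have h8 := bY.finrank
        rw [h6] at h7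
        omega
  obtain ⟨κ', hκ', x', ν, hν, hx', hSx⟩ := hX.rat hc (n := 8) (by norm_num) (by omega) (fun s hs => bX.mem hs)
    (fun s hs => bX.ne hs) bX.str bX.top
  obtain ⟨κ'', hκ'', y', μ, hμ, hy', hSy⟩ := hY.rat hc (n := 16) (by norm_num) (by omega) (fun s hs => bY.mem hs)
    (fun s hs => bY.ne hs) bY.str bY.top
  obtain rfl : κ'' = κ' := by
    ext t
    apply f.injective
    exact (congrArg (fun g : K →+* k => g t) hκ'').trans (congrArg (fun g : K →+* k => g t) hκ').symm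
  let v : Fin 3 → ℕ → I27 → F := ![fun _ => u0 F, x', y']
  have hu0 : (fun i => f (u0 F i)) = u0 k := by
    funext i
    unfold u0
    rw [apply_ite f, map_one, map_zero]
  have hli : LinearIndependent k (fun i : Σ t : Fin 3, Fin (nn t + 1) => (fun l => f (v i.1 i.2 l) : I27 → k)) := by
    rw [Fintype.linearIndependent_iff]
    intro g hg
    rw [Fintype.sum_sigma, Fin.sum_univ_three] at hg
    have e0 : ∑ s : Fin (nn 0 + 1), g ⟨0, s⟩ • (fun l => f (v 0 s l) : I27 → k) = g ⟨0, 0⟩ • u0 k := by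
      have : ∑ s : Fin (nn 0 + 1), g ⟨0, s⟩ • (fun l => f (v 0 s l) : I27 → k) = g ⟨0, 0⟩ • (fun l => f (v 0 0 l) : I27 → k) :=
        Fin.sum_univ_one _
      rw [this]
      congr 1
    have e1 : ∑ s : Fin (nn 1 + 1), g ⟨1, s⟩ • (fun l => f (v 1 s l) : I27 → k) = ∑ s : Fin (8 + 1), (g ⟨1, s⟩ * ν) • x s := by
      refine Finset.sum_congr rfl fun s _ => ?_
      show g ⟨1, s⟩ • (fun l => f (x' s l) : I27 → k) = _
      rw [hx' s (Nat.lt_succ_iff.1 s.2), smul_smul]
    have e2 : ∑ s : Fin (nn 2 + 1), g ⟨2, s⟩ • (fun l => f (v 2 s l) : I27 → k) =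
        ∑ s : Fin (16 + 1), (g ⟨2, s⟩ * μ) • y s := by
      refine Finset.sum_congr rfl fun s _ => ?_
      show g ⟨2, s⟩ • (fun l => f (y' s l) : I27 → k) = _
      rw [hy' s (Nat.lt_succ_iff.1 s.2), smul_smul]
    rw [e0, e1, e2] at hg
    have hA : ∑ s : Fin (8 + 1), (g ⟨1, s⟩ * ν) • x s ∈ X := Submodule.sum_mem _ fun s _ =>
      Submodule.smul_mem _ _ (bX.mem (Nat.lt_succ_iff.1 s.2))
    have hB : ∑ s : Fin (16 + 1), (g ⟨2, s⟩ * μ) • y s ∈ Y := Submodule.sum_mem _ fun s _ =>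
      Submodule.smul_mem _ _ (bY.mem (Nat.lt_succ_iff.1 s.2))
    have h4 := congrArg tr1 hg
    rw [tr1_add, tr1_add, tr1_smul, tr1_u0, (mem_W0 _).1 (hX.le hA), (mem_W0 _).1 (hY.le hB), add_zero, add_zero,
      show tr1 (0 : I27 → k) = 0 from (mem_W0 _).1 (Submodule.zero_mem _)] at h4
    have h5 : g ⟨0, 0⟩ = 0 := (mul_eq_zero.1 h4).resolve_right h3
    rw [h5, zero_smul, zero_add] at hg
    have h6 : ∑ s : Fin (8 + 1), (g ⟨1, s⟩ * ν) • x s = 0 := hXY _ hA (by
      rw [eq_neg_of_add_eq_zero_left hg]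
      exact Submodule.neg_mem _ hB)
    rw [h6, zero_add] at hg
    have h7 := Fintype.linearIndependent_iff.1 bX.li _ h6
    have h8 := Fintype.linearIndependent_iff.1 bY.li _ hg
    rintro ⟨t, s⟩
    fin_cases t
    · have : s = 0 := Subsingleton.elim (α := Fin 1) _ _
      rw [this]
      exact h5
    · exact (mul_eq_zero.1 (h7 s)).resolve_right hν
    · exact (mul_eq_zero.1 (h8 s)).resolve_right hμ
  have d : Dt κ'' φ v := by
    refine ⟨fun t => ?_, rfl, fun s hs => ?_, fun s hs => ?_, up_li hli⟩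
    · fin_cases t
      · exact Str.const fun g => Jr_u0 _
      · exact hSx
      · exact hSy
    · apply f.injective
      rw [← tr1_up, map_zero]
      show tr1 (fun i => f (x' s i)) = 0
      rw [hx' s hs]
      exact (mem_W0 _).1 (hX.le (X.smul_mem _ (bX.mem hs)))
    · apply f.injective
      rw [← tr1_up, map_zero]
      show tr1 (fun i => f (y' s i)) = 0
      rw [hy' s hs]
      exact (mem_W0 _).1 (hY.le (Y.smul_mem _ (bY.mem hs)))
  have hsp : dn f X = Submodule.span F (Set.range fun s : Fin 9 => v 1 s) := by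
    refine dn_span (p := p) (b := b) hc.cardF ?_ ?_
    · exact hli.comp (fun s : Fin (8 + 1) => (⟨1, s⟩ : Σ t : Fin 3, Fin (nn t + 1))) (fun s t hst => by
        have := (Sigma.mk.inj hst).2
        exact eq_of_heq this)
    · have h4 : (fun s : Fin 9 => (fun i => f (v 1 s i) : I27 → k)) = fun s : Fin (8 + 1) => ν • x s := by
        funext s
        exact hx' s (Nat.lt_succ_iff.1 s.2)
      rw [h4, bX.sp]
      apply le_antisymm
      · rw [Submodule.span_le]
        rintro _ ⟨s, rfl⟩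
        have h5 : x s = ν⁻¹ • (ν • x s) := by rw [smul_smul, inv_mul_cancel₀ hν, one_smul]
        show x s ∈ _
        rw [h5]
        exact Submodule.smul_mem _ _ (Submodule.subset_span ⟨s, rfl⟩)
      · rw [Submodule.span_le]
        rintro _ ⟨s, rfl⟩
        exact Submodule.smul_mem _ _ (Submodule.subset_span ⟨s, rfl⟩)
  refine eq_of_onto hc κ'' (d.onto hc hp ?_)
  rw [← hsp]
  exact hX.hst hc

end Cfsg.Agent.R2.F4N
end

-- part: R2/F4N/Orth
section
prune_inst 0x10000000000000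
set_option linter.all false
open scoped Cfsg.Agent.FastGrp

/-!
# `J₀ = V_8^{(r)} ⊕ V_16^{(s)}`, `r ≠ s`, is impossible (lead, S5931)
-/

set_option autoImplicit false
set_option linter.unusedSectionVars false

namespace Cfsg.Agent.R2.F4N

open Cfsg Cfsg.Lie Module Matrix
open Cfsg.Agent.ChevalleyStructure.E6Min.Basic
open Cfsg.Agent.H952.F4 Cfsg.Agent.H952.F4.Jord
open Cfsg.Agent.H952.F4.FixV (W0 mem_W0 finrank_W0 u0_ne_zero tr1_eq)
open Cfsg.Agent.R2.F4M
open Cfsg.Agent.R2.H9.E6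
open Cfsg.Agent.R2.H28.SL2 Cfsg.Agent.H943.RepAdd Cfsg.Agent.H943.SL2Mod

universe u v w

/-! ## Arithmetic -/

theorem dvd_cases {p a d : ℕ} (hp : 17 ≤ p) (hd : 1 ≤ d) (hda : d < a) :
    ∃ P R : ℤ, (p : ℤ) ^ d = P ∧ 17 ≤ P ∧ P ≤ R ∧ 17 * R ≤ (p : ℤ) ^ a := by
  obtain ⟨c, rfl⟩ : ∃ c, a = c + 1 := ⟨a - 1, by omega⟩
  refine ⟨(p : ℤ) ^ d, (p : ℤ) ^ c, rfl, ?_, ?_, ?_⟩
  · have h1 : 17 ≤ p ^ d := by
      calc 17 ≤ p := hp
        _ = p ^ 1 := (pow_one p).symm
        _ ≤ p ^ d := Nat.pow_le_pow_right (by omega) hd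
    exact_mod_cast h1
  · have h1 : p ^ d ≤ p ^ c := Nat.pow_le_pow_right (by omega) (by omega)
    exact_mod_cast h1
  · have h1 : 17 * p ^ c ≤ p ^ (c + 1) := by
      rw [pow_succ, mul_comm]
      exact Nat.mul_le_mul_left _ hp
    exact_mod_cast h1

/-- a multiple of `M` of absolute value at most `M` -/
theorem dvd_small {M E : ℤ} (hM : 0 < M) (h : M ∣ E) (h1 : -M ≤ E) (h2 : E ≤ M) : E = 0 ∨ E = M ∨ E = -M := by
  obtain ⟨c, rfl⟩ := h
  have h3 : -1 ≤ c := by nlinarith only [hM, h1]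
  have h4 : c ≤ 1 := by nlinarith only [hM, h2, h3]
  obtain rfl | rfl | rfl : c = -1 ∨ c = 0 ∨ c = 1 := by omega
  · right; right; ring
  · left; ring
  · right; left; ring

theorem digA {p a d : ℕ} (hp : 17 ≤ p) (hd : 1 ≤ d) (hda : d < a) {A B : ℤ} (hA1 : -16 ≤ A) (hA2 : A ≤ 16)
    (hB1 : -16 ≤ B) (hB2 : B ≤ 16) (h : (p : ℤ) ^ a - 1 ∣ A + B * (p : ℤ) ^ d) :
    (A = 0 ∧ B = 0) ∨ (A = 16 ∧ B = 16) ∨ (A = -16 ∧ B = -16) := by
  obtain ⟨P, R, hP, h17, hPR, hR⟩ := dvd_cases hp hd hda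
  rw [hP] at h
  rcases dvd_small (by linarith only [h17, hPR, hR]) h (by nlinarith only [hA1, hB1, h17, hPR, hR]) (by nlinarith only [hA2, hB2, h17, hPR, hR]) with h1 | h1 | h1
  · left
    have hB : B = 0 := by
      by_contra hB
      rcases lt_or_gt_of_ne hB with h2 | h2
      · nlinarith only [hA2, h17, h1, h2]
      · nlinarith only [hA1, h17, h1, h2]
    rw [hB] at h1
    exact ⟨by linarith only [h1], hB⟩
  · right; left
    have hB : B = 16 := by
      by_contra hB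
      have : B ≤ 15 := by omega
      nlinarith only [hA2, h17, hPR, hR, h1, this]
    rw [hB] at h1
    refine ⟨?_, hB⟩
    by_contra hA
    have : A ≤ 15 := by omega
    linarith only [h17, hPR, hR, h1, this]
  · right; right
    have hB : B = -16 := by
      by_contra hB
      have : -15 ≤ B := by omega
      nlinarith only [hA1, h17, hPR, hR, h1, this]
    rw [hB] at h1
    refine ⟨?_, hB⟩
    by_contra hA
    have : -15 ≤ A := by omega
    linarith only [h17, hPR, hR, h1, this]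

theorem digB {p a d : ℕ} (hp : 17 ≤ p) (hpp : p.Prime) (hd : 1 ≤ d) (hda : d < a) {A B : ℤ} (hA1 : -8 ≤ A) (hA2 : A ≤ 8)
    (hB1 : -32 ≤ B) (hB2 : B ≤ 32) (hBe : Even B) (h : (p : ℤ) ^ a - 1 ∣ A * (p : ℤ) ^ d + B) : A = 0 ∧ B = 0 := by
  obtain ⟨P, R, hP, h17, hPR, hR⟩ := dvd_cases hp hd hda
  have h0 : A * (p : ℤ) ^ d + B = 0 := by
    rw [hP] at h ⊢
    rcases dvd_small (by linarith only [h17, hPR, hR]) h (by nlinarith only [hA1, hB1, h17, hPR, hR]) (by nlinarith only [hA2, hB2, h17, hPR, hR]) with h1 | h1 | h1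
    · exact h1
    · nlinarith only [hA2, hB2, h17, hPR, hR, h1]
    · nlinarith only [hA1, hB1, h17, hPR, hR, h1]
  have h1 : (p : ℤ) ∣ B := by
    have h2 : (p : ℤ) ∣ A * (p : ℤ) ^ d := (dvd_pow_self _ (by omega)).mul_left _
    have h3 : B = -(A * (p : ℤ) ^ d) := by linarith only [h0]
    rw [h3]
    exact h2.neg_right
  obtain ⟨c, rfl⟩ := h1
  have hp' : (17 : ℤ) ≤ p := by exact_mod_cast hp
  have hc1 : -1 ≤ c := by nlinarith only [hp, hB1]
  have hc2 : c ≤ 1 := by nlinarith only [hp, hB2]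
  have hodd : ¬ Even (p : ℤ) := by
    rw [Int.even_coe_nat]
    intro h2
    have := (Nat.Prime.even_iff hpp).1 h2
    omega
  have hc : c = 0 := by
    rcases (by omega : c = -1 ∨ c = 0 ∨ c = 1) with rfl | rfl | rfl
    · exfalso
      apply hodd
      rwa [mul_neg, mul_one, even_neg] at hBe
    · rfl
    · exfalso
      apply hodd
      rwa [mul_one] at hBe
  subst hc
  rw [mul_zero] at h0 ⊢
  refine ⟨?_, rfl⟩
  rw [add_zero] at h0
  exact (mul_eq_zero.1 h0).resolve_right (by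
    have : (p : ℤ) ≠ 0 := by linarith only [hp]
    exact pow_ne_zero _ this)

/-- `p ^ a - 1` is prime to `p` -/
theorem dvd_of_mul {p a r : ℕ} (ha : 1 ≤ a) {E : ℤ} (h : (p : ℤ) ^ a - 1 ∣ (p : ℤ) ^ r * E) : (p : ℤ) ^ a - 1 ∣ E := by
  have h1 : IsCoprime ((p : ℤ) ^ a - 1) ((p : ℤ) ^ r) := by
    apply IsCoprime.pow_right
    refine ⟨-1, (p : ℤ) ^ (a - 1), ?_⟩
    have : (p : ℤ) ^ (a - 1) * p = (p : ℤ) ^ a := by
      rw [← pow_succ]
      congr 1
      omega
    rw [this]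
    ring
  exact h1.dvd_of_dvd_mul_left h

theorem dig2A {p a r s : ℕ} (hp : 17 ≤ p) (hr : r < a) (hs : s < a) (hrs : r ≠ s) {A B : ℤ} (hA1 : -16 ≤ A) (hA2 : A ≤ 16)
    (hB1 : -16 ≤ B) (hB2 : B ≤ 16) (h : (p : ℤ) ^ a - 1 ∣ (p : ℤ) ^ r * A + (p : ℤ) ^ s * B) :
    (A = 0 ∧ B = 0) ∨ (A = 16 ∧ B = 16) ∨ (A = -16 ∧ B = -16) := by
  rcases lt_or_gt_of_ne hrs with h1 | h1
  · refine digA hp (d := s - r) (by omega) (by omega : s - r < a) hA1 hA2 hB1 hB2 (dvd_of_mul (r := r) (by omega) ?_)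
    have h2 : (p : ℤ) ^ s = (p : ℤ) ^ r * (p : ℤ) ^ (s - r) := by
      rw [← pow_add]
      congr 1
      omega
    rw [h2] at h
    convert h using 1
    ring
  · have := digA hp (d := r - s) (by omega) (by omega : r - s < a) hB1 hB2 hA1 hA2 (dvd_of_mul (r := s) (by omega) (by
      have h2 : (p : ℤ) ^ r = (p : ℤ) ^ s * (p : ℤ) ^ (r - s) := by
        rw [← pow_add]
        congr 1
        omega
      rw [h2] at h
      convert h using 1
      ring))
    omega

theorem dig2B {p a r s : ℕ} (hp : 17 ≤ p) (hpp : p.Prime) (hr : r < a) (hs : s < a) (hrs : r ≠ s) {A B : ℤ} (hA1 : -8 ≤ A)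
    (hA2 : A ≤ 8) (hB1 : -32 ≤ B) (hB2 : B ≤ 32) (hBe : Even B) (h : (p : ℤ) ^ a - 1 ∣ (p : ℤ) ^ r * A + (p : ℤ) ^ s * B) :
    A = 0 ∧ B = 0 := by
  rcases lt_or_gt_of_ne hrs with h1 | h1
  · refine digB hp hpp (d := a - (s - r)) (by omega) (by omega : a - (s - r) < a) hA1 hA2 hB1 hB2 hBe ?_
    have h2 : (p : ℤ) ^ s = (p : ℤ) ^ r * (p : ℤ) ^ (s - r) := by
      rw [← pow_add]
      congr 1
      omega
    have h3 : (p : ℤ) ^ a - 1 ∣ A + (p : ℤ) ^ (s - r) * B := dvd_of_mul (r := r) (by omega) (by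
      rw [h2] at h
      convert h using 1
      ring)
    have h4 : (p : ℤ) ^ (a - (s - r)) * (p : ℤ) ^ (s - r) = (p : ℤ) ^ a := by
      rw [← pow_add]
      congr 1
      omega
    have h5 : A * (p : ℤ) ^ (a - (s - r)) + B = (p : ℤ) ^ (a - (s - r)) * (A + (p : ℤ) ^ (s - r) * B) -
        ((p : ℤ) ^ a - 1) * B := by
      rw [← h4]
      ring
    rw [h5]
    exact (h3.mul_left _).sub (Dvd.intro _ rfl)
  · refine digB hp hpp (d := r - s) (by omega) (by omega : r - s < a) hA1 hA2 hB1 hB2 hBe (dvd_of_mul (r := s) (by omega) ?_)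
    have h2 : (p : ℤ) ^ r = (p : ℤ) ^ s * (p : ℤ) ^ (r - s) := by
      rw [← pow_add]
      congr 1
      omega
    rw [h2] at h
    convert h using 1
    ring

end Cfsg.Agent.R2.F4N
end

-- part: R2/F4N/Orth2
section
prune_inst 0x1002000110000000000058011001e028200042000480000e84000040c808c4089400860a02010121aa88085003100481100001002000000000004000119008000810202b089a000200010000000400000000000000000000000000000000004000000000
set_option linter.all false
open scoped Cfsg.Agent.FastGrp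

/-!
# `J₀ = V_8^{(r)} ⊕ V_16^{(s)}` (lead, S5931)
-/

set_option autoImplicit false
set_option linter.unusedSectionVars false

namespace Cfsg.Agent.R2.F4N

open Cfsg Cfsg.Lie Module Matrix
open Cfsg.Agent.ChevalleyStructure.E6Min.Basic
open Cfsg.Agent.H952.F4 Cfsg.Agent.H952.F4.Jord
open Cfsg.Agent.H952.F4.FixV (W0 mem_W0 finrank_W0 u0_ne_zero tr1_eq)
open Cfsg.Agent.R2.F4M
open Cfsg.Agent.R2.H9.E6
open Cfsg.Agent.R2.H28.SL2 Cfsg.Agent.H943.RepAdd Cfsg.Agent.H943.SL2Mod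

universe u v w

section ev

variable {k : Type u} [Field k] {K : Type w} [Field K] {W : Type v} [AddCommGroup W] [Module k W]
variable (ι : K →+* k) (ρ : Representation k (_root_.Matrix.SpecialLinearGroup (Fin 2) K) W)

/-- weight vectors -/
def Ev (v : W) (e : ℤ) : Prop :=
  ∀ a : Kˣ, ρ (Cfsg.Agent.H943.SL2Rel.h a) v = ((Units.map (ι : K →* k) a ^ e : kˣ) : k) • v

variable {ι ρ}

theorem Str.ev {p r : ℕ} [Fact p.Prime] [CharP k p] {n : ℕ} {x : ℕ → W} (h : Str ((iterateFrobenius k p r).comp ι) ρ n x)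
    {s : ℕ} (hs : s ≤ n) : Ev ι ρ (x s) ((p : ℤ) ^ r * (2 * s - n)) := by
  intro a
  rw [h.h s hs a]
  congr 1
  have h1 : ((iterateFrobenius k p r).comp ι) (a : K) = ((Units.map (ι : K →* k) a ^ (p ^ r) : kˣ) : k) := by
    rw [Units.val_pow_eq_pow_val]
    exact iterateFrobenius_def p r (ι a)
  rw [h1, ← Units.val_inv_eq_inv_val, ← Units.val_pow_eq_pow_val, ← Units.val_pow_eq_pow_val, ← Units.val_mul]
  congr 1
  rw [← zpow_natCast, ← zpow_natCast, ← zpow_natCast, ← _root_.zpow_neg, ← _root_.zpow_mul, ← _root_.zpow_mul,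
    ← _root_.zpow_add]
  congr 1
  have : ((n - s : ℕ) : ℤ) = (n : ℤ) - s := by omega
  rw [this]
  push_cast
  ring

theorem ev_dvd [Fintype K] {N : W →ₗ[k] W →ₗ[k] W →ₗ[k] k} (hN : ∀ g x y z, N (ρ g x) (ρ g y) (ρ g z) = N x y z)
    {x y z : W} {e₁ e₂ e₃ : ℤ} (hx : Ev ι ρ x e₁) (hy : Ev ι ρ y e₂) (hz : Ev ι ρ z e₃) (h : N x y z ≠ 0) :
    ((Fintype.card K - 1 : ℕ) : ℤ) ∣ e₁ + e₂ + e₃ := by
  classical
  obtain ⟨r, hr⟩ := IsCyclic.exists_ofOrder_eq_natCard (α := Kˣ)
  have h1 := hN (Cfsg.Agent.H943.SL2Rel.h r) x y z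
  rw [hx r, hy r, hz r] at h1
  simp only [map_smul, LinearMap.smul_apply, smul_eq_mul] at h1
  have h2 : (((Units.map (ι : K →* k) r ^ (e₁ + e₂ + e₃) : kˣ) : k)) = 1 := by
    rw [_root_.zpow_add, _root_.zpow_add, Units.val_mul, Units.val_mul]
    refine mul_right_cancel₀ h ?_
    rw [one_mul]
    refine Eq.trans ?_ h1
    ring
  have h3 : (Units.map (ι : K →* k) r) ^ (e₁ + e₂ + e₃) = 1 := Units.ext h2
  have h4 := orderOf_dvd_iff_zpow_eq_one.2 h3
  have h5 : orderOf (Units.map (ι : K →* k) r) = orderOf r :=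
    orderOf_injective _ (Units.map_injective ι.injective) r
  rwa [h5, hr, Nat.card_eq_fintype_card, Fintype.card_units] at h4

/-- one step -/
theorem kill {N : W →ₗ[k] W →ₗ[k] W →ₗ[k] k} (hN : ∀ g x y z, N (ρ g x) (ρ g y) (ρ g z) = N x y z)
    {κ₁ κ₂ κ₃ : K →+* k} {m₁ m₂ m₃ : ℕ} {x y z : ℕ → W} (hx : Str κ₁ ρ m₁ x) (hy : Str κ₂ ρ m₂ y) (hz : Str κ₃ ρ m₃ z)
    {i j l : ℕ} (hi : i ≤ m₁) (hj : j ≤ m₂) (hl : l < m₃) (hc : ((m₃ - l : ℕ) : k) ≠ 0)
    (h0 : ∀ e f g, i + e ≤ m₁ → j + f ≤ m₂ → l + g ≤ m₃ → ¬ (e = 0 ∧ f = 0 ∧ g = 1) → N (x (i + e)) (y (j + f)) (z (l + g)) = 0) :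
    N (x i) (y j) (z (l + 1)) = 0 := by
  have h1 := hN (Cfsg.Agent.H943.SL2Rel.u 1) (x i) (y j) (z l)
  rw [hx.u i hi, hy.u j hj, hz.u l hl.le] at h1
  have h2 := h0 0 0 0 hi hj hl.le (by omega)
  rw [add_zero, add_zero, add_zero] at h2
  rw [h2] at h1
  simp only [map_sum, LinearMap.sum_apply, map_smul, LinearMap.smul_apply, smul_eq_mul, map_one, one_pow, mul_one] at h1
  have h3 : ∀ g ∈ Finset.range (m₃ - l + 1), ∀ f ∈ Finset.range (m₂ - j + 1), ∀ e ∈ Finset.range (m₁ - i + 1),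
      ¬ (e = 0 ∧ f = 0 ∧ g = 1) → N (x (i + e)) (y (j + f)) (z (l + g)) = 0 := by
    intro g hg f hf e he h
    rw [Finset.mem_range] at hg hf he
    exact h0 e f g (by omega) (by omega) (by omega) h
  rw [Finset.sum_eq_single 1, Finset.sum_eq_single 0, Finset.sum_eq_single 0] at h1
  · rw [Nat.choose_zero_right, Nat.choose_zero_right, Nat.cast_one, one_mul, one_mul, Nat.choose_one_right, add_zero,
      add_zero] at h1
    exact (mul_eq_zero.1 h1).resolve_left hc
  · intro e he hne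
    rw [h3 1 (Finset.mem_range.2 (by omega)) 0 (Finset.mem_range.2 (by omega)) e he (by (clear * - e hne; tauto)), mul_zero]
  · intro h
    exact absurd (Finset.mem_range.2 (by omega)) h
  · intro f hf hne
    rw [Finset.sum_eq_zero, mul_zero]
    intro e he
    rw [h3 1 (Finset.mem_range.2 (by omega)) f hf e he (by (clear * - f hne e; tauto)), mul_zero]
  · intro h
    exact absurd (Finset.mem_range.2 (by omega)) h
  · intro g hg hne
    rw [Finset.sum_eq_zero, mul_zero]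
    intro f hf
    rw [Finset.sum_eq_zero, mul_zero]
    intro e he
    rw [h3 g hg f hf e he (by (clear * - g hne f e; tauto)), mul_zero]
  · intro h
    exact absurd (Finset.mem_range.2 (by omega)) h

theorem mirror_w {N : W →ₗ[k] W →ₗ[k] W →ₗ[k] k} (hN : ∀ g x y z, N (ρ g x) (ρ g y) (ρ g z) = N x y z)
    {κ₁ κ₂ κ₃ : K →+* k} {m₁ m₂ m₃ : ℕ} {x y z : ℕ → W} (hx : Str κ₁ ρ m₁ x) (hy : Str κ₂ ρ m₂ y) (hz : Str κ₃ ρ m₃ z)
    {a b c : ℕ} (ha : a ≤ m₁) (hb : b ≤ m₂) (hc : c ≤ m₃) (h : N (x (m₁ - a)) (y (m₂ - b)) (z (m₃ - c)) = 0) :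
    N (x a) (y b) (z c) = 0 := by
  rw [← hN Cfsg.Agent.H943.SL2Rel.w, hx.w a ha, hy.w b hb, hz.w c hc]
  simp only [map_smul, LinearMap.smul_apply, smul_eq_mul, h, mul_zero]

end ev

section cl

variable {F : Type u} [Field F] {K : Type v} [Field K] [Fintype K] {k : Type u} [Field k] {f : F →+* k}
variable {φ : ProjectiveSpecialLinearGroup (Fin 2) K →* ↥(chevF4.group F)}

theorem NN_Rk (g : _root_.Matrix.SpecialLinearGroup (Fin 2) K) (x y z : I27 → k) :
    NN k (Rk f φ g x) (Rk f φ g y) (Rk f φ g z) = NN k x y z := by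
  rw [NN_apply, NN_apply, Rk_cr, Rk_tf]

variable {ι : K →+* k} {p a r s : ℕ} [Fact p.Prime] [CharP k p]
variable {x y : ℕ → I27 → k} (hx : Str ((iterateFrobenius k p r).comp ι) (Rk f φ) 8 x)
  (hy : Str ((iterateFrobenius k p s).comp ι) (Rk f φ) 16 y)
  (hp : 17 ≤ p) (hK : Fintype.card K = p ^ a) (hr : r < a) (hs : s < a) (hrs : r ≠ s)

theorem card_int (hp : 17 ≤ p) (hK : Fintype.card K = p ^ a) : ((Fintype.card K - 1 : ℕ) : ℤ) = (p : ℤ) ^ a - 1 := by
  rw [hK, Nat.cast_sub (Nat.one_le_pow _ _ (by omega))]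
  push_cast
  ring

theorem cast_ne (hp : 17 ≤ p) {n : ℕ} (h1 : 1 ≤ n) (hn : n < 17) : (n : k) ≠ 0 := by
  rw [Ne, CharP.cast_eq_zero_iff k p]
  intro h
  have := Nat.le_of_dvd h1 h
  omega

include hx hy hp hK hr hs hrs

theorem wtA {i j l : ℕ} (hi : i ≤ 8) (hj : j ≤ 8) (hl : l ≤ 16) (h : NN k (x i) (x j) (y l) ≠ 0) :
    (i + j = 8 ∧ l = 8) ∨ (i = 8 ∧ j = 8 ∧ l = 16) ∨ (i = 0 ∧ j = 0 ∧ l = 0) := by
  have h1 := ev_dvd (NN_Rk (f := f) (φ := φ)) (hx.ev hi) (hx.ev hj) (hy.ev hl) h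
  rw [card_int hp hK] at h1
  have h2 := dig2A hp hr hs hrs (A := 2 * (i + j) - 16) (B := 2 * l - 16) (by omega) (by omega) (by omega) (by omega) (by
    convert h1 using 1
    push_cast
    ring)
  (clear * - hi hj h2; (solve | lia | omega))

theorem wtB {i j l : ℕ} (hi : i ≤ 8) (hj : j ≤ 16) (hl : l ≤ 16) (h : NN k (y j) (y l) (x i) ≠ 0) :
    i = 4 ∧ j + l = 16 := by
  have h1 := ev_dvd (NN_Rk (f := f) (φ := φ)) (hy.ev hj) (hy.ev hl) (hx.ev hi) h
  rw [card_int hp hK] at h1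
  have h2 := dig2B hp Fact.out hr hs hrs (A := 2 * i - 8) (B := 2 * (j + l) - 32) (by omega) (by omega) (by omega) (by omega)
    ⟨j + l - 16, by ring⟩ (by
    convert h1 using 1
    push_cast
    ring)
  omega

theorem ev_u0 : Ev ι (Rk f φ) (u0 k) 0 := by
  intro a
  rw [Rk_u0, zpow_zero, Units.val_one, one_smul]

theorem wtC {i j : ℕ} (hi : i ≤ 8) (hj : j ≤ 16) (h : NN k (u0 k) (x i) (y j) ≠ 0) : i = 4 ∧ j = 8 := by
  have h1 := ev_dvd (NN_Rk (f := f) (φ := φ)) (ev_u0 hx hy hp hK hr hs hrs) (hx.ev hi) (hy.ev hj) h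
  rw [card_int hp hK] at h1
  have h2 := dig2A hp hr hs hrs (A := 2 * i - 8) (B := 2 * j - 16) (by omega) (by omega) (by omega) (by omega) (by
    convert h1 using 1
    push_cast
    ring)
  omega

theorem clA {i j l : ℕ} (hi : i ≤ 8) (hj : j ≤ 8) (hl : l ≤ 16) : NN k (x i) (x j) (y l) = 0 := by
  have h0 : NN k (x 8) (x 8) (y 16) = 0 := by
    refine kill (l := 15) (by exact NN_Rk) hx hx hy le_rfl le_rfl (by norm_num) (cast_ne hp (by norm_num) (by norm_num)) ?_
    intro e f' g he hf hg hne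
    by_contra h
    have := wtA hx hy hp hK hr hs hrs he hf hg h
    omega
  by_contra h
  rcases wtA hx hy hp hK hr hs hrs hi hj hl h with ⟨h1, rfl⟩ | ⟨rfl, rfl, rfl⟩ | ⟨rfl, rfl, rfl⟩
  · apply h
    refine kill (l := 7) (by exact NN_Rk) hx hx hy hi hj (by norm_num) (cast_ne hp (by norm_num) (by norm_num)) ?_
    intro e f' g he hf hg hne
    by_contra h'
    rcases wtA hx hy hp hK hr hs hrs he hf hg h' with h2 | ⟨e1, e2, e3⟩ | h2
    · omega
    · rw [e1, e2, e3] at h'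
      exact h' h0
    · omega
  · exact h h0
  · exact h (mirror_w (by exact NN_Rk) hx hx hy (Nat.zero_le _) (Nat.zero_le _) (Nat.zero_le _) h0)

theorem clB {i j l : ℕ} (hi : i ≤ 8) (hj : j ≤ 16) (hl : l ≤ 16) : NN k (y j) (y l) (x i) = 0 := by
  by_contra h
  obtain ⟨rfl, h1⟩ := wtB hx hy hp hK hr hs hrs hi hj hl h
  apply h
  refine kill (l := 3) (by exact NN_Rk) hy hy hx hj hl (by norm_num) (cast_ne hp (by norm_num) (by norm_num)) ?_
  intro e f' g he hf hg hne
  by_contra h'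
  have := wtB hx hy hp hK hr hs hrs hg he hf h'
  omega

theorem clC {i j : ℕ} (hi : i ≤ 8) (hj : j ≤ 16) : NN k (u0 k) (x i) (y j) = 0 := by
  by_contra h
  obtain ⟨rfl, rfl⟩ := wtC hx hy hp hK hr hs hrs hi hj h
  apply h
  refine kill (l := 7) (i := 0) (by exact NN_Rk) (Str.const (κ := ι) (v := u0 k) (fun g => Rk_u0 f φ g)) hx hy (Nat.zero_le _) hi (by norm_num)
    (cast_ne hp (by norm_num) (by norm_num)) ?_
  intro e f' g he hf hg hne
  by_contra h'
  have := wtC hx hy hp hK hr hs hrs hf hg h'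
  omega

end cl

section main

variable {F : Type u} [Field F] {K : Type v} [Field K] [Fintype K] {k : Type u} [Field k] {f : F →+* k}
variable {φ : ProjectiveSpecialLinearGroup (Fin 2) K →* ↥(chevF4.group F)}

theorem span_zero {κ : K →+* k} {X : Submodule k (I27 → k)} {n : ℕ} {x : ℕ → I27 → k} (b : Sb κ f φ X n x)
    (L : (I27 → k) →ₗ[k] k) (h : ∀ s ≤ n, L (x s) = 0) {v : I27 → k} (hv : v ∈ X) : L v = 0 := by
  have h1 : X ≤ LinearMap.ker L := by
    rw [b.sp, Submodule.span_le]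
    rintro _ ⟨s, rfl⟩
    exact h s (Nat.lt_succ_iff.1 s.2)
  exact h1 hv

/-- **unequal twists** -/
theorem box_E_ne {ι : K →+* k} {p a r s : ℕ} [Fact p.Prime] [CharP k p] (hp : 17 ≤ p) (hK : Fintype.card K = p ^ a)
    (hr : r < a) (hs : s < a) (hrs : r ≠ s) {X Y : Submodule k (I27 → k)} {x y : ℕ → I27 → k} (hX : X ≤ W0 k) (hY : Y ≤ W0 k)
    (hXY : ∀ w ∈ X, w ∈ Y → w = 0)
    (bX : Sb ((iterateFrobenius k p r).comp ι) f φ X 8 x) (bY : Sb ((iterateFrobenius k p s).comp ι) f φ Y 16 y) : False := by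
  have h2 : (2 : k) ≠ 0 := by exact_mod_cast cast_ne (k := k) hp (n := 2) (by norm_num) (by norm_num)
  have h3 : (3 : k) ≠ 0 := by exact_mod_cast cast_ne (k := k) hp (n := 3) (by norm_num) (by norm_num)
  have tX : ∀ v ∈ X, tr1 v = 0 := fun v hv => (mem_W0 v).1 (hX hv)
  have tY : ∀ v ∈ Y, tr1 v = 0 := fun v hv => (mem_W0 v).1 (hY hv)
  have hA : ∀ v ∈ X, ∀ v' ∈ X, ∀ w ∈ Y, NN k v v' w = 0 := by
    intro v hv v' hv' w hw
    refine span_zero bY (NN k v v') (fun l hl => ?_) hw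
    rw [← NN_rot]
    refine span_zero bX (NN k (y l) v) (fun j hj => ?_) hv'
    rw [NN_rot, NN_rot]
    have h5 : NN k (x j) (y l) v = 0 := by
      refine span_zero bX (NN k (x j) (y l)) (fun i hi => ?_) hv
      rw [NN_rot, NN_rot]
      exact clA bX.str bY.str hp hK hr hs hrs hi hj hl
    exact h5
  have hB : ∀ w ∈ Y, ∀ w' ∈ Y, ∀ v ∈ X, NN k w w' v = 0 := by
    intro w hw w' hw' v hv
    refine span_zero bX (NN k w w') (fun i hi => ?_) hv
    rw [← NN_rot]
    refine span_zero bY (NN k (x i) w) (fun l hl => ?_) hw'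
    rw [NN_rot, NN_rot]
    have h5 : NN k (y l) (x i) w = 0 := by
      refine span_zero bY (NN k (y l) (x i)) (fun j hj => ?_) hw
      rw [NN_rot, NN_rot]
      exact clB bX.str bY.str hp hK hr hs hrs hi hj hl
    exact h5
  have hC : ∀ v ∈ X, ∀ w ∈ Y, tf v w = 0 := by
    intro v hv w hw
    have h4 : NN k (u0 k) v w = 0 := by
      refine span_zero bY (NN k (u0 k) v) (fun j hj => ?_) hw
      rw [← NN_rot]
      refine span_zero bX (NN k (y j) (u0 k)) (fun i hi => ?_) hv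
      rw [NN_rot]
      exact clC bX.str bY.str hp hK hr hs hrs hi hj
    rw [NN_u0, tX v hv, zero_mul, zero_sub, neg_eq_zero] at h4
    exact h4
  -- the sum
  have hsum : X ⊔ Y = W0 k := by
    refine Submodule.eq_of_le_of_finrank_eq (sup_le hX hY) ?_
    have h4 := Submodule.finrank_sup_add_finrank_inf_eq X Y
    have h5 : X ⊓ Y = ⊥ := by
      rw [eq_bot_iff]
      intro w hw
      exact (Submodule.mem_bot k).2 (hXY w hw.1 hw.2)
    rw [h5, finrank_bot, add_zero, bX.finrank, bY.finrank] at h4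
    rw [h4, finrank_W0]
  have hnd : ∀ w : I27 → k, tr1 w = 0 → (∀ v ∈ X, tf w v = 0) → (∀ v ∈ Y, tf w v = 0) → w = 0 := by
    intro w h0 h1 h1'
    refine tf_nondeg fun z => ?_
    have h4 : z - (tr1 z / 3) • u0 k ∈ X ⊔ Y := by
      rw [hsum, mem_W0, Cfsg.Agent.H952.F4.FixV.tr1_sub, tr1_smul, tr1_u0]
      field_simp
      ring
    obtain ⟨α, hα, β, hβ, hαβ⟩ := Submodule.mem_sup.1 h4
    have h5 : z = α + β + (tr1 z / 3) • u0 k := by rw [hαβ]; abel
    rw [h5, tf_add_right, tf_add_right, tf_smul_right, tf_u0_right, h1 α hα, h1' β hβ, h0]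
    ring
  have nonzero : ∀ {Z Z' : Submodule k (I27 → k)}, (∀ v ∈ Z, tr1 v = 0) → (∀ v ∈ Z, ∀ w ∈ Z', tf v w = 0) →
      (∀ w : I27 → k, tr1 w = 0 → (∀ v ∈ Z, tf w v = 0) → (∀ v ∈ Z', tf w v = 0) → w = 0) → (∃ v ∈ Z, v ≠ 0) →
      ∃ v ∈ Z, tf v v ≠ 0 := by
    intro Z Z' ht ho hnd ⟨v, hv, hv0⟩
    by_contra hcon
    push Not at hcon
    apply hv0
    refine hnd v (ht v hv) (fun w hw => ?_) (ho v hv)
    have h4 := hcon (v + w) (Z.add_mem hv hw)
    rw [tf_add_left, tf_add_right, tf_add_right, hcon v hv, hcon w hw, tf_comm w v] at h4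
    have h5 : 2 * tf v w = 0 := by linear_combination h4
    exact (mul_eq_zero.1 h5).resolve_left h2
  obtain ⟨v, hv, hvv⟩ := nonzero tX hC hnd ⟨x 0, bX.mem (Nat.zero_le _), bX.ne (Nat.zero_le _)⟩
  obtain ⟨w, hw, hww⟩ := nonzero tY (fun w hw v hv => by rw [tf_comm]; exact hC v hv w hw)
    (fun w h0 h1 h1' => hnd w h0 h1' h1) ⟨y 0, bY.mem (Nat.zero_le _), bY.ne (Nat.zero_le _)⟩
  -- the product of the two parts
  have hcr : cr v w = 0 := by
    refine hnd _ ?_ (fun t ht => ?_) (fun t ht => ?_)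
    · rw [tr1_cr, tX v hv, hC v hv w hw]
      ring
    · have h4 := hA t ht v hv w hw
      rw [NN_rot] at h4
      exact h4
    · have h4 := hB w hw t ht v hv
      rw [← NN_rot] at h4
      exact h4
  have hst : st v w = 0 := by
    unfold st
    rw [hcr, hC v hv w hw, zero_div, zero_smul, add_zero]
  -- w * w
  have hww' : st w w ∈ Y := by
    have h4 : st w w ∈ X ⊔ Y := by
      rw [hsum, mem_W0]
      exact tr1_st h3 (tY w hw) w
    obtain ⟨α, hα, β, hβ, hαβ⟩ := Submodule.mem_sup.1 h4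
    have h5 : α = 0 := by
      refine hnd α (tX α hα) (fun t ht => ?_) (hC α hα)
      have h6 := hB w hw w hw t ht
      rw [NN_apply, ← tf_st w w (tX t ht), ← hαβ, tf_add_left, tf_comm β t, hC t ht β hβ, add_zero] at h6
      exact h6
    rw [← hαβ, h5, zero_add]
    exact hβ
  have hsq : tf (st v v) (st w w) = 0 := by
    rw [tf_st v v (tY _ hww')]
    exact hA v hv v hv _ hww'
  have h4 := e4 h2 h3 (tX v hv) (tX v hv) (tY w hw) (tY w hw)
  rw [hsq, hst, hC v hv w hw] at h4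
  have h5 : tf (0 : I27 → k) 0 = 0 := by
    have := tf_smul_left (0 : k) (0 : I27 → k) 0
    rwa [zero_smul, zero_mul] at this
  rw [h5] at h4
  have h6 : tf v v * tf w w = 0 := by
    have h7 : (2 : k) / 3 ≠ 0 := div_ne_zero h2 h3
    have h8 : (2 : k) / 3 * (tf v v * tf w w) = 0 := by linear_combination -h4
    exact (mul_eq_zero.1 h8).resolve_left h7
  rcases mul_eq_zero.1 h6 with h7 | h7
  · exact hvv h7
  · exact hww h7

end main

end Cfsg.Agent.R2.F4N
end

-- part: R2/F4N/Tor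
section
set_option linter.all false
open scoped Cfsg.Agent.FastGrp

/-!
# The torus from the weights of the torus of `L`, `|K| > 49` (lead, S5931)
-/

set_option autoImplicit false
set_option linter.unusedSectionVars false

namespace Cfsg.Agent.R2.F4N

open Cfsg Cfsg.Lie Module Matrix
open Cfsg.Agent.ChevalleyStructure.E6Min.Basic
open Cfsg.Agent.H952.F4 Cfsg.Agent.H952.F4.Jord
open Cfsg.Agent.H952.F4.FixV (W0 mem_W0 finrank_W0 u0_ne_zero tr1_eq)
open Cfsg.Agent.R2.F4M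
open Cfsg.Agent.R2.H9.E6
open Cfsg.Agent.R2.H28.SL2 Cfsg.Agent.H943.RepAdd Cfsg.Agent.H943.SL2Mod

universe u v w

variable {F : Type u} [Field F] [Fintype F] {K : Type v} [Field K] [Fintype K] {p a b : ℕ}
variable {H : Subgroup ↥(chevF4.group F)} {φ : ProjectiveSpecialLinearGroup (Fin 2) K →* ↥(chevF4.group F)}

/-- **the torus** -/
theorem torus_of_wt (h2 : (2 : F) ≠ 0) (hpK : ∃ m, 1 ≤ m ∧ ∃ p, p.Prime ∧ CharP F p ∧ Fintype.card K = p ^ m)
    {κ : K →+* F} (hQ : 48 < Fintype.card K - 1) {g : Kˣ}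
    (hg : orderOf g = Fintype.card K - 1)
    (hw : ∀ (μ : F) (v : I27 → F), v ≠ 0 → RF φ (Cfsg.Agent.H943.SL2Rel.h g) v = μ • v →
      ∃ m : Fin 17, (((Units.map (κ : K →* F) g) ^ (2 * ((m : ℤ) - 8)) : Fˣ) : F) = μ) (c : Fˣ) :
    ∃ z : ↥(chevF4.group F), ∀ (m : Fin 17) (v : I27 → F),
      RF φ (Cfsg.Agent.H943.SL2Rel.h g) v = (((Units.map (κ : K →* F) g) ^ (2 * ((m : ℤ) - 8)) : Fˣ) : F) • v →
      Jr F z v = ((c ^ ((m : ℤ) - 8) : Fˣ) : F) • v := by
  classical
  obtain ⟨N, hN⟩ : ∃ N, N = Fintype.card K - 1 := ⟨_, rfl⟩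
  rw [← hN] at hQ hg
  set ζ : Fˣ := Units.map (κ : K →* F) g with hζ
  have hord : orderOf ζ = N := by
    rw [← hg]
    exact orderOf_injective _ (Units.map_injective κ.injective) g
  have hprim : IsPrimitiveRoot (ζ : F) N := by
    rw [IsPrimitiveRoot.coe_units_iff, ← hord]
    exact IsPrimitiveRoot.orderOf ζ
  have hNF : (N : F) ≠ 0 := by
    obtain ⟨m, hm, p, hp, hcF, hK⟩ := hpK
    intro h0
    have h1 : ((Fintype.card K : ℕ) : F) = 0 := by
      rw [hK, Nat.cast_pow, CharP.cast_eq_zero, zero_pow (by omega)]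
    have h3 : Fintype.card K = N + 1 := by omega
    rw [h3, Nat.cast_add, h0, zero_add, Nat.cast_one] at h1
    exact one_ne_zero h1
  have hA : (RF φ (Cfsg.Agent.H943.SL2Rel.h g) : Module.End F (I27 → F)) ^ N = 1 := by
    rw [← map_pow, ← Cfsg.Agent.H943.SL2Rel.h_pow, ← hg, pow_orderOf_eq_one, Cfsg.Agent.H943.SL2Rel.h_one, map_one]
  have hdvd : ∀ e : ℤ, ζ ^ e = 1 → (N : ℤ) ∣ e := fun e he => by
    have h4 := orderOf_dvd_iff_zpow_eq_one.2 he
    rwa [hord] at h4
  have hinj : Function.Injective (fun m : Fin 17 => ((ζ ^ (2 * ((m : ℤ) - 8)) : Fˣ) : F)) := by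
    intro i j hij
    have h1 : ζ ^ (2 * ((i : ℤ) - 8) - 2 * ((j : ℤ) - 8)) = 1 := by
      rw [_root_.zpow_sub, Units.ext hij, mul_inv_cancel]
    have h3 := hdvd _ h1
    have hi := i.2
    have hj := j.2
    have h4 : 2 * ((i : ℤ) - 8) - 2 * ((j : ℤ) - 8) = 0 := by
      refine Int.eq_zero_of_abs_lt_dvd h3 ?_
      rw [abs_lt]
      constructor <;> omega
    apply Fin.ext
    omega
  obtain ⟨J, _, B, m, hB, hrepr⟩ := exists_eig_basis hprim (by omega) hNF hA
    (fun m : Fin 17 => ((ζ ^ (2 * ((m : ℤ) - 8)) : Fˣ) : F)) hinj (fun μ v hv h => hw μ v hv h)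
  obtain ⟨z, hz⟩ := exists_lam h2 B (fun j => ((m j : ℕ) : ℤ) - 8) (by
    intro i j l h
    have h1 := NN_RF (φ := φ) (Cfsg.Agent.H943.SL2Rel.h g) (B i) (B j) (B l)
    rw [hB, hB, hB] at h1
    simp only [map_smul, LinearMap.smul_apply, smul_eq_mul] at h1
    have h3 : ζ ^ (2 * ((m i : ℤ) - 8) + 2 * ((m j : ℤ) - 8) + 2 * ((m l : ℤ) - 8)) = 1 := by
      apply Units.ext
      rw [_root_.zpow_add, _root_.zpow_add, Units.val_mul, Units.val_mul, Units.val_one]
      refine mul_right_cancel₀ h ?_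
      rw [one_mul]
      refine Eq.trans ?_ h1
      ring
    have h4 := Int.eq_zero_of_abs_lt_dvd (hdvd _ h3) (by
      have hi := (m i).2
      have hj := (m j).2
      have hl := (m l).2
      rw [abs_lt]
      constructor <;> omega)
    omega) (by
    intro i hi
    have h1 := hrepr 8 (u0 F) (by
      show RF φ (Cfsg.Agent.H943.SL2Rel.h g) (u0 F) = ((ζ ^ (2 * (((8 : Fin 17) : ℕ) : ℤ) - 8 * 2) : Fˣ) : F) • u0 F
      rw [RF_apply, Jr_u0]
      simp) i hi
    rw [h1]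
    rfl) c
  refine ⟨z, fun i v hv => ?_⟩
  have h1 : v = ∑ j, B.repr v j • B j := (B.sum_repr v).symm
  conv_lhs => rw [h1]
  rw [map_sum]
  conv_rhs => rw [h1]
  rw [Finset.smul_sum]
  refine Finset.sum_congr rfl fun j _ => ?_
  rw [map_smul, hz]
  by_cases h0 : B.repr v j = 0
  · rw [h0, zero_smul, zero_smul, smul_zero]
  · rw [hrepr i v hv j h0, smul_comm]

end Cfsg.Agent.R2.F4N
end

-- part: R2/F4N/CaseE
section
set_option linter.all false
open scoped Cfsg.Agent.FastGrp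

/-!
# Case E of S5931: the factors `8 p^r`, `16 p^s` (lead)
-/

set_option autoImplicit false
set_option linter.unusedSectionVars false

namespace Cfsg.Agent.R2.F4N

open Cfsg Cfsg.Lie Module Matrix
open Cfsg.Agent.ChevalleyStructure.E6Min.Basic
open Cfsg.Agent.H952.F4 Cfsg.Agent.H952.F4.Jord
open Cfsg.Agent.H952.F4.FixV (W0 mem_W0 finrank_W0 u0_ne_zero tr1_eq)
open Cfsg.Agent.R2.F4M
open Cfsg.Agent.R2.H9.E6
open Cfsg.Agent.R2.H28.SL2 Cfsg.Agent.H943.RepAdd Cfsg.Agent.H943.SL2Mod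

universe u v w

variable {F : Type u} [Field F] [Fintype F] {K : Type v} [Field K] [Fintype K] {p a b : ℕ}
variable {H : Subgroup ↥(chevF4.group F)} {φ : ProjectiveSpecialLinearGroup (Fin 2) K →* ↥(chevF4.group F)}
variable {k : Type u} [Field k] {f : F →+* k} [DecidableEq k] [DecidableEq K] [IsAlgClosed k] (ι : K →+* k)
variable [Fact p.Prime] [CharP k p] [CharP K p]

/-- **case E** -/
theorem caseE (hc : Cfg p a b H φ) (hp : 17 ≤ p) {r s : ℕ} (hr : r < a) (hs : s < a)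
    (hcf : cf (Sy.{u, u, v} ι p) (R0 f φ) = {8 * p ^ r, 16 * p ^ s})
    (h8 : InSoc ι p (R0 f φ) (8 * p ^ r)) (h16 : InSoc ι p (R0 f φ) (16 * p ^ s)) : a = b := by
  obtain ⟨X, hX, h8⟩ := h8
  obtain ⟨Y, hY, h16⟩ := h16
  obtain ⟨x, bX⟩ := exists_sb ι p h8 (by omega)
  obtain ⟨y, bY⟩ := exists_sb ι p h16 (by omega)
  have hfin : ∀ X : Submodule k ↥(W0 k), Module.finrank k (X.map (W0 k).subtype) = Module.finrank k X := fun X =>
    (Submodule.equivMapOfInjective _ (W0 k).injective_subtype X).symm.finrank_eq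
  have c8 : (Bf k (8 * p ^ r)).card = 9 := by rw [← h8.finrank, ← hfin, bX.finrank]
  have c16 : (Bf k (16 * p ^ s)).card = 17 := by rw [← h16.finrank, ← hfin, bY.finrank]
  have hne : 8 * p ^ r ≠ 16 * p ^ s := fun h => by rw [h, c16] at c8; omega
  have hm : ∀ c ∈ cf (Sy.{u, u, v} ι p) (R0 f φ), c = 8 * p ^ r ∨ c = 16 * p ^ s := by
    intro c hc
    rw [hcf] at hc
    simpa using hc
  have uX : Uq f φ (X.map (W0 k).subtype) := by
    refine uq_map ι p h8 ?_ ?_
    · rw [hcf]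
      simp [hne]
    · intro c hc h
      rcases hm c hc with rfl | rfl
      · rfl
      · rw [c8, c16] at h
        omega
  have uY : Uq f φ (Y.map (W0 k).subtype) := by
    refine uq_map ι p h16 ?_ ?_
    · rw [hcf]
      simp [Ne.symm hne, hne]
    · intro c hc h
      rcases hm c hc with rfl | rfl
      · rw [c8, c16] at h
        omega
      · rfl
  by_cases hrs : r = s
  · subst hrs
    exact box_R hc hp uX uY bX bY
  · exfalso
    refine box_E_ne hp hc.cardK hr hs hrs uX.le uY.le ?_ bX bY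
    intro w h1 h2
    rcases uX.ir (X.map (W0 k).subtype ⊓ Y.map (W0 k).subtype) inf_le_left (fun g z hz => ⟨uX.st g z hz.1, uY.st g z hz.2⟩)
      with h4 | h4
    · have h5 : w ∈ X.map (W0 k).subtype ⊓ Y.map (W0 k).subtype := ⟨h1, h2⟩
      rwa [h4, Submodule.mem_bot] at h5
    · exfalso
      have h5 : X.map (W0 k).subtype ≤ Y.map (W0 k).subtype := inf_eq_left.1 h4
      rcases uY.ir _ h5 uX.st with h6 | h6
      · exact uX.ne h6
      · have h7 := bX.finrank
        have h8 := bY.finrank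
        rw [h6] at h7
        omega

end Cfsg.Agent.R2.F4N
end

-- part: R2/F4N/CaseC
section
prune_inst 0x1002400110002000000058001001e468a00042200080000484008040c80ae0089400860a40000121a2880852031000811000000420000000a000400011a008000800200b089a000020018000080400000000000000000000000000000010004000000000
set_option linter.all false
open scoped Cfsg.Agent.FastGrp

/-!
# Case C of S5931: `p = 13`, `J₀ = 8 | 3 ⊗ 1' | 8` (lead)
-/

set_option autoImplicit false
set_option linter.unusedSectionVars false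

namespace Cfsg.Agent.R2.F4N

open Cfsg Cfsg.Lie Module Matrix
open Cfsg.Agent.ChevalleyStructure.E6Min.Basic
open Cfsg.Agent.H952.F4 Cfsg.Agent.H952.F4.Jord
open Cfsg.Agent.H952.F4.FixV (W0 mem_W0 finrank_W0 u0_ne_zero tr1_eq)
open Cfsg.Agent.R2.F4M
open Cfsg.Agent.R2.H9.E6
open Cfsg.Agent.R2.H28.SL2 Cfsg.Agent.H943.RepAdd Cfsg.Agent.H943.SL2Mod

universe u v w

section bf

variable {k : Type u} [Field k] [DecidableEq k] (p : ℕ) [Fact p.Prime] [CharP k p]

theorem mem_Bf_low {b n m : ℕ} (hn : n < p) : m ∈ Bf k (p * b + n) → ∃ s ≤ n, ∃ m' ∈ Bf k b, m = p * m' + s := by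
  have hp : p.Prime := Fact.out
  intro h
  rw [← Nat.div_add_mod m p, mem_Bf_mul k p hn (Nat.mod_lt m hp.pos)] at h
  exact ⟨m % p, h.1, m / p, h.2, (Nat.div_add_mod m p).symm⟩

theorem mem_Bf_pair_lt {n n' : ℕ} (hn : n < p) (hn' : n' < p) (i j : ℕ) : ∀ {m : ℕ}, m ∈ Bf k (n * p ^ i + n' * p ^ (i + j + 1)) →
    ∃ s ≤ n, ∃ s' ≤ n', m = s * p ^ i + s' * p ^ (i + j + 1) := by
  have hp : p.Prime := Fact.out
  induction i with
  | zero =>
    intro m h
    rw [show n * p ^ 0 + n' * p ^ (0 + j + 1) = p * (n' * p ^ j) + n by ring] at h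
    obtain ⟨s, hs, m', hm', rfl⟩ := mem_Bf_low p hn h
    obtain ⟨s', hs', rfl⟩ := (mem_Bf_single p hn' j).1 hm'
    exact ⟨s, hs, s', hs', by ring⟩
  | succ i ih =>
    intro m h
    rw [show n * p ^ (i + 1) + n' * p ^ (i + 1 + j + 1) = p * (n * p ^ i + n' * p ^ (i + j + 1)) + 0 by ring] at h
    obtain ⟨s, hs, m', hm', rfl⟩ := mem_Bf_low p hp.pos h
    obtain ⟨t, ht, t', ht', rfl⟩ := ih hm'
    obtain rfl : s = 0 := by omega
    exact ⟨t, ht, t', ht', by ring⟩

theorem mem_Bf_pair {n n' : ℕ} (hn : n < p) (hn' : n' < p) {i j : ℕ} (hij : i ≠ j) {m : ℕ}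
    (h : m ∈ Bf k (n * p ^ i + n' * p ^ j)) : ∃ s ≤ n, ∃ s' ≤ n', m = s * p ^ i + s' * p ^ j := by
  rcases lt_or_gt_of_ne hij with h1 | h1
  · obtain ⟨l, rfl⟩ : ∃ l, j = i + l + 1 := ⟨j - i - 1, by omega⟩
    exact mem_Bf_pair_lt p hn hn' i l h
  · obtain ⟨l, rfl⟩ : ∃ l, i = j + l + 1 := ⟨i - j - 1, by omega⟩
    rw [add_comm] at h
    obtain ⟨s, hs, s', hs', rfl⟩ := mem_Bf_pair_lt p hn' hn j l h
    exact ⟨s', hs', s, hs, by ring⟩

end bf

theorem isSS_h {k : Type u} [Field k] {K : Type w} [Field K] (ι : K →+* k) (g : Kˣ) :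
    Cfsg.Agent.H179.SLC.IsSS ι (Cfsg.Agent.H943.SL2Rel.h g) (ι g) := by
  refine ⟨![1, 0], ![0, 1], ?_, ?_, ?_⟩
  · ext i
    (revert i; simp only [Cfsg.Agent.H943.SL2Rel.h, Matrix.mulVec, dotProduct, Fin.sum_univ_two, _root_.Fin.forall_fin_succ, _root_.Matrix.map_apply, _root_.Matrix.of_apply, _root_.Matrix.cons_val', _root_.Matrix.cons_val_fin_one, Fin.isValue, _root_.Matrix.cons_val_zero, _root_.mul_one, _root_.Matrix.cons_val_one, _root_.MulZeroClass.mul_zero, _root_.add_zero, _root_.Pi.smul_apply, _root_.smul_eq_mul, _root_.Matrix.cons_val_succ, _root_.map_zero, _root_.implies_true, _root_.and_self])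
  · ext i
    (revert i; simp only [Cfsg.Agent.H943.SL2Rel.h, Matrix.mulVec, dotProduct, Fin.sum_univ_two, _root_.Fin.forall_fin_succ, _root_.Matrix.map_apply, _root_.Matrix.of_apply, _root_.Matrix.cons_val', _root_.Matrix.cons_val_fin_one, Fin.isValue, _root_.Matrix.cons_val_zero, _root_.MulZeroClass.mul_zero, _root_.Matrix.cons_val_one, _root_.mul_one, _root_.zero_add, _root_.Pi.smul_apply, _root_.smul_eq_mul, _root_.map_zero, _root_.Matrix.cons_val_succ, _root_.map_inv₀, _root_.implies_true, _root_.and_self])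
  · simp

variable {F : Type u} [Field F] [Fintype F] {K : Type v} [Field K] [Fintype K] {p a b : ℕ}
variable {H : Subgroup ↥(chevF4.group F)} {φ : ProjectiveSpecialLinearGroup (Fin 2) K →* ↥(chevF4.group F)}
variable {k : Type u} [Field k] {f : F →+* k} [DecidableEq k] [DecidableEq K] [IsAlgClosed k] (ι : K →+* k)
variable [Fact p.Prime] [CharP k p] [CharP K p]

/-- the eigenvalues of a torus element come from the composition factors -/
theorem eig_mem {V : Type u} [AddCommGroup V] [Module k V] [FiniteDimensional k V]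
    (ρ : Representation k (_root_.Matrix.SpecialLinearGroup (Fin 2) K) V) (hK : Fintype.card K = p ^ a) (ha : 1 ≤ a) (g : Kˣ) {ν : k} {v : V}
    (hv : v ≠ 0) (h : ρ (Cfsg.Agent.H943.SL2Rel.h g) v = ν • v) :
    ∃ c ∈ cf (Sy.{u, u, v} ι p) ρ, ∃ m ∈ Bf k c, (ι g) ^ m * (ι g)⁻¹ ^ (c - m) = ν := by
  have hp : p.Prime := Fact.out
  have hM := isMult_cf.{u, u, v} ι p hK ρ
  have hN1 : (ι g) ^ (Fintype.card K - 1) = 1 := by
    rw [← map_pow, FiniteField.pow_card_sub_one_eq_one _ g.ne_zero, map_one]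
  have hg1 : g ^ (Fintype.card K - 1) = 1 := Units.ext (by
    rw [Units.val_pow_eq_pow_val, FiniteField.pow_card_sub_one_eq_one _ g.ne_zero, Units.val_one])
  have hN0 : ((Fintype.card K - 1 : ℕ) : k) ≠ 0 := by
    intro h0
    have h1 : ((Fintype.card K : ℕ) : k) = 0 := by rw [hK, Nat.cast_pow, CharP.cast_eq_zero, zero_pow (by omega)]
    have h3 : Fintype.card K = (Fintype.card K - 1) + 1 := by
      have : 0 < Fintype.card K := Fintype.card_pos
      omega
    rw [h3, Nat.cast_add, h0, zero_add, Nat.cast_one] at h1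
    exact one_ne_zero h1
  have hν : ν ^ (Fintype.card K - 1) = 1 := by
    have h1 := pow_apply_eig (ρ := ρ) h (Fintype.card K - 1)
    rw [← map_pow, ← Cfsg.Agent.H943.SL2Rel.h_pow, hg1, Cfsg.Agent.H943.SL2Rel.h_one, map_one, Module.End.one_apply] at h1
    have h2 : (ν ^ (Fintype.card K - 1) - 1) • v = 0 := by rw [sub_smul, one_smul, ← h1, sub_self]
    exact sub_eq_zero.1 ((smul_eq_zero.1 h2).resolve_right hv)
  have h1 := hM.eigen (Cfsg.Agent.H943.SL2Rel.h g) (ι g) _ (isSS_h ι g) hN1 hN0 ν hν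
  have h2 : Module.finrank k (eig ρ (Cfsg.Agent.H943.SL2Rel.h g) ν) ≠ 0 := by
    intro h0
    have h3 := Submodule.finrank_eq_zero.1 h0
    have h4 : v ∈ eig ρ (Cfsg.Agent.H943.SL2Rel.h g) ν := (mem_eig ρ).2 h
    rw [h3, Submodule.mem_bot] at h4
    exact hv h4
  rw [h1] at h2
  obtain ⟨c, -, hc⟩ := Finset.exists_ne_zero_of_sum_ne_zero h2
  have h5 := left_ne_zero_of_mul hc
  have h6 := right_ne_zero_of_mul hc
  refine ⟨c, Multiset.count_ne_zero.1 h5, ?_⟩
  unfold mf at h6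
  obtain ⟨m, hm⟩ := Finset.card_ne_zero.1 h6
  rw [Finset.mem_filter] at hm
  exact ⟨m, hm.1, hm.2⟩

/-- a power of the unit -/
theorem pow_eq_zpow {k : Type u} [Field k] (z : kˣ) {m c : ℕ} (hm : m ≤ c) :
    (z : k) ^ m * ((z : k)⁻¹) ^ (c - m) = ((z ^ (2 * (m : ℤ) - c) : kˣ) : k) := by
  have h1 : (2 * (m : ℤ) - c) = (m : ℤ) + -((c - m : ℕ) : ℤ) := by
    push_cast [Nat.cast_sub hm]
    ring
  rw [h1, _root_.zpow_add, _root_.zpow_neg, zpow_natCast, zpow_natCast, Units.val_mul, Units.val_pow_eq_pow_val, ← inv_pow,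
    Units.val_pow_eq_pow_val, Units.val_inv_eq_inv_val]

theorem map_frob (r : ℕ) (g : Kˣ) : Units.map (((iterateFrobenius k p r).comp ι : K →+* k) : K →* k) g =
    (Units.map (ι : K →* k) g) ^ (p ^ r) := by
  apply Units.ext
  rw [Units.val_pow_eq_pow_val]
  exact iterateFrobenius_def p r (ι g)

/-- the eigenvalues in case C -/
theorem eigC (hK : Fintype.card K = p ^ a) (ha : 2 ≤ a) (hp : p = 13) {r : ℕ} (hr : r < a)
    (hcf : ∀ c ∈ cf (Sy.{u, u, v} ι p) (R0 f φ), c = 8 * p ^ r ∨ c = 3 * p ^ r + 1 * p ^ ((r + 1) % a)) (g : Kˣ) {ν : k}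
    {v : I27 → k} (hv : v ≠ 0) (h : Rk f φ (Cfsg.Agent.H943.SL2Rel.h g) v = ν • v) :
    ∃ m : Fin 17, (((Units.map (((iterateFrobenius k p r).comp ι : K →+* k) : K →* k) g) ^ (2 * ((m : ℤ) - 8)) : kˣ) : k) = ν := by
  by_cases h1 : ν = 1
  · refine ⟨8, ?_⟩
    rw [h1]
    show (((Units.map (((iterateFrobenius k p r).comp ι : K →+* k) : K →* k) g) ^ (2 * (((8 : Fin 17) : ℕ) - 8 : ℤ)) : kˣ) : k) = 1
    simp
  have htr : tr1 v = 0 := by
    have h2 := Rk_tr f φ (Cfsg.Agent.H943.SL2Rel.h g) v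
    rw [h, tr1_smul] at h2
    have h3 : (ν - 1) * tr1 v = 0 := by linear_combination h2
    exact (mul_eq_zero.1 h3).resolve_left (sub_ne_zero.2 h1)
  have hv0 : (⟨v, (mem_W0 v).2 htr⟩ : ↥(W0 k)) ≠ 0 := fun h0 => hv (congrArg Subtype.val h0)
  obtain ⟨c, hc, m, hm, hν⟩ := eig_mem ι (R0 f φ) hK (by omega) g hv0 (ν := ν) (Subtype.ext (by
    rw [R0_apply]
    exact h))
  have hmc : m ≤ c := (mem_Bf.1 hm).1
  have hgu : (ι g : k) = ((Units.map (ι : K →* k) g : kˣ) : k) := rfl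
  rw [hgu, pow_eq_zpow _ hmc] at hν
  rw [map_frob]
  set z : kˣ := Units.map (ι : K →* k) g with hz
  have hza : z ^ (p ^ a) = z := by
    rw [hz, ← map_pow, ← hK]
    congr 1
    exact Units.ext (by rw [Units.val_pow_eq_pow_val, FiniteField.pow_card])
  have hzr : z ^ (p ^ ((r + 1) % a)) = z ^ (p ^ (r + 1)) := by
    rcases lt_or_ge (r + 1) a with h2 | h2
    · rw [Nat.mod_eq_of_lt h2]
    · obtain rfl : a = r + 1 := by omega
      rw [Nat.mod_self, pow_zero, pow_one, hza]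
  rcases hcf c hc with rfl | rfl
  · obtain ⟨s, hs, rfl⟩ := (mem_Bf_single p (by omega) r).1 hm
    refine ⟨⟨s + 4, by omega⟩, ?_⟩
    rw [← hν, ← zpow_natCast z, ← _root_.zpow_mul]
    congr 2
    push_cast
    ring
  · obtain ⟨s, hs, s', hs', rfl⟩ := mem_Bf_pair p (by omega) (by omega) (by
      rcases lt_or_ge (r + 1) a with h2 | h2
      · rw [Nat.mod_eq_of_lt h2]
        omega
      · obtain rfl : a = r + 1 := by omega
        rw [Nat.mod_self]
        omega) hm
    refine ⟨⟨s + 13 * s', by omega⟩, ?_⟩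
    rw [← hν]
    congr 1
    have e1 : (2 * (((s * p ^ r + s' * p ^ ((r + 1) % a) : ℕ)) : ℤ) - ((3 * p ^ r + 1 * p ^ ((r + 1) % a) : ℕ) : ℤ)) =
        ((p ^ r : ℕ) : ℤ) * (2 * s - 3) + ((p ^ ((r + 1) % a) : ℕ) : ℤ) * (2 * s' - 1) := by
      push_cast
      ring
    have e2 : z ^ (((p ^ r : ℕ) : ℤ) * (2 * s - 3) + ((p ^ ((r + 1) % a) : ℕ) : ℤ) * (2 * s' - 1)) =
        (z ^ p ^ r) ^ (2 * (((s + 13 * s' : ℕ) : ℤ) - 8)) := by
      rw [_root_.zpow_add, _root_.zpow_mul, _root_.zpow_mul, zpow_natCast, zpow_natCast, hzr, pow_succ p r, pow_mul,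
        ← zpow_natCast _ p, ← _root_.zpow_mul, ← _root_.zpow_add]
      congr 1
      rw [hp]
      push_cast
      ring
    rw [e1, e2]

/-- **case C** -/
theorem caseC (hc : _root_.Cfsg.Agent.R2.F4M.Cfg p a b H φ) (hp : p = 13) (ha : 2 ≤ a) {r : ℕ} (hr : r < a)
    (hcf : cf (Sy.{u, u, v} ι p) (R0 f φ) = {8 * p ^ r, 8 * p ^ r, 3 * p ^ r + p ^ ((r + 1) % a)})
    {X : Submodule k ↥(W0 k)} {hX : ∀ g, ∀ x ∈ X, R0 f φ g x ∈ X}
    (h8 : IsV (V := ↥X) ι p ((subRep (R0 f φ) X hX :)) (8 * p ^ r))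
    (huniq : ∀ (Y : Submodule k ↥(W0 k)) (hY : ∀ g, ∀ x ∈ Y, R0 f φ g x ∈ Y) (c : ℕ),
      IsV (V := ↥Y) ι p ((subRep (R0 f φ) Y hY :)) c → Y = X) : a = b := by
  classical
  have hcF := hc.charF
  have h2 : (2 : F) ≠ 0 := by
    have h := (CharP.cast_eq_zero_iff F p 2).not.2 (fun h => by rw [hp] at h; revert h; decide)
    exact_mod_cast h
  obtain ⟨x, bX⟩ := exists_sb ι p h8 (by omega)
  have uX : Uq f φ (X.map (W0 k).subtype) := by
    refine ⟨ir_map ι p h8, fun Z hZ _ => ?_⟩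
    obtain ⟨Y, hY, c, hcY, rfl⟩ := hZ.exists_isV ι p
    rw [huniq Y hY c hcY]
  obtain ⟨κ', hκ', x', ν, hν, hx', hSx⟩ := uX.rat hc (n := 8) (by norm_num) (by omega) (fun s hs => bX.mem hs)
    (fun s hs => bX.ne hs) bX.str bX.top
  obtain ⟨g, hg⟩ := IsCyclic.exists_ofOrder_eq_natCard (α := Kˣ)
  rw [Nat.card_eq_fintype_card, Fintype.card_units] at hg
  have hQ : 48 < Fintype.card K - 1 := by
    rw [hc.cardK, hp]
    have : 13 ^ 2 ≤ 13 ^ a := Nat.pow_le_pow_right (by norm_num) ha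
    omega
  have hmap : ∀ e : ℤ, f (((Units.map (κ' : K →* F) g) ^ e : Fˣ) : F) =
      (((Units.map (((iterateFrobenius k p r).comp ι : K →+* k) : K →* k) g) ^ e : kˣ) : k) := by
    intro e
    have e1 : Units.map (((iterateFrobenius k p r).comp ι : K →+* k) : K →* k) g =
        Units.map (f : F →* k) (Units.map (κ' : K →* F) g) := by
      apply Units.ext
      show ((iterateFrobenius k p r).comp ι) g = f (κ' g)
      rw [← hκ']
      rfl
    rw [e1]
    exact congrArg Units.val (map_zpow (Units.map (f : F →* k)) (Units.map (κ' : K →* F) g) e)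
  have hli : LinearIndependent k (fun s : Fin (8 + 1) => (fun i => f (x' s i) : I27 → k)) := by
    have h4 : (fun s : Fin (8 + 1) => (fun i => f (x' s i) : I27 → k)) = fun s : Fin (8 + 1) => ν • x s := by
      funext s
      exact hx' s (Nat.lt_succ_iff.1 s.2)
    rw [h4]
    exact bX.li.units_smul (fun _ => Units.mk0 ν hν)
  have hsp : dn f (X.map (W0 k).subtype) = Submodule.span F (Set.range fun s : Fin (8 + 1) => x' s) := by
    refine dn_span (p := p) (b := b) hc.cardF hli ?_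
    have h4 : (fun s : Fin (8 + 1) => (fun i => f (x' s i) : I27 → k)) = fun s : Fin (8 + 1) => ν • x s := by
      funext s
      exact hx' s (Nat.lt_succ_iff.1 s.2)
    rw [h4, bX.sp]
    apply le_antisymm
    · rw [Submodule.span_le]
      rintro _ ⟨s, rfl⟩
      have h5 : x s = ν⁻¹ • (ν • x s) := by rw [smul_smul, inv_mul_cancel₀ hν, one_smul]
      show x s ∈ _
      rw [h5]
      exact Submodule.smul_mem _ _ (Submodule.subset_span ⟨s, rfl⟩)
    · rw [Submodule.span_le]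
      rintro _ ⟨s, rfl⟩
      exact Submodule.smul_mem _ _ (Submodule.subset_span ⟨s, rfl⟩)
  have hliF : LinearIndependent F (fun s : Fin (8 + 1) => x' s) := up_li hli
  refine eq_of_onto hc κ' fun c => ?_
  obtain ⟨z, hz⟩ := torus_of_wt (φ := φ) h2 ⟨a, hc.ha, p, hc.prime, hcF, hc.cardK⟩ hQ hg (fun μ v hv h => by
    have h5 : Rk f φ (Cfsg.Agent.H943.SL2Rel.h g) (fun i => f (v i)) = f μ • fun i => f (v i) := by
      rw [← up_RF, h, up_smul]
    have h6 : (fun i => f (v i) : I27 → k) ≠ 0 := by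
      intro h0
      apply hv
      apply up_inj (f := f)
      rw [h0]
      funext i
      exact (map_zero f).symm
    obtain ⟨m, hm⟩ := eigC ι hc.cardK ha hp hr (fun c hc' => by
      rw [hcf] at hc'
      simp only [Multiset.insert_eq_cons, Multiset.mem_cons, Multiset.mem_singleton] at hc'
      rw [one_mul]
      (clear * - hc'; itauto)) g h6 h5
    refine ⟨m, f.injective ?_⟩
    rw [hmap, hm]) c
  have hzx : ∀ s ≤ 8, Jr F z (x' s) = ((c ^ (-4 + (s : ℤ)) : Fˣ) : F) • x' s := by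
    intro s hs
    have h5 := hz ⟨s + 4, by omega⟩ (x' s) (by
      rw [hSx.h s hs g]
      congr 1
      have h6 := pow_eq_zpow (Units.map (κ' : K →* F) g) (m := s) (c := 8) hs
      refine Eq.trans h6 ?_
      congr 2
      push_cast
      ring)
    rw [h5]
    congr 3
    push_cast
    ring
  refine mem_range hc (n := 8) (by norm_num) (by omega) hSx hliF (U := Submodule.span F (Set.range fun s : Fin (8 + 1) => x' s))
    ?_ ?_ (z := z) ?_ (m := -4) hzx
  · rw [← hsp]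
    exact uX.hst hc
  · refine pr_of_finrank ?_ ?_ <;> rw [finrank_span_eq_card hliF, Fintype.card_fin] <;> norm_num
  · intro w hw
    induction hw using Submodule.span_induction with
    | mem w hw =>
      obtain ⟨s, rfl⟩ := hw
      show Jr F z (x' s) ∈ _
      rw [hzx s (Nat.lt_succ_iff.1 s.2)]
      exact Submodule.smul_mem _ _ (Submodule.subset_span ⟨s, rfl⟩)
    | zero =>
      rw [map_zero]
      exact Submodule.zero_mem _
    | add x y _ _ hx hy =>
      rw [map_add]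
      exact Submodule.add_mem _ hx hy
    | smul e x _ hx =>
      rw [map_smul]
      exact Submodule.smul_mem _ _ hx

end Cfsg.Agent.R2.F4N
end

-- part: R2/F4N/Q13a
section
prune_inst 0x1002440110002000018058011003e428a000420004b0000a8e000060c806c40a9430e61b83010129ab804c57039004811000110420000000a000400011a01a080820000b0890000040019000080400000000000000000000000000000010004000000000
set_option linter.all false
open scoped Cfsg.Agent.FastGrp

/-!
# `Q = 13` : tools (lead, S5931)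

* `UU` : `u t` acts on a vector with coefficients in a family of subspaces;
* `depth` : `(u 1 - 1) ^ k v = 0`;
* `Wt` : weights of the torus;
* `E12` : `(u 1 - 1) ^ 12 = ∑ u t`.
-/

set_option autoImplicit false
set_option linter.unusedSectionVars false

namespace Cfsg.Agent.R2.F4N

open Cfsg Cfsg.Lie Module Matrix Finset
open Cfsg.Agent.ChevalleyStructure.E6Min.Basic
open Cfsg.Agent.H952.F4 Cfsg.Agent.H952.F4.Jord
open Cfsg.Agent.R2.F4M

universe u v w

section st

variable {k : Type u} [Field k]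

theorem st_sum_left {α : Type*} (S : Finset α) (f : α → I27 → k) (y : I27 → k) :
    st (∑ i ∈ S, f i) y = ∑ i ∈ S, st (f i) y := by
  classical
  induction S using Finset.induction_on with
  | empty => rw [Finset.sum_empty, Finset.sum_empty, st_zero_left]
  | insert a S ha ih => rw [Finset.sum_insert ha, Finset.sum_insert ha, st_add_left, ih]

theorem st_sum_right {α : Type*} (S : Finset α) (x : I27 → k) (f : α → I27 → k) :
    st x (∑ i ∈ S, f i) = ∑ i ∈ S, st x (f i) := by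
  rw [st_comm, st_sum_left]
  exact Finset.sum_congr rfl fun i _ => st_comm _ _

theorem tf_sub_left (x y z : I27 → k) : tf (x - y) z = tf x z - tf y z := by
  rw [sub_eq_add_neg, tf_add_left, ← neg_one_smul k y, tf_smul_left]
  ring

theorem tf_neg_right (x y : I27 → k) : tf x (-y) = -tf x y := by
  rw [← neg_one_smul k y, tf_smul_right]
  ring

end st

variable {F : Type u} [Field F] [Fintype F] {K : Type v} [Field K] [Fintype K]
variable {φ : ProjectiveSpecialLinearGroup (Fin 2) K →* ↥(chevF4.group F)} {κ : K →+* F}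

theorem RF_st (g : SpecialLinearGroup (Fin 2) K) (x y : I27 → F) : st (RF φ g x) (RF φ g y) = RF φ g (st x y) := by
  unfold st
  rw [map_add, map_smul, RF_apply, RF_apply, RF_apply, RF_apply, Jr_cr, Jr_tf, Jr_u0]

theorem RF_tf (g : SpecialLinearGroup (Fin 2) K) (x y : I27 → F) : tf (RF φ g x) (RF φ g y) = tf x y := Jr_tf _ _ _

theorem RF_tr (g : SpecialLinearGroup (Fin 2) K) (x : I27 → F) : tr1 (RF φ g x) = tr1 x := Jr_tr _ _

/-- `u t` acts with coefficients in the family `S` -/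
def UU (κ : K →+* F) (φ : ProjectiveSpecialLinearGroup (Fin 2) K →* ↥(chevF4.group F)) (L : ℕ)
    (S : ℕ → Submodule F (I27 → F)) (n : ℕ) (v : I27 → F) : Prop :=
  ∃ c : ℕ → I27 → F, c 0 = v ∧ (∀ r, c r ∈ S (n + r)) ∧
    ∀ t : K, RF φ (Cfsg.Agent.H943.SL2Rel.u t) v = ∑ r ∈ range L, κ t ^ r • c r

section UU

variable {S S' S'' : ℕ → Submodule F (I27 → F)} {L L' n n' : ℕ} {v v' : I27 → F}

theorem UU.zero : UU κ φ L S n 0 := ⟨fun _ => 0, rfl, fun _ => Submodule.zero_mem _, fun t => by simp⟩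

theorem UU.add (h : UU κ φ L S n v) (h' : UU κ φ L S n v') : UU κ φ L S n (v + v') := by
  obtain ⟨c, h1, h2, h3⟩ := h
  obtain ⟨c', h1', h2', h3'⟩ := h'
  refine ⟨fun r => c r + c' r, by simp only [h1, h1'], fun r => Submodule.add_mem _ (h2 r) (h2' r), fun t => ?_⟩
  rw [map_add, h3, h3', ← Finset.sum_add_distrib]
  exact Finset.sum_congr rfl fun r _ => (smul_add _ _ _).symm

theorem UU.smul (h : UU κ φ L S n v) (e : F) : UU κ φ L S n (e • v) := by
  obtain ⟨c, h1, h2, h3⟩ := h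
  refine ⟨fun r => e • c r, by simp only [h1], fun r => Submodule.smul_mem _ _ (h2 r), fun t => ?_⟩
  rw [map_smul, h3, Finset.smul_sum]
  exact Finset.sum_congr rfl fun r _ => smul_comm _ _ _

theorem UU.span {G : Set (I27 → F)} (h : ∀ v ∈ G, UU κ φ L S n v) : ∀ v ∈ Submodule.span F G, UU κ φ L S n v := by
  intro v hv
  induction hv using Submodule.span_induction with
  | mem v hv => exact h v hv
  | zero => exact UU.zero
  | add x y _ _ hx hy => exact hx.add hy
  | smul e x _ hx => exact hx.smul e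

theorem UU.st (h : UU κ φ L S n v) (h' : UU κ φ L' S' n' v') (hL : 0 < L) (hL' : 0 < L')
    (hS : ∀ m m' x y, x ∈ S m → y ∈ S' m' → F4N.st x y ∈ S'' (m + m')) : UU κ φ (L + L') S'' (n + n') (F4N.st v v') := by
  obtain ⟨c, h1, h2, h3⟩ := h
  obtain ⟨c', h1', h2', h3'⟩ := h'
  refine ⟨fun r => ∑ x ∈ (range L ×ˢ range L').filter (fun x => x.1 + x.2 = r), F4N.st (c x.1) (c' x.2), ?_, ?_, ?_⟩
  · beta_reduce
    rw [Finset.sum_eq_single (0, 0), h1, h1']
    · rintro ⟨a, b⟩ hx hne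
      rw [mem_filter] at hx
      exact absurd (by ext <;> simp <;> omega) hne
    · intro hx
      exact (hx (by simp [hL, hL'])).elim
  · intro r
    beta_reduce
    refine Submodule.sum_mem _ fun x hx => ?_
    rw [mem_filter] at hx
    have h4 := hS _ _ _ _ (h2 x.1) (h2' x.2)
    rwa [show n + x.1 + (n' + x.2) = n + n' + r by omega] at h4
  · intro t
    rw [← RF_st, h3, h3', st_sum_left]
    simp only [st_sum_right]
    rw [← Finset.sum_product', ← Finset.sum_fiberwise_of_maps_to (s := range L ×ˢ range L') (t := range (L + L'))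
      (g := fun x => x.1 + x.2)]
    · refine Finset.sum_congr rfl fun r _ => ?_
      rw [Finset.smul_sum]
      refine Finset.sum_congr rfl fun x hx => ?_
      rw [mem_filter] at hx
      rw [st_smul_left, st_smul_right, smul_smul, ← pow_add, hx.2]
    · intro x hx
      rw [mem_product, Finset.mem_range, Finset.mem_range] at hx
      exact Finset.mem_range.2 (by omega)

theorem UU.fixed (h : UU κ φ L S n v) (hL : 0 < L) (hS : ∀ r, 1 ≤ r → S (n + r) = ⊥) (t : K) :
    RF φ (Cfsg.Agent.H943.SL2Rel.u t) v = v := by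
  obtain ⟨c, h1, h2, h3⟩ := h
  rw [h3, Finset.sum_eq_single 0, pow_zero, one_smul, h1]
  · intro r _ hr
    have h4 := h2 r
    rw [hS r (by omega), Submodule.mem_bot] at h4
    rw [h4, smul_zero]
  · intro h4
    exact absurd (Finset.mem_range.2 hL) h4

/-- **depth** -/
theorem depth {N : ℕ} (hU : ∀ n, ∀ v ∈ S n, UU κ φ L S n v) (hL : 0 < L) (hN : ∀ n, N ≤ n → S n = ⊥) (k : ℕ) :
    ∀ n, N ≤ n + k → ∀ v ∈ S n, ((RF φ (Cfsg.Agent.H943.SL2Rel.u 1) - 1 : Module.End F (I27 → F)) ^ k) v = 0 := by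
  induction k with
  | zero =>
    intro n hn v hv
    rw [hN n (by omega), Submodule.mem_bot] at hv
    rw [hv, map_zero]
  | succ k ih =>
    intro n hn v hv
    obtain ⟨c, h1, h2, h3⟩ := hU n v hv
    rw [pow_succ, Module.End.mul_apply]
    have h4 : (RF φ (Cfsg.Agent.H943.SL2Rel.u 1) - 1 : Module.End F (I27 → F)) v = ∑ r ∈ (range L).erase 0, c r := by
      rw [LinearMap.sub_apply, Module.End.one_apply, h3, ← Finset.add_sum_erase _ _ (Finset.mem_range.2 hL), map_one, pow_zero,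
        one_smul, h1, add_sub_cancel_left]
      exact Finset.sum_congr rfl fun r _ => by rw [one_pow, one_smul]
    rw [h4, map_sum]
    refine Finset.sum_eq_zero fun r hr => ?_
    rw [mem_erase] at hr
    exact ih (n + r) (by omega) _ (h2 r)

end UU

/-- weights of the torus -/
def Wt (κ : K →+* F) (φ : ProjectiveSpecialLinearGroup (Fin 2) K →* ↥(chevF4.group F)) (e : ℕ) (v : I27 → F) : Prop :=
  ∀ g : Kˣ, RF φ (Cfsg.Agent.H943.SL2Rel.h g) v = κ g ^ e • v

section Wt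

variable {e e' : ℕ} {v v' : I27 → F}

theorem Wt.zero : Wt κ φ e 0 := fun g => by rw [map_zero, smul_zero]

theorem Wt.add (h : Wt κ φ e v) (h' : Wt κ φ e v') : Wt κ φ e (v + v') := fun g => by rw [map_add, h, h', smul_add]

theorem Wt.smul (h : Wt κ φ e v) (c : F) : Wt κ φ e (c • v) := fun g => by rw [map_smul, h, smul_comm]

theorem Wt.sub (h : Wt κ φ e v) (h' : Wt κ φ e v') : Wt κ φ e (v - v') := by
  rw [sub_eq_add_neg, ← neg_one_smul F v']
  exact h.add (h'.smul _)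

theorem Wt.st (h : Wt κ φ e v) (h' : Wt κ φ e' v') : Wt κ φ (e + e') (F4N.st v v') := fun g => by
  rw [← RF_st, h, h', st_smul_left, st_smul_right, smul_smul, pow_add]

theorem Wt.span {G : Set (I27 → F)} (h : ∀ v ∈ G, Wt κ φ e v) : ∀ v ∈ Submodule.span F G, Wt κ φ e v := by
  intro v hv
  induction hv using Submodule.span_induction with
  | mem v hv => exact h v hv
  | zero => exact Wt.zero
  | add x y _ _ hx hy => exact hx.add hy
  | smul c x _ hx => exact hx.smul c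

theorem Wt.congr (h : Wt κ φ e v) (he : e = e') : Wt κ φ e' v := he ▸ h

theorem exists_gen (κ : K →+* F) : ∃ g : Kˣ, ∀ m, κ g ^ m = 1 → Fintype.card K - 1 ∣ m := by
  classical
  obtain ⟨g, hg⟩ := IsCyclic.exists_ofOrder_eq_natCard (α := Kˣ)
  rw [Nat.card_eq_fintype_card, Fintype.card_units] at hg
  refine ⟨g, fun m hm => ?_⟩
  rw [← hg]
  apply orderOf_dvd_of_pow_eq_one
  apply Units.ext
  apply κ.injective
  rw [Units.val_pow_eq_pow_val, map_pow, hm, Units.val_one, map_one]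

theorem Wt.tf_zero (h : Wt κ φ e v) (h' : Wt κ φ e' v') (hd : ¬ Fintype.card K - 1 ∣ e + e') : tf v v' = 0 := by
  obtain ⟨g, hg⟩ := exists_gen κ
  by_contra hne
  apply hd
  apply hg
  have h1 := RF_tf (φ := φ) (Cfsg.Agent.H943.SL2Rel.h g) v v'
  rw [h, h', tf_smul_left, tf_smul_right, ← mul_assoc, ← pow_add] at h1
  exact mul_right_cancel₀ hne (by rw [h1, one_mul])

theorem Wt.ne (h : Wt κ φ e v) (h' : Wt κ φ e' v) (hd : ¬ Fintype.card K - 1 ∣ e + (Fintype.card K - 1) * e' - e')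
    (hle : e' ≤ e + (Fintype.card K - 1) * e') : v = 0 := by
  obtain ⟨g, hg⟩ := exists_gen κ
  by_contra hne
  apply hd
  apply hg
  have hg0 : κ (g : K) ≠ 0 := (map_ne_zero κ).2 g.ne_zero
  have h1 : (κ (g : K) ^ e - κ (g : K) ^ e') • v = 0 := by rw [sub_smul, ← h g, ← h' g, sub_self]
  have h2 := sub_eq_zero.1 ((smul_eq_zero.1 h1).resolve_right hne)
  have h3 : κ (g : K) ^ ((Fintype.card K - 1) * e') = 1 := by
    classical
    rw [pow_mul, ← map_pow, FiniteField.pow_card_sub_one_eq_one _ g.ne_zero, map_one, one_pow]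
  have h4 : κ (g : K) ^ (e + (Fintype.card K - 1) * e' - e') * κ (g : K) ^ e' = κ (g : K) ^ e' := by
    rw [← pow_add, Nat.sub_add_cancel hle, pow_add, h3, mul_one, h2]
  exact mul_right_cancel₀ (pow_ne_zero e' hg0) (by rw [h4, one_mul])

end Wt

section sum

/-- power sums -/
theorem sum_pow (κ : K →+* F) (r : ℕ) : ∑ t : K, κ t ^ r = if r ≠ 0 ∧ Fintype.card K - 1 ∣ r then -1 else 0 := by
  classical
  rcases Nat.eq_zero_or_pos r with rfl | hr
  · rw [if_neg (fun h => h.1 rfl)]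
    have h1 : ((Fintype.card K : ℕ) : K) = 0 := FiniteField.cast_card_eq_zero K
    simp only [pow_zero, Finset.sum_const, Finset.card_univ, nsmul_eq_mul, mul_one]
    rw [← map_natCast κ, h1, map_zero]
  · let ψ : Kˣ ↪ K := ⟨fun x ↦ x, Units.val_injective⟩
    have h0 : univ.map ψ = univ \ {0} := by
      ext x
      simp only [mem_map, mem_univ, Function.Embedding.coeFn_mk, true_and, mem_sdiff,
        mem_singleton, ψ]
      exact ⟨fun ⟨a, ha⟩ => ha ▸ a.ne_zero, fun h => ⟨Units.mk0 x h, rfl⟩⟩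
    have h1 : ∑ t : K, κ t ^ r = κ (∑ t : Kˣ, (t : K) ^ r) := by
      have e1 : ∑ t : K, t ^ r = ∑ t : Kˣ, (t : K) ^ r := by
        calc
          ∑ x : K, x ^ r = ∑ x ∈ univ \ {(0 : K)}, x ^ r := by
            rw [← sum_sdiff ({0} : Finset K).subset_univ, sum_singleton, zero_pow (by omega), add_zero]
          _ = ∑ x : Kˣ, (x ^ r : K) := by simp [ψ, ← h0, univ.sum_map ψ]
      rw [← e1, map_sum]
      exact Finset.sum_congr rfl fun t _ => (map_pow κ t r).symm
    rw [h1, FiniteField.sum_pow_units]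
    by_cases h2 : Fintype.card K - 1 ∣ r
    · rw [if_pos h2, if_pos ⟨by omega, h2⟩, map_neg, map_one]
    · rw [if_neg h2, if_neg (fun h => h2 h.2), map_zero]

end sum

end Cfsg.Agent.R2.F4N
end

-- part: R2/F4N/Q13b
section
prune_inst 0x10000000000000
set_option linter.all false
open scoped Cfsg.Agent.FastGrp

/-!
# `Q = 13` : the operator `u 1 - 1` (lead, S5931)
-/

set_option autoImplicit false
set_option linter.unusedSectionVars false

namespace Cfsg.Agent.R2.F4N

open Cfsg Cfsg.Lie Module Matrix Finset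
open Cfsg.Agent.ChevalleyStructure.E6Min.Basic
open Cfsg.Agent.H952.F4 Cfsg.Agent.H952.F4.Jord
open Cfsg.Agent.H952.F4.FixV (W0 mem_W0 finrank_W0 u0_ne_zero tr1_eq)
open Cfsg.Agent.R2.F4M

universe u v w

theorem pol_geom (R : Type u) [Field R] (p : ℕ) [Fact p.Prime] [CharP R p] :
    (Polynomial.X - 1 : Polynomial R) ^ (p - 1) = ∑ j ∈ range p, Polynomial.X ^ j := by
  have hp : p.Prime := Fact.out
  have h1 : (Polynomial.X - 1 : Polynomial R) ≠ 0 := by
    intro h
    have h2 := congrArg (Polynomial.eval (0 : R)) h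
    simp at h2
  refine mul_right_cancel₀ h1 ?_
  rw [← pow_succ, Nat.sub_add_cancel hp.one_le, geom_sum_mul, sub_pow_char, one_pow]

theorem end_geom {R : Type u} [Field R] {V : Type v} [AddCommGroup V] [Module R V] (A : Module.End R V) (p : ℕ)
    [Fact p.Prime] [CharP R p] : (A - 1) ^ (p - 1) = ∑ j ∈ range p, A ^ j := by
  have h := congrArg (Polynomial.aeval A) (pol_geom R p)
  simpa using h

theorem end_frob {R : Type u} [Field R] {V : Type v} [AddCommGroup V] [Module R V] (A : Module.End R V) (p : ℕ)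
    [Fact p.Prime] [CharP R p] : (A - 1) ^ p = A ^ p - 1 := by
  have h2 : (Polynomial.X - 1 : Polynomial R) ^ p = Polynomial.X ^ p - 1 := by
    rw [sub_pow_char, one_pow]
  have h := congrArg (Polynomial.aeval A) h2
  simpa using h

theorem sum_prime {K : Type v} [Field K] [Fintype K] {p : ℕ} [Fact p.Prime] [CharP K p] (hK : Fintype.card K = p)
    {M : Type w} [AddCommMonoid M] (f : K → M) : ∑ t : K, f t = ∑ j ∈ range p, f (j : K) := by
  classical
  have e : ZMod p ≃+* K := ZMod.ringEquiv K hK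
  have hp : p ≠ 0 := (Fact.out : p.Prime).ne_zero
  rw [← Equiv.sum_comp e.toEquiv f]
  obtain ⟨n, rfl⟩ : ∃ n, p = n + 1 := ⟨p - 1, by omega⟩
  rw [Finset.sum_range]
  refine Finset.sum_congr rfl fun j _ => ?_
  congr 1
  show e j = _
  have h1 : ((ZMod.val j : ℕ) : ZMod (n + 1)) = j := ZMod.natCast_zmod_val j
  have h2 : e j = e ((ZMod.val j : ℕ) : ZMod (n + 1)) := by rw [h1]
  exact h2.trans (map_natCast e _)

theorem u_nat {K : Type v} [Field K] (j : ℕ) : Cfsg.Agent.H943.SL2Rel.u ((j : ℕ) : K) = Cfsg.Agent.H943.SL2Rel.u (1 : K) ^ j := by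
  induction j with
  | zero => rw [Nat.cast_zero, Cfsg.Agent.H943.SL2Rel.u_zero, pow_zero]
  | succ j ih => rw [Nat.cast_succ, Cfsg.Agent.H943.SL2Rel.u_add, ih, pow_succ]

variable {F : Type u} [Field F] [Fintype F] {K : Type v} [Field K] [Fintype K]
variable {φ : ProjectiveSpecialLinearGroup (Fin 2) K →* ↥(chevF4.group F)} {κ : K →+* F}

/-- `u 1 - 1` -/
noncomputable def EE (φ : ProjectiveSpecialLinearGroup (Fin 2) K →* ↥(chevF4.group F)) : Module.End F (I27 → F) :=
  RF φ (Cfsg.Agent.H943.SL2Rel.u 1) - 1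

theorem EE_top {p : ℕ} [Fact p.Prime] [CharP F p] [CharP K p] (hK : Fintype.card K = p) (v : I27 → F) :
    (EE φ ^ (p - 1)) v = ∑ t : K, RF φ (Cfsg.Agent.H943.SL2Rel.u t) v := by
  unfold EE
  rw [end_geom, sum_prime hK (fun t => RF φ (Cfsg.Agent.H943.SL2Rel.u t) v), LinearMap.sum_apply]
  refine Finset.sum_congr rfl fun j _ => ?_
  rw [u_nat, map_pow]

theorem EE_zero {p : ℕ} [Fact p.Prime] [CharP F p] [CharP K p] : EE φ ^ p = 0 := by
  unfold EE
  rw [end_frob, ← map_pow, ← u_nat, CharP.cast_eq_zero, Cfsg.Agent.H943.SL2Rel.u_zero, map_one, sub_self]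

theorem EE_ge {p : ℕ} [Fact p.Prime] [CharP F p] [CharP K p] {n : ℕ} (hn : p ≤ n) : EE φ ^ n = 0 := by
  rw [← Nat.sub_add_cancel hn, pow_add, EE_zero (p := p), mul_zero]

theorem EE_adj (x y : I27 → F) : tf (EE φ x) y = -tf (RF φ (Cfsg.Agent.H943.SL2Rel.u 1) x) (EE φ y) := by
  unfold EE
  simp only [LinearMap.sub_apply, Module.End.one_apply]
  have h1 := RF_tf (φ := φ) (Cfsg.Agent.H943.SL2Rel.u 1) x y
  rw [tf_sub_left, sub_eq_add_neg (RF φ (Cfsg.Agent.H943.SL2Rel.u 1) y), tf_add_right, tf_neg_right, h1]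
  ring

theorem tf_zl (y : I27 → F) : tf (0 : I27 → F) y = 0 := by
  rw [← zero_smul F (0 : I27 → F), tf_smul_left, zero_mul]

theorem tf_zr (y : I27 → F) : tf y (0 : I27 → F) = 0 := by rw [tf_comm, tf_zl]

theorem EE_adj_pow (n : ℕ) : ∀ x y : I27 → F,
    tf ((EE φ ^ n) x) y = (-1) ^ n * tf ((RF φ (Cfsg.Agent.H943.SL2Rel.u 1) ^ n) x) ((EE φ ^ n) y) := by
  induction n with
  | zero =>
    intro x y
    simp
  | succ n ih =>
    intro x y
    have hc : Commute (EE φ) (RF φ (Cfsg.Agent.H943.SL2Rel.u 1)) := by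
      unfold EE
      exact (Commute.refl _).sub_left (Commute.one_left _)
    have h2 : RF φ (Cfsg.Agent.H943.SL2Rel.u 1) ((EE φ ^ n) x) = (EE φ ^ n) (RF φ (Cfsg.Agent.H943.SL2Rel.u 1) x) := by
      rw [← Module.End.mul_apply, ← Module.End.mul_apply, (hc.pow_left n).eq]
    rw [pow_succ' (EE φ), Module.End.mul_apply, EE_adj, h2, ih, pow_succ (RF φ _) n, Module.End.mul_apply,
      ← pow_succ' (EE φ), pow_succ (EE φ) n, Module.End.mul_apply, pow_succ (-1 : F)]
    ring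

theorem tf_pow_zero {n : ℕ} {x y : I27 → F} (h : (EE φ ^ n) y = 0) : tf ((EE φ ^ n) x) y = 0 := by
  rw [EE_adj_pow, h, tf_zr, mul_zero]

end Cfsg.Agent.R2.F4N
end

-- part: R2/F4N/Q13c
section
prune_inst 0x1002440110002000000059011001e46820004200008000088a001020480cc0009420860a81000021aa880050031000811000010420000000a000000011a018000010202a089a000040098000080400000000000000000000000000000010004000000000
set_option linter.all false
open scoped Cfsg.Agent.FastGrp

/-!
# `Q = 13` : the products `x i * x j` (lead, S5931)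
-/

set_option autoImplicit false
set_option linter.unusedSectionVars false

namespace Cfsg.Agent.R2.F4N

open Cfsg Cfsg.Lie Module Matrix Finset
open Cfsg.Agent.ChevalleyStructure.E6Min.Basic
open Cfsg.Agent.H952.F4 Cfsg.Agent.H952.F4.Jord
open Cfsg.Agent.H952.F4.FixV (W0 mem_W0 finrank_W0 u0_ne_zero tr1_eq)
open Cfsg.Agent.R2.F4M

universe u v w

variable {F : Type u} [Field F] [Fintype F] {K : Type v} [Field K] [Fintype K]
variable {φ : ProjectiveSpecialLinearGroup (Fin 2) K →* ↥(chevF4.group F)} {κ : K →+* F} {x : ℕ → I27 → F}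

/-- the input for `Q = 13` -/
structure Qt (κ : K →+* F) (φ : ProjectiveSpecialLinearGroup (Fin 2) K →* ↥(chevF4.group F)) (x : ℕ → I27 → F) : Prop where
  card : Fintype.card K = 13
  chF : CharP F 13
  chK : CharP K 13
  str : Str κ (RF φ) 8 x
  big : ∀ s, 8 < s → x s = 0
  tr : ∀ s, tr1 (x s) = 0
  iso : ∀ s t, tf (x s) (x t) = 0
  ne : x 8 ≠ 0
  nw : ∃ i j, st (x i) (x j) ≠ 0
  fix : ∀ v e, tr1 v = 0 → (∀ t, RF φ (Cfsg.Agent.H943.SL2Rel.u t) v = v) → Wt κ φ e v → e % 12 ≠ 4 → e % 12 ≠ 8 → v = 0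
  fix8 : ∀ v e, tr1 v = 0 → (∀ t, RF φ (Cfsg.Agent.H943.SL2Rel.u t) v = v) → Wt κ φ e v → e % 12 = 8 → ∃ c : F, v = c • x 8
  ss : ∀ v e, tr1 v = 0 → (∀ t, RF φ (Cfsg.Agent.H943.SL2Rel.u t) v = v) → Wt κ φ e v → e % 12 = 4 →
    ∑ t : K, RF φ (Cfsg.Agent.H943.SL2Rel.u t) (RF φ Cfsg.Agent.H943.SL2Rel.w v) = 0 → v = 0

/-- the line of `x n` -/
def SX (x : ℕ → I27 → F) (n : ℕ) : Submodule F (I27 → F) := Submodule.span F {x n}

/-- products -/
def SP (x : ℕ → I27 → F) (n : ℕ) : Submodule F (I27 → F) :=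
  Submodule.span F {v | ∃ i j, i + j = n ∧ v = st (x i) (x j)}

/-- triple products -/
def SM (x : ℕ → I27 → F) (n : ℕ) : Submodule F (I27 → F) :=
  Submodule.span F {v | ∃ i j l, i + (j + l) = n ∧ v = st (x i) (st (x j) (x l))}

theorem SP.gen (i j : ℕ) : st (x i) (x j) ∈ SP x (i + j) := Submodule.subset_span ⟨i, j, rfl, rfl⟩

theorem SM.gen (i j l : ℕ) : st (x i) (st (x j) (x l)) ∈ SM x (i + (j + l)) := Submodule.subset_span ⟨i, j, l, rfl, rfl⟩

theorem SXX {m m' : ℕ} {y z : I27 → F} (hy : y ∈ SX x m) (hz : z ∈ SX x m') : st y z ∈ SP x (m + m') := by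
  obtain ⟨c, rfl⟩ := Submodule.mem_span_singleton.1 hy
  obtain ⟨d, rfl⟩ := Submodule.mem_span_singleton.1 hz
  rw [st_smul_left, st_smul_right]
  exact Submodule.smul_mem _ _ (Submodule.smul_mem _ _ (SP.gen m m'))

theorem SXP {m m' : ℕ} {y z : I27 → F} (hy : y ∈ SX x m) (hz : z ∈ SP x m') : st y z ∈ SM x (m + m') := by
  obtain ⟨c, rfl⟩ := Submodule.mem_span_singleton.1 hy
  induction hz using Submodule.span_induction with
  | mem z hz =>
    obtain ⟨i, j, rfl, rfl⟩ := hz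
    rw [st_smul_left]
    exact Submodule.smul_mem _ _ (SM.gen _ _ _)
  | zero =>
    rw [st_zero_right]
    exact Submodule.zero_mem _
  | add y z _ _ hy hz =>
    rw [st_add_right]
    exact Submodule.add_mem _ hy hz
  | smul d y _ hy =>
    rw [st_smul_right]
    exact Submodule.smul_mem _ _ hy

namespace Qt

variable (q : Qt κ φ x)

include q

theorem h2 : (2 : F) ≠ 0 := by
  have := q.chF
  have h := (CharP.cast_eq_zero_iff F 13 2).not.2 (by norm_num)
  exact_mod_cast h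

theorem h3 : (3 : F) ≠ 0 := by
  have := q.chF
  have h := (CharP.cast_eq_zero_iff F 13 3).not.2 (by norm_num)
  exact_mod_cast h

theorem num (n : ℕ) (hn : n % 13 ≠ 0) : (n : F) ≠ 0 := by
  have := q.chF
  exact (CharP.cast_eq_zero_iff F 13 n).not.2 (by omega)

theorem pow12 (g : Kˣ) : κ (g : K) ^ 12 = 1 := by
  classical
  have h := FiniteField.pow_card_sub_one_eq_one (g : K) g.ne_zero
  rw [q.card] at h
  rw [← map_pow, h, map_one]

theorem mod {e e' : ℕ} {v : I27 → F} (h : Wt κ φ e v) (he : e % 12 = e' % 12) : Wt κ φ e' v := by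
  intro g
  rw [h g]
  congr 1
  rw [← Nat.div_add_mod e 12, ← Nat.div_add_mod e' 12, pow_add, pow_add, pow_mul, pow_mul, q.pow12, one_pow, one_pow, he]

theorem wX (s : ℕ) : Wt κ φ (2 * s + 4) (x s) := by
  rcases le_or_gt s 8 with hs | hs
  · intro g
    rw [q.str.h s hs]
    congr 1
    have hg0 : κ (g : K) ≠ 0 := (map_ne_zero κ).2 g.ne_zero
    have h1 : κ (g : K) ^ (4 + s) * κ (g : K) ^ (8 - s) = 1 := by
      rw [← pow_add, show 4 + s + (8 - s) = 12 by omega, q.pow12]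
    have h2 : ((κ (g : K))⁻¹) ^ (8 - s) = κ (g : K) ^ (4 + s) := by
      rw [inv_pow]
      exact inv_eq_of_mul_eq_one_left h1
    rw [h2, ← pow_add]
    congr 1
    omega
  · rw [q.big s hs]
    exact Wt.zero

theorem wP (i j : ℕ) : Wt κ φ (2 * (i + j) + 8) (st (x i) (x j)) := ((q.wX i).st (q.wX j)).congr (by omega)

theorem wM (i j l : ℕ) : Wt κ φ (2 * (i + (j + l)) + 12) (st (x i) (st (x j) (x l))) :=
  ((q.wX i).st (q.wP j l)).congr (by omega)

theorem wSP {n : ℕ} {v : I27 → F} (hv : v ∈ SP x n) : Wt κ φ (2 * n + 8) v := by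
  refine Wt.span ?_ v hv
  rintro _ ⟨i, j, rfl, rfl⟩
  exact q.wP i j

theorem UX (n : ℕ) : ∀ v ∈ SX x n, UU κ φ 9 (SX x) n v := by
  refine UU.span ?_
  rintro _ rfl
  rcases le_or_gt n 8 with hn | hn
  · refine ⟨fun r => ((8 - n).choose r : F) • x (n + r), ?_, fun r => ?_, fun t => ?_⟩
    · simp only [_root_.Nat.choose_zero_right, _root_.Nat.cast_one, _root_.add_zero, _root_.one_smul]
    · exact Submodule.smul_mem _ _ (Submodule.mem_span_singleton_self _)
    · rw [q.str.u' (d := 9) (by norm_num) hn]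
      refine Finset.sum_congr rfl fun j _ => ?_
      rw [smul_smul, mul_comm]
  · rw [q.big n hn]
    exact UU.zero

theorem UP (n : ℕ) : ∀ v ∈ SP x n, UU κ φ 18 (SP x) n v := by
  refine UU.span ?_
  rintro _ ⟨i, j, rfl, rfl⟩
  exact ((q.UX i _ (Submodule.mem_span_singleton_self _)).st (q.UX j _ (Submodule.mem_span_singleton_self _))
    (by norm_num) (by norm_num) fun m m' y z hy hz => SXX hy hz :)

theorem UM (n : ℕ) : ∀ v ∈ SM x n, UU κ φ 27 (SM x) n v := by
  refine UU.span ?_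
  rintro _ ⟨i, j, l, rfl, rfl⟩
  exact ((q.UX i _ (Submodule.mem_span_singleton_self _)).st (q.UP (j + l) _ (SP.gen j l))
    (by norm_num) (by norm_num) fun m m' y z hy hz => SXP hy hz :)

theorem SX_big {n : ℕ} (hn : 9 ≤ n) : SX x n = ⊥ := by
  unfold SX
  rw [q.big n (by omega), Submodule.span_singleton_eq_bot]

theorem P_big {i j : ℕ} (h : 17 ≤ i + j) : st (x i) (x j) = 0 := by
  rcases le_or_gt i 8 with hi | hi
  · rw [q.big j (by omega), st_zero_right]
  · rw [q.big i hi, st_zero_left]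

theorem SP_big {n : ℕ} (hn : 17 ≤ n) : SP x n = ⊥ := by
  unfold SP
  rw [Submodule.span_eq_bot]
  rintro _ ⟨i, j, rfl, rfl⟩
  exact q.P_big hn

theorem SM_bot {n : ℕ} (h : ∀ i j l, i ≤ 8 → j ≤ 8 → l ≤ 8 → i + (j + l) = n → st (x i) (st (x j) (x l)) = 0) :
    SM x n = ⊥ := by
  unfold SM
  rw [Submodule.span_eq_bot]
  rintro _ ⟨i, j, l, hn, rfl⟩
  rcases le_or_gt i 8 with hi | hi
  · rcases le_or_gt j 8 with hj | hj
    · rcases le_or_gt l 8 with hl | hl
      · exact h i j l hi hj hl hn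
      · rw [q.big l hl, st_zero_right, st_zero_right]
    · rw [q.big j hj, st_zero_left, st_zero_right]
  · rw [q.big i hi, st_zero_left]

/-- sums over `U` -/
theorem sumU {S : ℕ → Submodule F (I27 → F)} {L n : ℕ} {v : I27 → F} (h : UU κ φ L S n v)
    (hS : ∀ r, r ≠ 0 → 12 ∣ r → S (n + r) = ⊥) : ∑ t : K, RF φ (Cfsg.Agent.H943.SL2Rel.u t) v = 0 := by
  obtain ⟨c, h1, h2, h3⟩ := h
  simp only [h3]
  rw [Finset.sum_comm]
  refine Finset.sum_eq_zero fun r _ => ?_
  rw [← Finset.sum_smul, sum_pow, q.card]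
  by_cases hr : r ≠ 0 ∧ 13 - 1 ∣ r
  · have h4 := h2 r
    rw [hS r hr.1 hr.2, Submodule.mem_bot] at h4
    rw [h4, smul_zero]
  · rw [if_neg hr, zero_smul]

/-- the formula for `x s * x 8` -/
theorem uP8 {s : ℕ} (hs : s ≤ 8) (t : K) : RF φ (Cfsg.Agent.H943.SL2Rel.u t) (st (x s) (x 8)) =
    ∑ i ∈ range (8 - s + 1), (((8 - s).choose i : F) * κ t ^ i) • st (x (s + i)) (x 8) := by
  rw [← RF_st, q.str.top, q.str.u s hs, st_sum_left]
  exact Finset.sum_congr rfl fun i _ => st_smul_left _ _ _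

theorem trP (i j : ℕ) : tr1 (st (x i) (x j)) = 0 := tr1_st q.h3 (q.tr i) _

theorem trX (i : ℕ) (c : F) : tr1 (c • x i) = 0 := by rw [tr1_smul, q.tr, mul_zero]

theorem tr_sub' {v w : I27 → F} (hv : tr1 v = 0) (hw : tr1 w = 0) : tr1 (v - w) = 0 := by
  rw [sub_eq_add_neg, tr1_add, hv, ← neg_one_smul F w, tr1_smul, hw]
  ring

/-- `x 8 * x 8 ≠ 0` -/
theorem z_ne : st (x 8) (x 8) ≠ 0 := by
  intro h8
  have hx8 : x 8 ≠ 0 := q.ne
  have f7 : st (x 7) (x 8) = 0 := by
    refine q.fix _ _ (q.trP _ _) (fun t => ?_) (q.wP _ _) (by norm_num) (by norm_num)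
    rw [q.uP8 (by norm_num)]
    simp only [Finset.sum_range_succ, h8, _root_.Nat.reduceSub, _root_.Nat.reduceAdd, _root_.Finset.range_one, _root_.Finset.sum_singleton, _root_.Nat.choose_succ_self_right, _root_.zero_add, _root_.Nat.cast_one, _root_.pow_zero, _root_.mul_one, _root_.add_zero, _root_.one_smul, _root_.Nat.choose_self, _root_.pow_one, _root_.one_mul, _root_.smul_zero]
  have f6 : st (x 6) (x 8) = 0 := by
    refine q.fix _ _ (q.trP _ _) (fun t => ?_) (q.wP _ _) (by norm_num) (by norm_num)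
    rw [q.uP8 (by norm_num)]
    simp only [Finset.sum_range_succ, h8, f7, _root_.Nat.reduceSub, _root_.Nat.reduceAdd, _root_.Finset.range_one, _root_.Finset.sum_singleton, _root_.Nat.choose_zero_right, _root_.Nat.cast_one, _root_.pow_zero, _root_.mul_one, _root_.add_zero, _root_.one_smul, _root_.Nat.choose_succ_self_right, _root_.Nat.cast_ofNat, _root_.pow_one, _root_.smul_zero, _root_.Nat.choose_self, _root_.one_mul]
  have f5 : st (x 5) (x 8) = 0 := by
    refine q.fix _ _ (q.trP _ _) (fun t => ?_) (q.wP _ _) (by norm_num) (by norm_num)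
    rw [q.uP8 (by norm_num)]
    simp only [Finset.sum_range_succ, h8, f7, f6, _root_.Nat.reduceSub, _root_.Nat.reduceAdd, _root_.Finset.range_one, _root_.Finset.sum_singleton, _root_.Nat.choose_zero_right, _root_.Nat.cast_one, _root_.pow_zero, _root_.mul_one, _root_.add_zero, _root_.one_smul, _root_.Nat.choose_one_right, _root_.Nat.cast_ofNat, _root_.pow_one, _root_.smul_zero, _root_.Nat.choose_succ_self_right, _root_.Nat.choose_self, _root_.one_mul]
  obtain ⟨l, f4⟩ : ∃ l : F, st (x 4) (x 8) = l • x 8 := by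
    refine q.fix8 _ _ (q.trP _ _) (fun t => ?_) (q.wP _ _) (by norm_num)
    rw [q.uP8 (by norm_num)]
    simp only [Finset.sum_range_succ, h8, f7, f6, f5, _root_.Nat.reduceSub, _root_.Nat.reduceAdd, _root_.Finset.range_one, _root_.Finset.sum_singleton, _root_.Nat.choose_zero_right, _root_.Nat.cast_one, _root_.pow_zero, _root_.mul_one, _root_.add_zero, _root_.one_smul, _root_.Nat.choose_one_right, _root_.Nat.cast_ofNat, _root_.pow_one, _root_.smul_zero, _root_.Nat.choose_succ_self_right, _root_.Nat.choose_self, _root_.one_mul]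
  have f3 : st (x 3) (x 8) = (5 * l) • x 7 := by
    rw [← sub_eq_zero]
    refine q.fix _ _ (q.tr_sub' (q.trP _ _) (q.trX _ _)) (fun t => ?_) ((q.wP _ _).sub (q.mod ((q.wX _).smul _) (by norm_num)))
      (by norm_num) (by norm_num)
    rw [map_sub, map_smul, q.uP8 (by norm_num), q.str.u _ (by norm_num)]
    simp only [Finset.sum_range_succ, Finset.sum_range_zero, Nat.reduceSub, Nat.reduceAdd, Nat.choose, h8, f7, f6, f5, f4,
      smul_zero]
    push_cast
    module
  have f2 : st (x 2) (x 8) = (15 * l) • x 6 := by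
    rw [← sub_eq_zero]
    refine q.ss _ _ (q.tr_sub' (q.trP _ _) (q.trX _ _)) (fun t => ?_) ((q.wP _ _).sub (q.mod ((q.wX _).smul _) (by norm_num)))
      (by norm_num) ?_
    · rw [map_sub, map_smul, q.uP8 (by norm_num), q.str.u _ (by norm_num)]
      simp only [Finset.sum_range_succ, Finset.sum_range_zero, Nat.reduceSub, Nat.reduceAdd, Nat.choose, h8, f7, f6, f5, f4,
        f3, smul_zero]
      push_cast
      module
    · simp only [map_sub, Finset.sum_sub_distrib, ← RF_st, q.str.w 2 (by norm_num), q.str.w 8 le_rfl, q.str.w 6 (by norm_num),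
        map_smul]
      simp only [RF_st, st_smul_left, st_smul_right, map_smul]
      rw [← Finset.smul_sum, ← Finset.smul_sum, ← Finset.smul_sum, ← Finset.smul_sum,
        q.sumU (q.UP _ _ (SP.gen _ _)) fun r hr hd => q.SP_big (by omega),
        q.sumU (q.UX _ _ (Submodule.mem_span_singleton_self _)) fun r hr hd => q.SX_big (by omega)]
      simp only [_root_.even_two, _root_.Even.neg_pow, _root_.one_pow, _root_.smul_zero, _root_.sub_self]
  have f1 : st (x 1) (x 8) = (35 * l) • x 5 := by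
    rw [← sub_eq_zero]
    refine q.fix _ _ (q.tr_sub' (q.trP _ _) (q.trX _ _)) (fun t => ?_) ((q.wP _ _).sub (q.mod ((q.wX _).smul _) (by norm_num)))
      (by norm_num) (by norm_num)
    rw [map_sub, map_smul, q.uP8 (by norm_num), q.str.u _ (by norm_num)]
    simp only [Finset.sum_range_succ, Finset.sum_range_zero, Nat.reduceSub, Nat.reduceAdd, Nat.choose, h8, f7, f6, f5, f4,
      f3, f2, smul_zero]
    push_cast
    module
  have f0 : st (x 0) (x 8) = (70 * l) • x 4 := by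
    rw [← sub_eq_zero]
    refine q.fix _ _ (q.tr_sub' (q.trP _ _) (q.trX _ _)) (fun t => ?_) ((q.wP _ _).sub (q.mod ((q.wX _).smul _) (by norm_num)))
      (by norm_num) (by norm_num)
    rw [map_sub, map_smul, q.uP8 (by norm_num), q.str.u _ (by norm_num)]
    simp only [Finset.sum_range_succ, Finset.sum_range_zero, Nat.reduceSub, Nat.reduceAdd, Nat.choose, h8, f7, f6, f5, f4,
      f3, f2, f1, smul_zero]
    push_cast
    module
  -- `l = 0`
  have hl : l = 0 := by
    have h1 := st_pol2 q.h2 q.h3 (q.tr 8) (q.tr 0)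
    rw [h8, st_zero_right, q.iso, q.iso, mul_zero, mul_zero, zero_smul, zero_smul, st_comm (x 8) (x 0), f0, st_smul_right,
      st_comm (x 8) (x 4), f4, add_zero, add_zero, smul_smul, smul_smul] at h1
    have h2 := (smul_eq_zero.1 h1).resolve_right hx8
    have h3 : (140 : F) ≠ 0 := by exact_mod_cast q.num 140 (by norm_num)
    have h4 : (140 : F) * (l * l) = 0 := by linear_combination h2
    exact mul_self_eq_zero.1 ((mul_eq_zero.1 h4).resolve_left h3)
  subst hl
  simp only [mul_zero, zero_smul] at f0 f1 f2 f3 f4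
  have g8 : ∀ j, st (x j) (x 8) = 0 := by
    intro j
    rcases le_or_gt j 8 with hj | hj
    · interval_cases j <;> with_reducible assumption
    · rw [q.big j hj, st_zero_left]
  have g0 : ∀ j, st (x 0) (x j) = 0 := by
    intro j
    rcases le_or_gt j 8 with hj | hj
    · have h1 := congrArg (RF φ Cfsg.Agent.H943.SL2Rel.w) (g8 (8 - j))
      rw [← RF_st, q.str.w _ (by omega), q.str.w 8 le_rfl, map_zero, st_smul_left, st_smul_right, show 8 - (8 - j) = j by omega,
        Nat.sub_self, smul_smul, st_comm] at h1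
      exact (smul_eq_zero.1 h1).resolve_left (mul_ne_zero (pow_ne_zero _ (neg_ne_zero.2 one_ne_zero))
        (pow_ne_zero _ (neg_ne_zero.2 one_ne_zero)))
    · rw [q.big j hj, st_zero_right]
  obtain ⟨i, j, hij⟩ := q.nw
  apply hij
  have hi : i ≤ 8 := by
    by_contra h
    exact hij (by rw [q.big i (by omega), st_zero_left])
  have hj : j ≤ 8 := by
    by_contra h
    exact hij (by rw [q.big j (by omega), st_zero_right])
  have h1 : ∀ t : K, st (RF φ (Cfsg.Agent.H943.SL2Rel.u t) (x 0)) (x j) = 0 := by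
    intro t
    have h2 : x j = RF φ (Cfsg.Agent.H943.SL2Rel.u t) (RF φ (Cfsg.Agent.H943.SL2Rel.u (-t)) (x j)) := by
      rw [← Module.End.mul_apply, ← map_mul, ← Cfsg.Agent.H943.SL2Rel.u_add, add_neg_cancel, Cfsg.Agent.H943.SL2Rel.u_zero,
        map_one, Module.End.one_apply]
    rw [h2, RF_st, q.str.u j hj, st_sum_right, Finset.sum_eq_zero, map_zero]
    intro r _
    rw [st_smul_right, g0, smul_zero]
  funext m
  have h2 := coef_zero κ (d := 9) (by rw [q.card]; norm_num) (c := fun r => ((8 : ℕ).choose r : F) * st (x r) (x j) m)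
    (fun t => by
      have h3 := congrFun (h1 t) m
      rw [q.str.u 0 (Nat.zero_le _), st_sum_left, Finset.sum_apply] at h3
      refine Eq.trans ?_ h3
      refine Finset.sum_congr rfl fun r _ => ?_
      rw [st_smul_left, Pi.smul_apply, smul_eq_mul, zero_add]
      ring) i (by omega)
  have h3 : Fact (Nat.Prime 13) := ⟨by norm_num⟩
  have h4 := q.chF
  exact (mul_eq_zero.1 h2).resolve_left (choose_ne (p := 13) (by norm_num) hi)

end Qt

end Cfsg.Agent.R2.F4N
end

-- part: R2/F4N/Q13d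
section
prune_inst 0x1002440110002000000059011001e4286000422000b0000b8e001060cc2dc6089422e60ac1008121aa894850031000811000010420000000a000000011b018000010202b199ad00300098000080400000000000000000000000000000051004000000000
set_option linter.all false
open scoped Cfsg.Agent.FastGrp

/-!
# `Q = 13` : the triple products `x i * (x j * x l)` vanish for `i + j + l ≥ 21` (lead, S5931)
-/

set_option autoImplicit false
set_option linter.unusedSectionVars false

namespace Cfsg.Agent.R2.F4N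

open Cfsg Cfsg.Lie Module Matrix Finset
open Cfsg.Agent.ChevalleyStructure.E6Min.Basic
open Cfsg.Agent.H952.F4 Cfsg.Agent.H952.F4.Jord
open Cfsg.Agent.H952.F4.FixV (W0 mem_W0 finrank_W0 u0_ne_zero tr1_eq)
open Cfsg.Agent.R2.F4M

universe u v w

variable {F : Type u} [Field F] [Fintype F] {K : Type v} [Field K] [Fintype K]
variable {φ : ProjectiveSpecialLinearGroup (Fin 2) K →* ↥(chevF4.group F)} {κ : K →+* F} {x : ℕ → I27 → F}

namespace Qt

variable (q : Qt κ φ x)

include q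

theorem trM (i j l : ℕ) : tr1 (st (x i) (st (x j) (x l))) = 0 := tr1_st q.h3 (q.tr i) _

/-- the cubic form on `X` is exact -/
theorem tfX {i j l : ℕ} (h : i + j + l ≠ 12) : tf (st (x i) (x j)) (x l) = 0 := by
  have h3 : Fact (Nat.Prime 13) := ⟨by norm_num⟩
  have h4 := q.chF
  rcases le_or_gt i 8 with hi | hi
  · rcases le_or_gt j 8 with hj | hj
    · rcases le_or_gt l 8 with hl | hl
      · rw [tf_st _ _ (q.tr l), ← NN_apply]
        exact exact (by exact NN_RF) q.str q.str q.str (p := 13) (s := 12) (by rw [q.card]) (by norm_num) (by norm_num) (by norm_num)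
          (by norm_num) (by rw [q.card]; norm_num) hi hj hl h
      · rw [q.big l hl, tf_zr]
    · rw [q.big j hj, st_zero_right, tf_zl]
  · rw [q.big i hi, st_zero_left, tf_zl]

/-- the polarized identity on `X` -/
theorem polX (i j l : ℕ) : st (x i) (st (x j) (x l)) + st (x j) (st (x i) (x l)) + st (x l) (st (x i) (x j)) = 0 := by
  rw [st_pol q.h2 q.h3 (q.tr i) (q.tr j) (q.tr l), q.iso, q.iso, q.iso]
  simp

theorem fixM {i j l : ℕ} (h : ∀ r, 1 ≤ r → SM x (i + (j + l) + r) = ⊥) (t : K) :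
    RF φ (Cfsg.Agent.H943.SL2Rel.u t) (st (x i) (st (x j) (x l))) = st (x i) (st (x j) (x l)) :=
  (q.UM _ _ (SM.gen i j l)).fixed (by norm_num) h t

theorem m24 : ∀ n, 24 ≤ n → SM x n = ⊥ := by
  intro n hn
  refine q.SM_bot fun i j l hi hj hl h => ?_
  obtain rfl : i = 8 := by omega
  obtain rfl : j = 8 := by omega
  obtain rfl : l = 8 := by omega
  rw [st_st_self q.h2 q.h3 (q.tr 8), q.iso, mul_zero, zero_smul]

theorem m23 : ∀ n, 23 ≤ n → SM x n = ⊥ := by
  intro n hn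
  rcases Nat.lt_or_ge 23 n with h1 | h1
  · exact q.m24 n (by omega)
  obtain rfl : n = 23 := by omega
  refine q.SM_bot fun i j l hi hj hl h => ?_
  refine q.fix _ _ (q.trM _ _ _) (fun t => q.fixM (fun r hr => q.m24 _ (by omega)) t) (q.wM i j l) ?_ ?_ <;> rw [h] <;> norm_num

/-- `x 7 * x 7 = x 6 * x 8` -/
theorem p77 : st (x 7) (x 7) = st (x 6) (x 8) := by
  rw [← sub_eq_zero]
  refine q.fix _ _ (q.tr_sub' (q.trP _ _) (q.trP _ _)) (fun t => ?_) ((q.wP 7 7).sub (q.wP 6 8)) (by norm_num) (by norm_num)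
  rw [map_sub, ← RF_st, ← RF_st, q.str.top, q.str.u 7 (by norm_num), q.str.u 6 (by norm_num)]
  simp only [Finset.sum_range_succ, Finset.sum_range_zero, Nat.reduceSub, Nat.reduceAdd, Nat.choose, st_add_left,
    st_add_right, st_smul_left, st_smul_right, zero_add, st_comm (x 8) (x 7)]
  push_cast
  module

/-- the special argument -/
theorem a_zero : st (x 8) (st (x 6) (x 8)) = 0 := by
  have h78 : 7 + 1 = 8 := rfl
  obtain ⟨a, ha⟩ : ∃ a : F, st (x 8) (st (x 6) (x 8)) = a • x 8 := by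
    refine q.fix8 _ _ (q.trM _ _ _) (fun t => q.fixM (fun r hr => q.m23 _ (by omega)) t) (q.wM 8 6 8) (by norm_num)
  obtain ⟨z, hz⟩ : ∃ z, z = st (x 8) (x 8) := ⟨_, rfl⟩
  have hz0 : z ≠ 0 := hz ▸ q.z_ne
  have htz : tr1 z = 0 := hz ▸ q.trP _ _
  -- `x 6 * z = -2 a x 8`
  have h1 : st (x 6) z = (-2 * a) • x 8 := by
    have h := q.polX 6 8 8
    rw [← hz, ha] at h
    have h' : st (x 6) z = -(a • x 8 + a • x 8) := by
      rw [eq_neg_iff_add_eq_zero, ← h]
      abel
    rw [h']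
    module
  -- `z × (x 8 × x 6) = 0`
  have h2 : cr z (st (x 6) (x 8)) = 0 := by
    have e1 : cr (x 8) (x 8) = z := by
      rw [hz]
      unfold F4N.st
      rw [q.iso, zero_div, zero_smul, add_zero]
    have e2 : cr (x 8) (x 6) = st (x 6) (x 8) := by
      rw [st_comm]
      unfold F4N.st
      rw [q.iso, zero_div, zero_smul, add_zero]
    have e3 : sh (x 8) = (2 : F)⁻¹ • z := by
      rw [← e1, cr_self, smul_smul, inv_mul_cancel₀ q.h2, one_smul]
    have e4 : tf z (x 8) = 0 := by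
      rw [hz]
      exact q.tfX (by norm_num)
    have e5 : tf z (x 6) = 0 := by
      rw [hz]
      exact q.tfX (by norm_num)
    have e6 : cubicT (x 8) = 0 := by
      have h := tf_sh_self (x 8)
      rw [e3, tf_smul_left, e4, mul_zero] at h
      exact (mul_eq_zero.1 h.symm).resolve_left q.h3
    have h := cr_sh_cr (x 8) (x 6)
    rw [e2, e3, cr_smul_left, tf_smul_left, e5, e6, mul_zero, zero_smul, zero_smul, add_zero] at h
    exact (smul_eq_zero.1 h).resolve_left (inv_ne_zero q.h2)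
  have h3 : st z (st (x 6) (x 8)) = 0 := by
    have h := tr1_cr z (st (x 6) (x 8))
    have e0 : tr1 (0 : I27 → F) = 0 := by rw [← zero_smul F (0 : I27 → F), tr1_smul, zero_mul]
    rw [h2, htz, zero_mul, zero_sub, e0] at h
    have h' : tf z (st (x 6) (x 8)) = 0 := neg_eq_zero.1 h.symm
    show cr z (st (x 6) (x 8)) + (tf z (st (x 6) (x 8)) / 3) • u0 F = 0
    rw [h2, h', zero_div, zero_smul, add_zero]
  have h4 : st (x 8) z = 0 := by
    rw [hz, st_st_self q.h2 q.h3 (q.tr 8), q.iso, mul_zero, zero_smul]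
  have h5 := st_pol q.h2 q.h3 (q.tr 6) (q.tr 8) htz
  rw [h4, h1, h3, st_zero_right, st_smul_right, ← hz, q.iso, tf_comm (x 6) z, tf_comm (x 8) z, hz, q.tfX (by norm_num),
    q.tfX (by norm_num), ← hz] at h5
  have h6 : (-2 * a) • z = 0 := by
    rw [← zero_add ((-2 * a) • z), ← add_zero (0 + (-2 * a) • z), h5]
    simp
  have h7 : a = 0 := by
    have := (smul_eq_zero.1 h6).resolve_right hz0
    exact (mul_eq_zero.1 this).resolve_left (neg_ne_zero.2 q.h2)
  rw [ha, h7, zero_smul]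

theorem m22 : ∀ n, 22 ≤ n → SM x n = ⊥ := by
  intro n hn
  rcases Nat.lt_or_ge 22 n with h1 | h1
  · exact q.m23 n (by omega)
  obtain rfl : n = 22 := by omega
  have a1 := q.a_zero
  have a2 : st (x 8) (st (x 7) (x 7)) = 0 := by rw [q.p77, a1]
  have a3 : st (x 6) (st (x 8) (x 8)) = 0 := by
    have h := q.polX 6 8 8
    rwa [a1, add_zero, add_zero] at h
  have a4 : st (x 7) (st (x 7) (x 8)) = 0 := by
    have h := q.polX 7 7 8
    rw [a2, add_zero, ← two_smul F] at h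
    exact (smul_eq_zero.1 h).resolve_left q.h2
  refine q.SM_bot fun i j l hi hj hl h => ?_
  have hc : (i = 6 ∧ j = 8 ∧ l = 8) ∨ (i = 7 ∧ j = 7 ∧ l = 8) ∨ (i = 7 ∧ j = 8 ∧ l = 7) ∨ (i = 8 ∧ j = 6 ∧ l = 8) ∨
      (i = 8 ∧ j = 8 ∧ l = 6) ∨ (i = 8 ∧ j = 7 ∧ l = 7) := by (solve | lia | omega)
  rcases hc with ⟨rfl, rfl, rfl⟩ | ⟨rfl, rfl, rfl⟩ | ⟨rfl, rfl, rfl⟩ | ⟨rfl, rfl, rfl⟩ | ⟨rfl, rfl, rfl⟩ | ⟨rfl, rfl, rfl⟩
  · exact a3
  · exact a4
  · rw [st_comm (x 8) (x 7)]
    exact a4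
  · exact a1
  · rw [st_comm (x 8) (x 6)]
    exact a1
  · exact a2

theorem m21 : ∀ n, 21 ≤ n → SM x n = ⊥ := by
  intro n hn
  rcases Nat.lt_or_ge 21 n with h1 | h1
  · exact q.m22 n (by omega)
  obtain rfl : n = 21 := by omega
  refine q.SM_bot fun i j l hi hj hl h => ?_
  refine q.fix _ _ (q.trM _ _ _) (fun t => q.fixM (fun r hr => q.m22 _ (by omega)) t) (q.wM i j l) ?_ ?_ <;> rw [h] <;> norm_num

/-- **depths** -/
theorem dP (i j : ℕ) : (EE φ ^ (17 - (i + j))) (st (x i) (x j)) = 0 :=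
  depth q.UP (by norm_num) (fun n hn => q.SP_big hn) _ _ (by omega) _ (SP.gen i j)

theorem dM (i j l : ℕ) : (EE φ ^ (21 - (i + (j + l)))) (st (x i) (st (x j) (x l))) = 0 :=
  depth q.UM (by norm_num) q.m21 _ _ (by omega) _ (SM.gen i j l)

end Qt

end Cfsg.Agent.R2.F4N
end

-- part: R2/F4N/Q13e
section
prune_inst 0x1002400110002000000059011001e4686000420000b0000c8e001060c80ec6009420e60b83010029aa890854039004811000110420000000a000400011b018000810202b089a00002009e000880400000000000000000000000000000010004000000000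
set_option linter.all false
open scoped Cfsg.Agent.FastGrp

/-!
# `Q = 13` : all products are exact, and the torus (lead, S5931)
-/

set_option autoImplicit false
set_option linter.unusedSectionVars false

namespace Cfsg.Agent.R2.F4N

open Cfsg Cfsg.Lie Module Matrix Finset
open Cfsg.Agent.ChevalleyStructure.E6Min.Basic
open Cfsg.Agent.H952.F4 Cfsg.Agent.H952.F4.Jord
open Cfsg.Agent.H952.F4.FixV (W0 mem_W0 finrank_W0 u0_ne_zero tr1_eq)
open Cfsg.Agent.R2.F4M
open Cfsg.Agent.R2.GEO (tfB tfB_apply)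

universe u v w

variable {F : Type u} [Field F] [Fintype F] {K : Type v} [Field K] [Fintype K]
variable {φ : ProjectiveSpecialLinearGroup (Fin 2) K →* ↥(chevF4.group F)} {κ : K →+* F} {x : ℕ → I27 → F}

theorem sumU_fix (v : I27 → F) (s : K) : RF φ (Cfsg.Agent.H943.SL2Rel.u s) (∑ t : K, RF φ (Cfsg.Agent.H943.SL2Rel.u t) v) =
    ∑ t : K, RF φ (Cfsg.Agent.H943.SL2Rel.u t) v := by
  rw [map_sum]
  refine Fintype.sum_equiv (Equiv.addLeft s) _ _ fun t => ?_
  rw [Equiv.coe_addLeft, Cfsg.Agent.H943.SL2Rel.u_add, map_mul, Module.End.mul_apply]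

namespace Qt

variable (q : Qt κ φ x)

include q

theorem two_wt {e e' : ℕ} {v : I27 → F} (h : Wt κ φ e v) (h' : Wt κ φ e' v) (hle : e ≤ e') (hd : ¬ 12 ∣ e' - e) : v = 0 := by
  obtain ⟨g, hg⟩ := exists_gen κ
  by_contra hne
  apply hd
  have h0 := hg (e' - e) ?_
  · rwa [q.card] at h0
  · have hg0 : κ (g : K) ≠ 0 := (map_ne_zero κ).2 g.ne_zero
    have h1 : (κ (g : K) ^ e - κ (g : K) ^ e') • v = 0 := by rw [sub_smul, ← h g, ← h' g, sub_self]
    have h2 := sub_eq_zero.1 ((smul_eq_zero.1 h1).resolve_right hne)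
    refine mul_right_cancel₀ (pow_ne_zero e hg0) ?_
    rw [← pow_add, Nat.sub_add_cancel hle, ← h2, one_mul]

theorem sum04 : ∑ t : K, RF φ (Cfsg.Agent.H943.SL2Rel.u t) (st (x 0) (x 4)) = -st (x 8) (x 8) := by
  have h1 : ∀ t : K, RF φ (Cfsg.Agent.H943.SL2Rel.u t) (st (x 0) (x 4)) =
      ∑ i ∈ range 9, ∑ j ∈ range 5, κ t ^ (i + j) • (((8 : ℕ).choose i * (4 : ℕ).choose j : F) • st (x i) (x (4 + j))) := by
    intro t
    rw [← RF_st, q.str.u 0 (Nat.zero_le _), q.str.u 4 (by norm_num), st_sum_left]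
    refine Finset.sum_congr rfl fun i _ => ?_
    rw [st_sum_right]
    refine Finset.sum_congr rfl fun j _ => ?_
    rw [st_smul_left, st_smul_right, smul_smul, smul_smul, zero_add]
    congr 1
    rw [pow_add, Nat.sub_zero]
    ring
  simp only [h1]
  rw [Finset.sum_comm, Finset.sum_eq_single 8]
  · rw [Finset.sum_comm, Finset.sum_eq_single 4]
    · rw [← Finset.sum_smul, sum_pow, q.card, if_pos (by norm_num)]
      simp
    · intro j hj hj4
      have := Finset.mem_range.1 hj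
      rw [← Finset.sum_smul, sum_pow, q.card, if_neg (by omega), zero_smul]
    · intro h
      exact absurd (Finset.mem_range.2 (by norm_num)) h
  · intro i hi hi8
    have := Finset.mem_range.1 hi
    rw [Finset.sum_comm]
    refine Finset.sum_eq_zero fun j hj => ?_
    have := Finset.mem_range.1 hj
    rw [← Finset.sum_smul, sum_pow, q.card, if_neg (by omega), zero_smul]
  · intro h
    exact absurd (Finset.mem_range.2 (by norm_num)) h

theorem sum00 : ∃ c : F, c ≠ 0 ∧ ∑ t : K, RF φ (Cfsg.Agent.H943.SL2Rel.u t) (st (x 0) (x 0)) = c • x 8 := by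
  have h1 : RF φ Cfsg.Agent.H943.SL2Rel.w (st (x 8) (x 8)) = st (x 0) (x 0) := by
    rw [← RF_st, q.str.w 8 le_rfl, st_smul_left, st_smul_right, smul_smul]
    norm_num
  have h2 : ∑ t : K, RF φ (Cfsg.Agent.H943.SL2Rel.u t) (st (x 0) (x 0)) ≠ 0 := by
    intro h
    apply q.z_ne
    refine q.ss _ (2 * (8 + 8) + 8) (q.trP _ _) (fun t => ?_) (q.wP 8 8) (by norm_num) (by rw [h1]; exact h)
    rw [← RF_st, q.str.top]
  obtain ⟨c', hc1, hc2, hc3⟩ := q.UP _ _ (SP.gen 0 0)
  have h3 : ∑ t : K, RF φ (Cfsg.Agent.H943.SL2Rel.u t) (st (x 0) (x 0)) = -c' 12 := by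
    simp only [hc3]
    rw [Finset.sum_comm, Finset.sum_eq_single 12]
    · rw [← Finset.sum_smul, sum_pow, q.card, if_pos (by norm_num), neg_one_smul]
    · intro r hr hr12
      have := Finset.mem_range.1 hr
      rw [← Finset.sum_smul, sum_pow, q.card, if_neg (by omega), zero_smul]
    · intro h
      exact absurd (Finset.mem_range.2 (by norm_num)) h
  obtain ⟨c, hc⟩ := q.fix8 (∑ t : K, RF φ (Cfsg.Agent.H943.SL2Rel.u t) (st (x 0) (x 0))) (2 * (0 + 0 + 12) + 8) (by
    rw [h3, ← neg_one_smul F, tr1_smul]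
    have h4 : ∀ n, ∀ v ∈ SP x n, tr1 v = 0 := by
      intro n v hv
      induction hv using Submodule.span_induction with
      | mem v hv =>
        obtain ⟨i, j, rfl, rfl⟩ := hv
        exact q.trP _ _
      | zero => rw [← zero_smul F (0 : I27 → F), tr1_smul, zero_mul]
      | add a b _ _ ha hb => rw [tr1_add, ha, hb, add_zero]
      | smul c a _ ha => rw [tr1_smul, ha, mul_zero]
    rw [h4 _ _ (hc2 12), mul_zero]) (fun t => sumU_fix _ t) (by
    rw [h3, ← neg_one_smul F]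
    exact (q.wSP (hc2 12)).smul _) (by norm_num)
  refine ⟨c, ?_, hc⟩
  rintro rfl
  rw [zero_smul] at hc
  exact h2 hc

theorem hstE : ∀ v ∈ W0 F, EE φ v ∈ W0 F := by
  intro v hv
  rw [mem_W0] at hv ⊢
  unfold EE
  rw [LinearMap.sub_apply, Module.End.one_apply]
  exact q.tr_sub' (by rw [RF_tr, hv]) hv

theorem hge : ∀ n, 13 ≤ n → ∀ v : I27 → F, (EE φ ^ n) v = 0 := by
  intro n hn v
  have h3 : Fact (Nat.Prime 13) := ⟨by norm_num⟩
  have h4 := q.chF
  have h5 := q.chK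
  rw [EE_ge (φ := φ) hn, LinearMap.zero_apply]

theorem hli (c d : F) (h : c • (EE φ ^ (13 - 1)) (st (x 0) (x 0)) + d • (EE φ ^ (13 - 1)) (st (x 0) (x 4)) = 0) : c = 0 ∧ d = 0 := by
  have h3 : Fact (Nat.Prime 13) := ⟨by norm_num⟩
  have h4 := q.chF
  have h5 := q.chK
  rw [EE_top q.card, EE_top q.card, q.sum04] at h
  obtain ⟨e, he, h6⟩ := q.sum00
  rw [h6] at h
  have hd : d = 0 := by
    by_contra hd
    have h7 : st (x 8) (x 8) = (d⁻¹ * (c * e)) • x 8 := by
      have h8 : d • st (x 8) (x 8) = (c * e) • x 8 := by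
        rw [smul_smul, smul_neg, ← sub_eq_add_neg, sub_eq_zero] at h
        exact h.symm
      rw [← smul_smul, ← h8, smul_smul, inv_mul_cancel₀ hd, one_smul]
    apply q.z_ne
    refine q.two_wt (e := 2 * 8 + 4) (e' := 2 * (8 + 8) + 8) ?_ (q.wP 8 8) (by norm_num) (by norm_num)
    rw [h7]
    exact (q.wX 8).smul _
  rw [hd, zero_smul, add_zero, smul_smul] at h
  exact ⟨(mul_eq_zero.1 ((smul_eq_zero.1 h).resolve_right q.ne)).resolve_right he, hd⟩

/-- **pairs** -/
theorem pair {v v' : I27 → F} (hv : tr1 v = 0) {r s : ℕ} (hr : (EE φ ^ r) v = 0) (hs : (EE φ ^ s) v' = 0) (hrs : r + s ≤ 13) :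
    tf v v' = 0 := by
  obtain ⟨w, rfl⟩ := ker_range q.hstE ((mem_W0 _).2 (q.trP 0 0)) ((mem_W0 _).2 (q.trP 0 4)) (by rw [finrank_W0])
    (fun n hn => ⟨q.hge n hn _, q.hge n hn _⟩) q.hli (r := r) (by omega) ((mem_W0 _).2 hv) hr
  apply tf_pow_zero
  rw [show 13 - r = (13 - r - s) + s by omega, pow_add, Module.End.mul_apply, hs, map_zero]

end Qt

end Cfsg.Agent.R2.F4N
end

-- part: R2/F4N/Q13f
section
prune_inst 0x1002400010000000000059211001e028a00042000080000e86008060c80ec6089422861b43010021aa004056039004811000010421000000a000400011b018000810002b1990100000096800000400000000000000000000000000000010000000000000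
set_option linter.all false
open scoped Cfsg.Agent.FastGrp

/-!
# `Q = 13` : the torus (lead, S5931)
-/

set_option autoImplicit false
set_option linter.unusedSectionVars false

namespace Cfsg.Agent.R2.F4N

open Cfsg Cfsg.Lie Module Matrix Finset
open Cfsg.Agent.ChevalleyStructure.E6Min.Basic
open Cfsg.Agent.H952.F4 Cfsg.Agent.H952.F4.Jord
open Cfsg.Agent.H952.F4.FixV (W0 mem_W0 finrank_W0 u0_ne_zero tr1_eq)
open Cfsg.Agent.R2.F4M
open Cfsg.Agent.R2.GEO (tfB tfB_apply)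

universe u v w

variable {F : Type u} [Field F] [Fintype F] {K : Type v} [Field K] [Fintype K]
variable {φ : ProjectiveSpecialLinearGroup (Fin 2) K →* ↥(chevF4.group F)} {κ : K →+* F} {x : ℕ → I27 → F}

namespace Qt

variable (q : Qt κ φ x)

include q

theorem wPr {i j : ℕ} (hi : i ≤ 8) (hj : j ≤ 8) : ∃ c : F, c ≠ 0 ∧
    RF φ Cfsg.Agent.H943.SL2Rel.w (st (x i) (x j)) = c • st (x (8 - i)) (x (8 - j)) := by
  refine ⟨(-1) ^ i * (-1) ^ j, mul_ne_zero (pow_ne_zero _ (neg_ne_zero.2 one_ne_zero))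
        (pow_ne_zero _ (neg_ne_zero.2 one_ne_zero)), ?_⟩
  rw [← RF_st, q.str.w i hi, q.str.w j hj, st_smul_left, st_smul_right, smul_smul]

theorem wMr {i j l : ℕ} (hi : i ≤ 8) (hj : j ≤ 8) (hl : l ≤ 8) : ∃ c : F, c ≠ 0 ∧
    RF φ Cfsg.Agent.H943.SL2Rel.w (st (x i) (st (x j) (x l))) = c • st (x (8 - i)) (st (x (8 - j)) (x (8 - l))) := by
  obtain ⟨c, hc, h⟩ := q.wPr hj hl
  refine ⟨(-1) ^ i * c, mul_ne_zero (pow_ne_zero _ (neg_ne_zero.2 one_ne_zero)) hc, ?_⟩
  rw [← RF_st, h, q.str.w i hi, st_smul_left, st_smul_right, smul_smul]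

theorem tfP_up {i j i' j' : ℕ} (h : 21 ≤ i + j + (i' + j')) : tf (st (x i) (x j)) (st (x i') (x j')) = 0 := by
  rcases Nat.lt_or_ge 16 (i' + j') with h1 | h1
  · rw [q.P_big (i := i') (j := j') (by omega), tf_zr]
  · rcases Nat.lt_or_ge 16 (i + j) with h2 | h2
    · rw [q.P_big (i := i) (j := j) (by omega), tf_zl]
    · exact q.pair (q.trP i j) (q.dP i j) (q.dP i' j') (by omega)

/-- **products of `X` : the form is exact** -/
theorem tfP {i j i' j' : ℕ} (hi : i ≤ 8) (hj : j ≤ 8) (hi' : i' ≤ 8) (hj' : j' ≤ 8) (h : i + j + (i' + j') ≠ 16) :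
    tf (st (x i) (x j)) (st (x i') (x j')) = 0 := by
  by_cases hd : 12 ∣ (2 * (i + j) + 8) + (2 * (i' + j') + 8)
  · rcases Nat.lt_or_ge (i + j + (i' + j')) 21 with h1 | h1
    · obtain ⟨c, hc, e1⟩ := q.wPr hi hj
      obtain ⟨c', hc', e2⟩ := q.wPr hi' hj'
      have h2 := RF_tf (φ := φ) Cfsg.Agent.H943.SL2Rel.w (st (x i) (x j)) (st (x i') (x j'))
      rw [e1, e2, tf_smul_left, tf_smul_right, q.tfP_up (by omega), mul_zero, mul_zero] at h2
      exact h2.symm
    · exact q.tfP_up h1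
  · exact (q.wP i j).tf_zero (q.wP i' j') (by rw [q.card]; exact hd)

theorem tfM_up {i j l i' j' l' : ℕ} (h : 29 ≤ i + (j + l) + (i' + (j' + l'))) :
    tf (st (x i) (st (x j) (x l))) (st (x i') (st (x j') (x l'))) = 0 := by
  have hz : ∀ {i j l : ℕ}, 21 ≤ i + (j + l) → st (x i) (st (x j) (x l)) = 0 := by
    intro i j l h
    have h1 := SM.gen (x := x) i j l
    rwa [q.m21 _ h, Submodule.mem_bot] at h1
  rcases Nat.lt_or_ge (i + (j + l)) 21 with h1 | h1
  · rcases Nat.lt_or_ge (i' + (j' + l')) 21 with h2 | h2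
    · exact q.pair (q.trM i j l) (q.dM i j l) (q.dM i' j' l') (by omega)
    · rw [hz h2, tf_zr]
  · rw [hz h1, tf_zl]

theorem tfM {i j l i' j' l' : ℕ} (hi : i ≤ 8) (hj : j ≤ 8) (hl : l ≤ 8) (hi' : i' ≤ 8) (hj' : j' ≤ 8) (hl' : l' ≤ 8)
    (h : i + (j + l) + (i' + (j' + l')) ≠ 24) : tf (st (x i) (st (x j) (x l))) (st (x i') (st (x j') (x l'))) = 0 := by
  by_cases hd : 12 ∣ (2 * (i + (j + l)) + 12) + (2 * (i' + (j' + l')) + 12)
  · rcases Nat.lt_or_ge (i + (j + l) + (i' + (j' + l'))) 29 with h1 | h1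
    · obtain ⟨c, hc, e1⟩ := q.wMr hi hj hl
      obtain ⟨c', hc', e2⟩ := q.wMr hi' hj' hl'
      have h2 := RF_tf (φ := φ) Cfsg.Agent.H943.SL2Rel.w (st (x i) (st (x j) (x l))) (st (x i') (st (x j') (x l')))
      rw [e1, e2, tf_smul_left, tf_smul_right, q.tfM_up (by omega), mul_zero, mul_zero] at h2
      exact h2.symm
    · exact q.tfM_up h1
  · exact (q.wM i j l).tf_zero (q.wM i' j' l') (by rw [q.card]; exact hd)

theorem tf_move {y z u : I27 → F} (_hy : tr1 y = 0) (hz : tr1 z = 0) (hu : tr1 u = 0) : tf (st y z) u = tf z (st y u) := by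
  rw [st_comm, tf_st_assoc y hz hu]

/-- **the trilinear form is exact** -/
theorem NNP {i j k l m n : ℕ} (hi : i ≤ 8) (hj : j ≤ 8) (hk : k ≤ 8) (hl : l ≤ 8) (hm : m ≤ 8) (hn : n ≤ 8)
    (h : i + j + (k + l) + (m + n) ≠ 24) : NN F (st (x i) (x j)) (st (x k) (x l)) (st (x m) (x n)) = 0 := by
  rw [NN_apply, ← tf_st _ _ (q.trP m n)]
  have h1 := congrArg (fun v => tf v (st (x m) (x n))) (st_pol q.h2 q.h3 (q.tr i) (q.tr j) (q.trP k l))
  simp only [tf_add_left, tf_smul_left] at h1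
  have e1 : tf (st (x i) (st (x j) (st (x k) (x l)))) (st (x m) (x n)) = 0 := by
    rw [q.tf_move (q.tr i) (tr1_st q.h3 (q.tr j) _) (q.trP m n)]
    exact q.tfM hj hk hl hi hm hn (by omega)
  have e2 : tf (st (x j) (st (x i) (st (x k) (x l)))) (st (x m) (x n)) = 0 := by
    rw [q.tf_move (q.tr j) (tr1_st q.h3 (q.tr i) _) (q.trP m n)]
    exact q.tfM hi hk hl hj hm hn (by omega)
  rw [e1, e2, q.iso, st_comm (st (x k) (x l)) (st (x i) (x j))] at h1
  have e3 : tf (x i) (st (x k) (x l)) * tf (x j) (st (x m) (x n)) = 0 := by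
    by_cases h2 : k + l + i = 12
    · rw [tf_comm (x j), q.tfX (l := j) (by omega), mul_zero]
    · rw [tf_comm (x i), q.tfX h2, zero_mul]
  have e4 : tf (x j) (st (x k) (x l)) * tf (x i) (st (x m) (x n)) = 0 := by
    by_cases h2 : k + l + j = 12
    · rw [tf_comm (x i), q.tfX (l := i) (by omega), mul_zero]
    · rw [tf_comm (x j), q.tfX h2, zero_mul]
  linear_combination h1 + 2 / 3 * e3 + 2 / 3 * e4

/-- the set of generators -/
def gset (x : ℕ → I27 → F) : Set (I27 → F) := {v | v = u0 F ∨ ∃ i j, i ≤ 8 ∧ j ≤ 8 ∧ v = st (x i) (x j)}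

theorem span_gset : ⊤ ≤ Submodule.span F (gset x) := by
  intro v _
  have h3 := q.h3
  have h0 : tr1 (v - (tr1 v / 3) • u0 F) = 0 := by
    rw [sub_eq_add_neg, tr1_add, ← neg_smul, tr1_smul, tr1_u0]
    field_simp
    ring
  have hst : ∀ y ∈ Submodule.span F (gset x), EE φ y ∈ Submodule.span F (gset x) := by
    have hSP : ∀ n, SP x n ≤ Submodule.span F (gset x) := by
      intro n
      unfold SP
      rw [Submodule.span_le]
      rintro _ ⟨i, j, rfl, rfl⟩
      by_cases hi : i ≤ 8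
      · by_cases hj : j ≤ 8
        · exact Submodule.subset_span (Or.inr ⟨i, j, hi, hj, rfl⟩)
        · rw [q.big j (by omega), st_zero_right]
          exact Submodule.zero_mem _
      · rw [q.big i (by omega), st_zero_left]
        exact Submodule.zero_mem _
    intro y hy
    induction hy using Submodule.span_induction with
    | mem y hy =>
      rcases hy with rfl | ⟨i, j, hi, hj, rfl⟩
      · have h1 : EE φ (u0 F) = 0 := by
          unfold EE
          rw [LinearMap.sub_apply, Module.End.one_apply, RF_apply, Jr_u0, sub_self]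
        rw [h1]
        exact Submodule.zero_mem _
      · unfold EE
        rw [LinearMap.sub_apply, Module.End.one_apply]
        obtain ⟨c, hc1, hc2, hc3⟩ := q.UP _ _ (SP.gen i j)
        rw [hc3]
        refine Submodule.sub_mem _ (Submodule.sum_mem _ fun r _ => Submodule.smul_mem _ _ (hSP _ (hc2 r))) ?_
        exact Submodule.subset_span (Or.inr ⟨i, j, hi, hj, rfl⟩)
    | zero =>
      rw [map_zero]
      exact Submodule.zero_mem _
    | add a b _ _ ha hb =>
      rw [map_add]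
      exact Submodule.add_mem _ ha hb
    | smul c a _ ha =>
      rw [map_smul]
      exact Submodule.smul_mem _ _ ha
  have hstn : ∀ n, ∀ y ∈ Submodule.span F (gset x), (EE φ ^ n) y ∈ Submodule.span F (gset x) := by
    intro n
    induction n with
    | zero => intro y hy; exact hy
    | succ n ih =>
      intro y hy
      rw [pow_succ', Module.End.mul_apply]
      exact hst _ (ih y hy)
  obtain ⟨α, β, h1⟩ := two_blocks q.hstE ((mem_W0 _).2 (q.trP 0 0)) ((mem_W0 _).2 (q.trP 0 4)) (by rw [finrank_W0])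
    (fun n hn => ⟨q.hge n hn _, q.hge n hn _⟩) q.hli ((mem_W0 _).2 h0)
  have h2 : v = (v - (tr1 v / 3) • u0 F) + (tr1 v / 3) • u0 F := by rw [sub_add_cancel]
  rw [h2, h1]
  refine Submodule.add_mem _ (Submodule.sum_mem _ fun r _ => Submodule.add_mem _ ?_ ?_) ?_
  · exact Submodule.smul_mem _ _ (hstn _ _ (Submodule.subset_span (Or.inr ⟨0, 0, by norm_num, by norm_num, rfl⟩)))
  · exact Submodule.smul_mem _ _ (hstn _ _ (Submodule.subset_span (Or.inr ⟨0, 4, by norm_num, by norm_num, rfl⟩)))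
  · exact Submodule.smul_mem _ _ (Submodule.subset_span (Or.inl rfl))

/-- **the torus** -/
theorem torus (c : Fˣ) : ∃ z : ↥(chevF4.group F), ∀ s ≤ 8, Jr F z (x s) = ((c ^ (-4 + (s : ℤ)) : Fˣ) : F) • x s := by
  classical
  let B := Module.Basis.ofSpan q.span_gset
  have hB : ∀ i, B i ∈ gset x := fun i => Module.Basis.ofSpan_subset q.span_gset ⟨i, rfl⟩
  have hfin : Fintype _ := FiniteDimensional.fintypeBasisIndex B
  have tru : tr1 (u0 F) ≠ 0 := by
    rw [tr1_u0]
    exact q.h3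
  have hm : ∀ i, ∃ m : ℤ, (B i = u0 F ∧ m = 0) ∨ ∃ a b : ℕ, a ≤ 8 ∧ b ≤ 8 ∧ B i = st (x a) (x b) ∧ m = (a : ℤ) + b - 8 := by
    intro i
    rcases hB i with h | ⟨a, b, ha, hb, h⟩
    · exact ⟨0, Or.inl ⟨h, rfl⟩⟩
    · exact ⟨_, Or.inr ⟨a, b, ha, hb, h, rfl⟩⟩
  choose m hm using hm
  obtain ⟨z, hz⟩ := exists_lam q.h2 B m (by
    intro i j l h
    rcases hm i with ⟨e1, e1'⟩ | ⟨a1, b1, ha1, hb1, e1, e1'⟩ <;> rcases hm j with ⟨e2, e2'⟩ | ⟨a2, b2, ha2, hb2, e2, e2'⟩ <;>
      rcases hm l with ⟨e3, e3'⟩ | ⟨a3, b3, ha3, hb3, e3, e3'⟩ <;> rw [e1, e2, e3] at h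
    · omega
    · rw [NN_u0_u0, q.trP, mul_zero] at h
      exact absurd rfl h
    · rw [NN_comm, NN_rot, NN_u0_u0, q.trP, mul_zero] at h
      exact absurd rfl h
    · rw [NN_u0, q.trP, zero_mul, zero_sub] at h
      by_contra hne
      exact neg_ne_zero.1 h (q.tfP ha2 hb2 ha3 hb3 (by omega))
    · rw [NN_rot, NN_u0_u0, q.trP, mul_zero] at h
      exact absurd rfl h
    · rw [NN_comm, NN_u0, q.trP, zero_mul, zero_sub] at h
      by_contra hne
      exact neg_ne_zero.1 h (q.tfP ha1 hb1 ha3 hb3 (by omega))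
    · rw [NN_rot, NN_rot, NN_u0, q.trP, zero_mul, zero_sub] at h
      by_contra hne
      exact neg_ne_zero.1 h (q.tfP ha1 hb1 ha2 hb2 (by omega))
    · by_contra hne
      exact h (q.NNP ha1 hb1 ha2 hb2 ha3 hb3 (by omega))) (by
    intro i hi
    have h1 : ∃ i0, B i0 = u0 F := by
      by_contra hcon
      rw [not_exists] at hcon
      apply tru
      rw [← mem_W0, ← B.sum_repr (u0 F)]
      refine Submodule.sum_mem _ fun j _ => Submodule.smul_mem _ _ ?_
      rcases hm j with ⟨e1, e1'⟩ | ⟨a1, b1, ha1, hb1, e1, e1'⟩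
      · exact absurd e1 (hcon j)
      · rw [e1, mem_W0]
        exact q.trP _ _
    obtain ⟨i0, hi0⟩ := h1
    rw [← hi0, B.repr_self, Finsupp.single_apply] at hi
    have h2 : i0 = i := by
      by_contra hne
      exact hi (if_neg hne)
    subst h2
    rcases hm i0 with ⟨e1, e1'⟩ | ⟨a1, b1, ha1, hb1, e1, e1'⟩
    · exact e1'
    · exfalso
      apply tru
      rw [← hi0, e1]
      exact q.trP _ _) c
  refine ⟨z, fun s hs => ?_⟩
  rw [← sub_eq_zero]
  refine tf_nondeg fun y => ?_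
  have h1 : (tfB F (Jr F z (x s) - ((c ^ (-4 + (s : ℤ)) : Fˣ) : F) • x s)).comp (Jr F z) = 0 := by
    refine B.ext fun i => ?_
    rw [LinearMap.comp_apply, tfB_apply, LinearMap.zero_apply, tf_sub_left, Jr_tf, hz, tf_smul_left, tf_smul_right]
    rcases hm i with ⟨e1, e1'⟩ | ⟨a1, b1, ha1, hb1, e1, e1'⟩
    · rw [e1, tf_u0_right, q.tr]
      ring
    · rw [e1, e1', tf_comm (x s)]
      by_cases h2 : a1 + b1 + s = 12
      · rw [← mul_assoc, ← Units.val_mul, ← _root_.zpow_add, show -4 + (s : ℤ) + ((a1 : ℤ) + b1 - 8) = 0 by omega, zpow_zero,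
          Units.val_one, one_mul, sub_self]
      · rw [q.tfX h2]
        ring
  have h2 := LinearMap.congr_fun h1 (Jr F z⁻¹ y)
  rw [LinearMap.comp_apply, Jr_apply_inv, tfB_apply, LinearMap.zero_apply] at h2
  exact h2

end Qt

end Cfsg.Agent.R2.F4N
end

-- part: R2/H27/F4Th/Wt
section
prune_inst 0x440110002000000008001003a06460005b0000b000048a00c4608c02e4089420e40bc8006121a2a00856831000000100010401000000a000400411a018000a900022091080000009e000880400000000000000000000000000000010004000000000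
set_option linter.all false
open scoped Cfsg.Agent.FastGrp

/-!
# S5931, theta types: the weights of a torus element (helper27)

* `finrank_eig_cf` : the dimension of an eigenspace of `h lam` from the composition factors;
* `mf_single_le`, `mf_single_zero`, `mf_pair_le` : the multiplicities of the weights;
* `eig_wt` : eigenvectors have weights; `sp_wt` : they span.
-/

set_option autoImplicit false
set_option linter.unusedSectionVars false

namespace Cfsg.Agent.R2.H27.F4Th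

open Matrix Cfsg.Agent.H943.SL2Rel Cfsg.Agent.H943.SL2Mod Cfsg.Agent.H943.RepAdd Cfsg.Agent.R2.H28.SL2
open Cfsg.Agent.R2.F4N (mem_Bf_pair)

universe u v w

theorem sum_count (s : Multiset ℕ) {q : ℕ} (h : ∀ b ∈ s, b < q) (f : ℕ → ℕ) :
    (s.map f).sum = ∑ b ∈ Finset.range q, s.count b * f b := by
  rw [Finset.sum_multiset_map_count, Finset.sum_subset (s₂ := Finset.range q)]
  · exact Finset.sum_congr rfl fun b _ => by rw [smul_eq_mul]
  · intro b hb
    exact Finset.mem_range.2 (h b (Multiset.mem_toFinset.1 hb))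
  · intro b _ hb
    rw [Multiset.mem_toFinset, ← Multiset.count_eq_zero] at hb
    rw [hb, zero_smul]

theorem zpow_inj {k : Type u} [Field k] {α : k} {N : ℕ} (hα : IsPrimitiveRoot α N) (hα0 : α ≠ 0) {x y : ℤ}
    (h : α ^ x = α ^ y) (h1 : x - y < N) (h2 : y - x < N) : x = y := by
  have h3 : α ^ (x - y) = 1 := by
    rw [zpow_sub₀ hα0, h, div_self (zpow_ne_zero _ hα0)]
  have h4 := (hα.zpow_eq_one_iff_dvd _).1 h3
  have h5 := Int.eq_zero_of_abs_lt_dvd h4 (by rw [abs_lt]; constructor <;> omega)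
  omega

section lab

variable {k : Type u} [Field k] [DecidableEq k] (p : ℕ) [Fact p.Prime] [CharP k p]

theorem wt_single {x : k} (hx : x ≠ 0) (r : ℕ) {n s : ℕ} (hs : s ≤ n) :
    x ^ (s * p ^ r) * x⁻¹ ^ (n * p ^ r - s * p ^ r) = (x ^ p ^ r) ^ (2 * (s : ℤ) - n) := by
  rw [← R2.F4L.pow_wt (pow_ne_zero _ hx) hs, ← Nat.sub_mul, mul_comm s, mul_comm (n - s), pow_mul, pow_mul, inv_pow]

theorem wt_pair {x : k} (hx : x ≠ 0) (r r' : ℕ) {n s n' s' : ℕ} (hs : s ≤ n) (hs' : s' ≤ n') :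
    x ^ (s * p ^ r + s' * p ^ r') * x⁻¹ ^ (n * p ^ r + n' * p ^ r' - (s * p ^ r + s' * p ^ r')) =
      (x ^ p ^ r) ^ (2 * (s : ℤ) - n) * (x ^ p ^ r') ^ (2 * (s' : ℤ) - n') := by
  rw [← wt_single p hx r hs, ← wt_single p hx r' hs']
  have h1 : s * p ^ r ≤ n * p ^ r := Nat.mul_le_mul_right _ hs
  have h2 : s' * p ^ r' ≤ n' * p ^ r' := Nat.mul_le_mul_right _ hs'
  have h3 : n * p ^ r + n' * p ^ r' - (s * p ^ r + s' * p ^ r') = (n * p ^ r - s * p ^ r) + (n' * p ^ r' - s' * p ^ r') := by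
    omega
  rw [h3, pow_add, pow_add]
  ring

end lab

variable {k : Type u} [Field k] [DecidableEq k] {K : Type w} [Field K] [Fintype K] [DecidableEq K] (ι : K →+* k)
variable (p : ℕ) [Fact p.Prime] [CharP k p] [CharP K p] {a : ℕ}

theorem frob_wrap (hK : Fintype.card K = p ^ a) (lam : Kˣ) {r : ℕ} (hr : r < a) :
    (ι lam) ^ p ^ ((r + 1) % a) = ((ι lam) ^ p ^ r) ^ p := by
  rw [← pow_mul, ← pow_succ]
  rcases lt_or_ge (r + 1) a with h | h
  · rw [Nat.mod_eq_of_lt h]
  · obtain rfl : a = r + 1 := by omega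
    rw [Nat.mod_self, pow_zero, pow_one, ← hK, ← map_pow, FiniteField.pow_card]

variable {ι p} {lam : Kˣ} {r : ℕ} (hprim : IsPrimitiveRoot ((ι lam) ^ p ^ r) (Fintype.card K - 1))

theorem lam_ne : ι lam ≠ 0 := (map_ne_zero ι).2 lam.ne_zero

include hprim

theorem mf_single_le {n : ℕ} (hn : n < p) (hN : 2 * n < Fintype.card K - 1) (w : ℤ) :
    mf (n * p ^ r) (ι lam) (((ι lam) ^ p ^ r) ^ w) ≤ 1 := by
  unfold mf
  rw [Finset.card_le_one]
  intro m hm m' hm'
  rw [Finset.mem_filter] at hm hm'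
  obtain ⟨s, hs, rfl⟩ := (mem_Bf_single p hn r).1 hm.1
  obtain ⟨s', hs', rfl⟩ := (mem_Bf_single p hn r).1 hm'.1
  have h1 := hm.2.trans hm'.2.symm
  rw [wt_single p lam_ne r hs, wt_single p lam_ne r hs'] at h1
  have h2 := zpow_inj hprim (pow_ne_zero _ lam_ne) h1 (by omega) (by omega)
  have h3 : s = s' := by omega
  rw [h3]

theorem mf_single_zero {n : ℕ} (hn : n < p) {w : ℤ} (hw : ∀ s : ℕ, s ≤ n → 2 * (s : ℤ) - n ≠ w)
    (h1 : w + n < (Fintype.card K - 1 : ℕ)) (h2 : n - w < (Fintype.card K - 1 : ℕ)) :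
    mf (n * p ^ r) (ι lam) (((ι lam) ^ p ^ r) ^ w) = 0 := by
  unfold mf
  rw [Finset.card_eq_zero, Finset.filter_eq_empty_iff]
  intro m hm h
  obtain ⟨s, hs, rfl⟩ := (mem_Bf_single p hn r).1 hm
  rw [wt_single p lam_ne r hs] at h
  exact hw s hs (zpow_inj hprim (pow_ne_zero _ lam_ne) h (by omega) (by omega))

omit hprim in
theorem mf_single_ne {n : ℕ} (hn : n < p) {ν : k} (h : mf (n * p ^ r) (ι lam) ν ≠ 0) :
    ∃ s : ℕ, s ≤ n ∧ ((ι lam) ^ p ^ r) ^ (2 * (s : ℤ) - n) = ν := by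
  unfold mf at h
  obtain ⟨m, hm⟩ := Finset.card_ne_zero.1 h
  rw [Finset.mem_filter] at hm
  obtain ⟨s, hs, rfl⟩ := (mem_Bf_single p hn r).1 hm.1
  exact ⟨s, hs, by rw [← wt_single p lam_ne r hs, hm.2]⟩

omit hprim in
theorem mf_pair_ne (hK : Fintype.card K = p ^ a) (hp7 : p = 7) (ha : 2 ≤ a) (hr : r < a) {ν : k}
    (h : mf (p ^ r + p ^ ((r + 1) % a)) (ι lam) ν ≠ 0) :
    ∃ w : ℤ, (w = -8 ∨ w = -6 ∨ w = 6 ∨ w = 8) ∧ ((ι lam) ^ p ^ r) ^ w = ν := by
  have hs := succ_mod_ne (a := a) (i := r) (by omega) hr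
  have e1 : p ^ r + p ^ ((r + 1) % a) = 1 * p ^ r + 1 * p ^ ((r + 1) % a) := by rw [one_mul, one_mul]
  rw [e1] at h
  unfold mf at h
  obtain ⟨m, hm⟩ := Finset.card_ne_zero.1 h
  rw [Finset.mem_filter] at hm
  obtain ⟨s, hs1, s', hs1', rfl⟩ := mem_Bf_pair p (by omega) (by omega) hs hm.1
  have hα0 : (ι lam) ^ p ^ r ≠ 0 := pow_ne_zero _ lam_ne
  have h1 := hm.2
  rw [wt_pair p lam_ne r _ hs1 hs1', frob_wrap ι p hK lam hr, ← zpow_natCast _ p, ← _root_.zpow_mul,
    ← zpow_add₀ hα0] at h1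
  refine ⟨_, ?_, h1⟩
  rw [hp7]
  push_cast
  omega

theorem mf_pair_le (hK : Fintype.card K = p ^ a) (hp7 : p = 7) (ha : 2 ≤ a) (hr : r < a) (w : ℤ) :
    mf (p ^ r + p ^ ((r + 1) % a)) (ι lam) (((ι lam) ^ p ^ r) ^ w) ≤ 1 := by
  have hN : 48 ≤ Fintype.card K - 1 := by
    rw [hK, hp7]
    have : 7 ^ 2 ≤ 7 ^ a := Nat.pow_le_pow_right (by norm_num) ha
    omega
  have hs := succ_mod_ne (a := a) (i := r) (by omega) hr
  have e1 : p ^ r + p ^ ((r + 1) % a) = 1 * p ^ r + 1 * p ^ ((r + 1) % a) := by rw [one_mul, one_mul]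
  rw [e1]
  unfold mf
  rw [Finset.card_le_one]
  intro m hm m' hm'
  rw [Finset.mem_filter] at hm hm'
  obtain ⟨s, hs1, s', hs1', rfl⟩ := mem_Bf_pair p (by omega) (by omega) hs hm.1
  obtain ⟨t, ht1, t', ht1', rfl⟩ := mem_Bf_pair p (by omega) (by omega) hs hm'.1
  have h1 := hm.2.trans hm'.2.symm
  have hα0 : (ι lam) ^ p ^ r ≠ 0 := pow_ne_zero _ lam_ne
  rw [wt_pair p lam_ne r _ hs1 hs1', wt_pair p lam_ne r _ ht1 ht1', frob_wrap ι p hK lam hr, ← zpow_natCast _ p,
    ← _root_.zpow_mul, ← _root_.zpow_mul, ← zpow_add₀ hα0, ← zpow_add₀ hα0] at h1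
  have h2 := zpow_inj hprim hα0 h1 (by rw [hp7]; push_cast; omega) (by rw [hp7]; push_cast; omega)
  rw [hp7] at h2
  push_cast at h2
  have h3 : s = t := by omega
  have h4 : s' = t' := by omega
  rw [h3, h4]

section eig

variable [IsAlgClosed k] {M : Type v} [AddCommGroup M] [Module k M] [FiniteDimensional k M]
  {σ : Representation k (SpecialLinearGroup (Fin 2) K) M}

/-- the eigenspaces from the composition factors -/
theorem finrank_eig_cf (hK : Fintype.card K = p ^ a) (w : ℤ) :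
    Module.finrank k (eig σ (Cfsg.Agent.H943.SL2Rel.h lam) (((ι lam) ^ p ^ r) ^ w)) =
      ((cf (Sy.{u, v, w} ι p) σ).map fun c => mf c (ι lam) (((ι lam) ^ p ^ r) ^ w)).sum := by
  have hN1 : (ι lam) ^ (Fintype.card K - 1) = 1 := by
    rw [← map_pow, FiniteField.pow_card_sub_one_eq_one _ lam.ne_zero, map_one]
  have hν : ((((ι lam) ^ p ^ r) ^ w) ^ (Fintype.card K - 1) : k) = 1 := by
    rw [← zpow_natCast, ← _root_.zpow_mul, mul_comm, _root_.zpow_mul, zpow_natCast, hprim.pow_eq_one, _root_.one_zpow]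
  rw [sum_count _ (cf_lt ι p hK σ)]
  exact (isMult_cf ι p hK σ).eigen _ (ι lam) (Fintype.card K - 1) (Cfsg.Agent.H179.SLC.isSS_h ι lam) hN1
    (by rw [cast_Q p]; exact neg_ne_zero.2 one_ne_zero) _ hν

/-- eigenvectors have weights -/
theorem exists_mf (hK : Fintype.card K = p ^ a) {x : M} (hx : x ≠ 0) {w : ℤ}
    (h : σ (Cfsg.Agent.H943.SL2Rel.h lam) x = (((ι lam) ^ p ^ r) ^ w) • x) :
    ∃ c ∈ cf (Sy.{u, v, w} ι p) σ, mf c (ι lam) (((ι lam) ^ p ^ r) ^ w) ≠ 0 := by
  by_contra hcon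
  push Not at hcon
  have h1 := finrank_eig_cf (σ := σ) hprim hK w
  have h2 : ((cf (Sy.{u, v, w} ι p) σ).map fun c => mf c (ι lam) (((ι lam) ^ p ^ r) ^ w)).sum = 0 := by
    rw [Multiset.sum_eq_zero_iff]
    intro n hn
    obtain ⟨c, hc, rfl⟩ := Multiset.mem_map.1 hn
    exact hcon c hc
  rw [h2] at h1
  have h3 := Submodule.finrank_eq_zero.1 h1
  have h4 : x ∈ eig σ (Cfsg.Agent.H943.SL2Rel.h lam) (((ι lam) ^ p ^ r) ^ w) := (mem_eig σ).2 h
  rw [h3, Submodule.mem_bot] at h4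
  exact hx h4

/-- one-dimensional eigenspaces -/
theorem eig_one (hK : Fintype.card K = p ^ a) {w : ℤ}
    (h1 : ((cf (Sy.{u, v, w} ι p) σ).map fun c => mf c (ι lam) (((ι lam) ^ p ^ r) ^ w)).sum ≤ 1) {x y : M} (hx : x ≠ 0)
    (hxe : σ (Cfsg.Agent.H943.SL2Rel.h lam) x = (((ι lam) ^ p ^ r) ^ w) • x)
    (hye : σ (Cfsg.Agent.H943.SL2Rel.h lam) y = (((ι lam) ^ p ^ r) ^ w) • y) : ∃ c : k, y = c • x := by
  rw [← finrank_eig_cf hprim hK w] at h1
  have h4 : x ∈ eig σ (Cfsg.Agent.H943.SL2Rel.h lam) (((ι lam) ^ p ^ r) ^ w) := (mem_eig σ).2 hxe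
  have h5 : y ∈ eig σ (Cfsg.Agent.H943.SL2Rel.h lam) (((ι lam) ^ p ^ r) ^ w) := (mem_eig σ).2 hye
  have h6 := finrank_le_one_iff.1 h1
  obtain ⟨v, hv⟩ := h6
  obtain ⟨c, hc⟩ := hv ⟨x, h4⟩
  obtain ⟨d, hd⟩ := hv ⟨y, h5⟩
  have hc' : c • (v : M) = x := congrArg Subtype.val hc
  have hd' : d • (v : M) = y := congrArg Subtype.val hd
  have hc0 : c ≠ 0 := by
    rintro rfl
    rw [zero_smul] at hc'
    exact hx hc'.symm
  exact ⟨d * c⁻¹, by rw [← hd', ← hc', smul_smul, mul_assoc, inv_mul_cancel₀ hc0, mul_one]⟩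

/-- the weight vectors span -/
theorem sp_wt (S : ℤ → Prop) (hS : ∀ j : ℕ, ∀ x : M, x ≠ 0 →
    σ (Cfsg.Agent.H943.SL2Rel.h lam) x = (((ι lam) ^ p ^ r) ^ (j : ℤ)) • x → ∃ w, S w ∧
      ((ι lam) ^ p ^ r) ^ (j : ℤ) = ((ι lam) ^ p ^ r) ^ w) (x : M) :
    x ∈ Submodule.span k {v : M | ∃ w, S w ∧ σ (Cfsg.Agent.H943.SL2Rel.h lam) v = ((ι lam) ^ p ^ r) ^ w • v} := by
  have hg : σ (Cfsg.Agent.H943.SL2Rel.h lam) ^ (Fintype.card K - 1) = 1 := by
    have hg1 : lam ^ (Fintype.card K - 1) = 1 := Units.ext (by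
      rw [Units.val_pow_eq_pow_val, FiniteField.pow_card_sub_one_eq_one _ lam.ne_zero, Units.val_one])
    rw [← map_pow, ← Cfsg.Agent.H943.SL2Rel.h_pow, hg1, Cfsg.Agent.H943.SL2Rel.h_one, map_one]
  have h1 := span_eig (ρ := σ) hprim (by rw [cast_Q p]; exact neg_ne_zero.2 one_ne_zero) hg
  have h2 : x ∈ (⊤ : Submodule k M) := trivial
  rw [← h1] at h2
  refine Submodule.span_induction (p := fun x _ => x ∈ Submodule.span k
    {v : M | ∃ w, S w ∧ σ (Cfsg.Agent.H943.SL2Rel.h lam) v = ((ι lam) ^ p ^ r) ^ w • v}) ?_ ?_ ?_ ?_ h2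
  · rintro v ⟨j, hj⟩
    by_cases hv : v = 0
    · rw [hv]
      exact Submodule.zero_mem _
    · rw [← zpow_natCast] at hj
      obtain ⟨w, hw, e⟩ := hS j v hv hj
      rw [e] at hj
      exact Submodule.subset_span ⟨w, hw, hj⟩
  · exact Submodule.zero_mem _
  · intro x y _ _ hx hy
    exact Submodule.add_mem _ hx hy
  · intro c x _ hx
    exact Submodule.smul_mem _ _ hx

end eig

end Cfsg.Agent.R2.H27.F4Th
end
end

-- part: R2/F4P/Th/Sk
section
prune_inst 0x10000000000000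
set_option linter.all false
open scoped Cfsg.Agent.FastGrp

-- part: R2/F4P/Th/SkE
section
/-!
# S5931, `p = 3`, the skeleton : dimension 4 (helper17)

* `Cx3.nd_four` : the irreducible submodules of dimension 4 of `J_0 / k` are nondegenerate.
-/

set_option autoImplicit false
set_option linter.unusedSectionVars false
set_option linter.unusedVariables false

namespace Cfsg.Agent.R2.F4P.Th

open Cfsg.Lie
open Cfsg.Agent.ChevalleyStructure.E6Min.Tables Cfsg.Agent.ChevalleyStructure.E6Min.Basic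
open Cfsg.Agent.H952.F4 (sh cr tf tr1 u0)
open Cfsg.Agent.H952.F4.Jord
open Cfsg.Agent.H952.F4.FixV (trL trL_apply W0 mem_W0 finrank_W0 exists_tr1_one)
open Cfsg.Agent.H943.SL2Rel Cfsg.Agent.H943.SL2Mod Cfsg.Agent.R2.H28.SL2 Cfsg.Agent.H943.RepAdd
open Cfsg.Agent.R2.F4L
open Cfsg.Agent.R2.GEO (tfB tfB_apply crB crB_apply)

universe u v w

variable {k : Type u} [Field k] [DecidableEq k] {K : Type w} [Field K] [Fintype K] [DecidableEq K] {ι : K →+* k}
variable {a : ℕ} [CharP k 3] [CharP K 3] [IsAlgClosed k]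
variable {ρ : Representation k (Matrix.SpecialLinearGroup (Fin 2) K) (I27 → k)}

omit [DecidableEq k] [IsAlgClosed k] in
theorem three_zero (k : Type u) [Field k] [CharP k 3] : (3 : k) = 0 := by
  have := CharP.cast_eq_zero k 3
  exact_mod_cast this

/-- the trilinear form modulo the scalars -/
theorem tf3_mod {x y z x' y' z' : I27 → k} {c d e : k} (hx : x = x' + c • u0 k) (hy : y = y' + d • u0 k)
    (hz : z = z' + e • u0 k) (tx : tr1 x' = 0) (ty : tr1 y' = 0) (tz : tr1 z' = 0) (xy : tf x' y' = 0) (xz : tf x' z' = 0)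
    (yz : tf y' z' = 0) : tf (cr x y) z = tf (cr x' y') z' := by
  have h3 := three_zero k
  have hu : tr1 (u0 k) = 0 := by rw [tr1_u0, h3]
  have huu : tf (u0 k) (u0 k) = 0 := by rw [tf_u0, hu]
  subst hx hy hz
  have e1 : cr x' (u0 k) = -x' := by rw [cr_comm, cr_u0, tx, zero_smul, zero_sub]
  have e2 : cr (u0 k) y' = -y' := by rw [cr_u0, ty, zero_smul, zero_sub]
  have e3 : cr (u0 k) (u0 k) = -u0 k := by rw [cr_u0, hu, zero_smul, zero_sub]
  have n1 : ∀ x y : I27 → k, tf (-x) y = -tf x y := fun x y => by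
    rw [← neg_one_smul k, tf_smul_left, neg_one_mul]
  rw [cr_add_left, cr_add_right, cr_add_right, cr_smul_left, cr_smul_right, cr_smul_left, cr_smul_right, e1, e2, e3]
  simp only [tf_add_left, tf_add_right, tf_smul_left, tf_smul_right, n1, xz, yz, huu]
  have e4 : tf x' (u0 k) = 0 := by rw [tf_comm, tf_u0, tx]
  have e5 : tf y' (u0 k) = 0 := by rw [tf_comm, tf_u0, ty]
  have e6 : tf (u0 k) z' = 0 := by rw [tf_u0, tz]
  have e7 : tf (cr x' y') (u0 k) = 0 := by
    rw [tf_comm, tf_u0, tr1_cr, tx, xy]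
    ring
  rw [e4, e5, e6, e7]
  ring

/-- **the irreducible submodules of dimension 4 are nondegenerate** -/
theorem Cx3.nd_four (C : Cx3 K a ρ)
    (no4 : ∀ i j, i < a → j < a → i ≠ j → ∀ x, TP ι 3 ρ 1 i 1 j x → x = 0)
    {X : Submodule k (Vk k)} {hX : ∀ g, ∀ x ∈ X, sV C.act g x ∈ X} {b : ℕ}
    (h : IsV ι 3 ((subRep ((sV C.act :)) X hX :)) b) (h4 : (Bf k b).card = 4) : Nd (PV k) X := by
  rcases nd_or (dulV C.act) h with hn | hn
  · exact hn
  exfalso
  obtain ⟨i, j, hij, hb⟩ := (card3 k b).2.2.2.1 h4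
  have hlt := (C.lt h :)
  have hj : j < a := C.digit (c := 1) le_rfl (by rw [one_mul, hb]; exact Nat.le_add_left _ _) hlt
  have hi : i < a := by omega
  have A2 : Adm 3 a 2 i 2 j := ⟨by norm_num, by norm_num, by omega, hi, hj⟩
  have A1 : Adm 3 a 1 i 1 j := ⟨by norm_num, by norm_num, by omega, hi, hj⟩
  have h' : IsV ι 3 ((subRep ((sV C.act :)) X hX :)) (1 * 3 ^ i + 1 * 3 ^ j) := by
    rw [one_mul, one_mul, ← hb]
    exact h
  obtain ⟨v, hv⟩ := IsV.basP ι 3 C.card A1.n A1.m A1.ij A1.i A1.j h'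
  -- the section
  obtain ⟨s, hs⟩ := (Lk k).mkQ.exists_rightInverse_of_surjective (LinearMap.range_eq_top.2 (Lk k).mkQ_surjective)
  have hs' : ∀ y, (Lk k).mkQ (s y) = y := fun y => LinearMap.congr_fun hs y
  let q : X →ₗ[k] (I27 → k) := (W0 k).subtype ∘ₗ s ∘ₗ X.subtype
  have hq : ∀ x : X, q x = (s (x : Vk k) : I27 → k) := fun _ => rfl
  have hqt : ∀ x, tr1 (q x) = 0 := fun x => (mem_W0 _).1 (s (x : Vk k)).2
  have hqq : ∀ x y, tf (q x) (q y) = 0 := by
    intro x y
    rw [hq, hq, ← PV_mk, hs', hs']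
    exact hn y.2 x x.2
  have hqg : ∀ g x, ∃ c : k, q ((subRep ((sV C.act :)) X hX g x :)) = ρ g (q x) + c • u0 k := by
    intro g x
    have e1 : (Lk k).mkQ (s (sV C.act g (x : Vk k))) = (Lk k).mkQ (s0 C.act g (s (x : Vk k))) := by
      rw [hs', ← quotRep_mk (s0 C.act) (Lk k) (Lk_inv C.act), hs']
    have e2 : s (sV C.act g (x : Vk k)) - s0 C.act g (s (x : Vk k)) ∈ Lk k := (Submodule.Quotient.eq _).1 e1
    obtain ⟨c, hc⟩ := mem_Lk.1 e2
    refine ⟨c, ?_⟩
    have e3 : (s (sV C.act g (x : Vk k)) : I27 → k) - ρ g (s (x : Vk k) : I27 → k) = c • u0 k := hc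
    show (s (sV C.act g (x : Vk k)) : I27 → k) = ρ g (s (x : Vk k) : I27 → k) + c • u0 k
    rw [← e3]
    abel
  -- the trilinear form
  let F : X →ₗ[k] X →ₗ[k] X →ₗ[k] k := ((crB k).compl₁₂ q q).compr₂ ((tfB k).compl₂ q)
  have hF : ∀ x y z, F x y z = tf (cr (q x) (q y)) (q z) := fun _ _ _ => rfl
  have hF0 : F = 0 := by
    refine (tri11 (by norm_num) C.card A2 hv F (fun x y z => ?_) (fun x y z => ?_) (fun g x y z => ?_) :)
    · rw [hF, hF, cr_comm]
    · rw [hF, hF]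
      calc tf (cr (q x) (q y)) (q z) = tf (cr (q y) (q z)) (q x) := tf3_symm _ _ _
        _ = tf (cr (q z) (q y)) (q x) := by rw [cr_comm (q y)]
        _ = tf (cr (q x) (q z)) (q y) := (tf3_symm _ _ _).symm
    · obtain ⟨c, hc⟩ := hqg g x
      obtain ⟨d, hd⟩ := hqg g y
      obtain ⟨e, he⟩ := hqg g z
      rw [hF, hF, tf3_mod hc hd he (by rw [C.act.tr, hqt]) (by rw [C.act.tr, hqt]) (by rw [C.act.tr, hqt])
        (by rw [C.act.tf, hqq]) (by rw [C.act.tf, hqq]) (by rw [C.act.tf, hqq]), C.act.tf3]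
  -- the preimage
  have hE : ∀ x : W0 k, (Lk k).mkQ x ∈ X → ∃ (y : X) (c : k), (x : I27 → k) = q y + c • u0 k := by
    intro x hx
    have e1 : (Lk k).mkQ x = (Lk k).mkQ (s ((Lk k).mkQ x)) := (hs' _).symm
    have e2 : x - s ((Lk k).mkQ x) ∈ Lk k := (Submodule.Quotient.eq _).1 e1
    obtain ⟨c, hc⟩ := mem_Lk.1 e2
    refine ⟨⟨_, hx⟩, c, ?_⟩
    have e3 : (x : I27 → k) - (s ((Lk k).mkQ x) : I27 → k) = c • u0 k := hc
    show (x : I27 → k) = (s ((Lk k).mkQ x) : I27 → k) + c • u0 k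
    rw [← e3]
    abel
  have hE3 : ∀ x y z : W0 k, (Lk k).mkQ x ∈ X → (Lk k).mkQ y ∈ X → (Lk k).mkQ z ∈ X →
      tf ((cr (x : I27 → k) (y : I27 → k) :)) (z : I27 → k) = 0 := by
    intro x y z hx hy hz
    obtain ⟨x', c, ex⟩ := hE x hx
    obtain ⟨y', d, ey⟩ := hE y hy
    obtain ⟨z', e, ez⟩ := hE z hz
    rw [tf3_mod ex ey ez (hqt _) (hqt _) (hqt _) (hqq _ _) (hqq _ _) (hqq _ _), ← hF, hF0]
    rfl
  have h2 : (2 : k) ≠ 0 := two_ne 3 (by norm_num)
  have hsh : ∀ x y : W0 k, (Lk k).mkQ x ∈ X → (Lk k).mkQ y ∈ X → tf (sh (x : I27 → k)) (y : I27 → k) = 0 := by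
    intro x y hx hy
    have e1 := hE3 x x y hx hx hy
    rw [cr_self, tf_smul_left] at e1
    exact (mul_eq_zero.1 e1).resolve_left h2
  have hadd : ∀ x y : W0 k, (Lk k).mkQ x ∈ X → (Lk k).mkQ y ∈ X →
      cubicT ((x : I27 → k) + (y : I27 → k)) = cubicT (x : I27 → k) + cubicT (y : I27 → k) := by
    intro x y hx hy
    rw [N_add, hsh x y hx hy, tf_comm, hsh y x hy hx]
    ring
  -- the kernel of the norm
  let Y : Submodule k (W0 k) :=
    { carrier := {x | (Lk k).mkQ x ∈ X ∧ cubicT (x : I27 → k) = 0}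
      zero_mem' := ⟨by rw [map_zero]; exact X.zero_mem, by
        have := N_smul (0 : k) (0 : I27 → k)
        rw [zero_smul] at this
        show cubicT (0 : I27 → k) = 0
        rw [this]
        ring⟩
      add_mem' := fun {x y} hx hy => ⟨by rw [map_add]; exact X.add_mem hx.1 hy.1, by
        show cubicT ((x : I27 → k) + (y : I27 → k)) = 0
        rw [hadd x y hx.1 hy.1, hx.2, hy.2, add_zero]⟩
      smul_mem' := fun c x hx => ⟨by rw [map_smul]; exact X.smul_mem c hx.1, by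
        show cubicT (c • (x : I27 → k)) = 0
        rw [N_smul, hx.2, mul_zero]⟩ }
  have hYm : ∀ x : W0 k, x ∈ Y ↔ (Lk k).mkQ x ∈ X ∧ cubicT (x : I27 → k) = 0 := fun _ => Iff.rfl
  have hY : ∀ g, ∀ x ∈ Y, s0 C.act g x ∈ Y := by
    intro g x hx
    refine ⟨?_, ?_⟩
    · rw [← quotRep_mk (s0 C.act) (Lk k) (Lk_inv C.act)]
      exact hX g _ hx.1
    · show cubicT (ρ g (x : I27 → k)) = 0
      rw [C.act.N, hx.2]
  have hu : u0 k ∈ W0 k := by rw [mem_W0, tr1_u0, three_zero k]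
  let f : Y →ₗ[k] X := LinearMap.codRestrict X ((Lk k).mkQ ∘ₗ Y.subtype) fun y => y.2.1
  have hf : ∀ y : Y, (f y : Vk k) = (Lk k).mkQ (y : W0 k) := fun _ => rfl
  have hfi : Function.Injective f := by
    intro y y' h0
    have e1 : (Lk k).mkQ (y : W0 k) = (Lk k).mkQ (y' : W0 k) := congrArg Subtype.val h0
    have e0 : (y : W0 k) - (y' : W0 k) ∈ Lk k := (Submodule.Quotient.eq _).1 e1
    obtain ⟨c, hc⟩ := mem_Lk.1 e0
    have e2 := (Y.sub_mem y.2 y'.2).2
    rw [hc, N_smul, N_u0, mul_one] at e2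
    have e3 : c = 0 := pow_eq_zero_iff (by norm_num) |>.1 e2
    rw [e3, zero_smul] at hc
    have e4 : (y : W0 k) - (y' : W0 k) = 0 := Subtype.ext hc
    exact Subtype.ext (sub_eq_zero.1 e4)
  have hfs : Function.Surjective f := by
    intro x
    obtain ⟨c, hc⟩ := IsAlgClosed.exists_pow_nat_eq (cubicT (q x)) (n := 3) (by norm_num)
    have e0 : (Lk k).mkQ (⟨u0 k, hu⟩ : W0 k) = 0 := (Submodule.Quotient.mk_eq_zero _).2 (mem_Lk.2 ⟨1, by rw [one_smul]⟩)
    have e1 : (Lk k).mkQ (s (x : Vk k) + (-c) • (⟨u0 k, hu⟩ : W0 k)) = (x : Vk k) := by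
      rw [map_add, map_smul, e0, smul_zero, add_zero, hs']
    have e2 : s (x : Vk k) + (-c) • (⟨u0 k, hu⟩ : W0 k) ∈ Y := by
      refine ⟨by rw [e1]; exact x.2, ?_⟩
      show cubicT ((s (x : Vk k) : I27 → k) + (((-c) • (⟨u0 k, hu⟩ : W0 k) : W0 k) : I27 → k)) = 0
      rw [hadd _ _ (by rw [hs']; exact x.2) (by rw [map_smul, e0, smul_zero]; exact X.zero_mem)]
      show cubicT (q x) + cubicT ((-c) • u0 k) = 0
      rw [N_smul, N_u0, ← hc]
      ring
    exact ⟨⟨_, e2⟩, Subtype.ext e1⟩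
  have hVY : (IsV (V := Y) ι 3 ((subRep (s0 C.act) Y hY :)) (1 * 3 ^ i + 1 * 3 ^ j) :) := by
    refine (IsV.iso (V' := Y) ι 3 (LinearEquiv.ofBijective f ⟨hfi, hfs⟩).symm (fun g x => ?_) h' : _)
    apply (LinearEquiv.ofBijective f ⟨hfi, hfs⟩).injective
    rw [LinearEquiv.apply_symm_apply]
    obtain ⟨y, rfl⟩ := (LinearEquiv.ofBijective f ⟨hfi, hfs⟩).surjective x
    rw [LinearEquiv.symm_apply_apply]
    rfl
  obtain ⟨hY', hVY'⟩ := C.up hVY
  obtain ⟨v', hv'⟩ := IsV.basP ι 3 C.card A1.n A1.m A1.ij A1.i A1.j hVY'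
  have e1 := no4 i j hi hj (by omega) _ (BasP.tp hv')
  have e2 : v' 0 0 ≠ 0 := hv'.li.ne_zero ((0, 0) : Fin 2 × Fin 2)
  exact e2 (Subtype.ext (congrFun (congrFun e1 0) 0))

end Cfsg.Agent.R2.F4P.Th
end

-- part: R2/F4P/Th/SkF
section
/-!
# S5931, `p = 3`, the skeleton : pairings and the Steinberg module (helper17)

* `br` : the pairing of the highest and lowest weight vectors; `isV_range`;
* `st_split` : quotients isomorphic to the Steinberg module split;
* `two_copies` : two orthogonal isomorphic nondegenerate submodules give an isotropic one.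
-/

set_option autoImplicit false
set_option linter.unusedSectionVars false
set_option linter.unusedVariables false

namespace Cfsg.Agent.R2.F4P.Th

open Cfsg.Agent.H943.SL2Rel Cfsg.Agent.H943.SL2Mod Cfsg.Agent.R2.H28.SL2 Cfsg.Agent.H943.RepAdd
open Cfsg.Agent.R2.F4L

universe u v w

variable {k : Type u} [Field k] [DecidableEq k] {K : Type w} [Field K] [Fintype K] [DecidableEq K] {ι : K →+* k}
variable {p : ℕ} [Fact p.Prime] [CharP k p] [CharP K p] {a : ℕ}
variable {V : Type v} [AddCommGroup V] [Module k V] [FiniteDimensional k V]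
  {σ : Representation k (Matrix.SpecialLinearGroup (Fin 2) K) V} {P : V →ₗ[k] V →ₗ[k] k}

/-- **the pairing of the highest and lowest weight vectors** -/
theorem br [IsAlgClosed k] (D : Dul σ σ P) {X : Submodule k V} {hX : ∀ g, ∀ x ∈ X, σ g x ∈ X} {b : ℕ}
    (hV : IsV ι p (subRep σ X hX) b) {x : V} (hx : x ∈ X) (hx0 : x ≠ 0) (hu : ∀ t, σ (u t) x = x) {c : ℕ}
    (hh : ∀ a : Kˣ, σ (Cfsg.Agent.H943.SL2Rel.h a) x = ι a ^ c • x) (h0 : P x x = 0) (h1 : P x (σ w x) = 0) : ¬ Nd P X := by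
  intro hn
  have key : ∀ g, P x (σ g x) = 0 := by
    intro g
    rcases bruhat g with ⟨a, t, rfl⟩ | ⟨s, a, t, rfl⟩
    · rw [map_mul, Module.End.mul_apply, hu, hh, map_smul, h0, smul_zero]
    · rw [map_mul, Module.End.mul_apply, hu, mul_assoc, h_w, ← mul_assoc, map_mul, Module.End.mul_apply, hh, map_smul,
        map_smul, map_mul, Module.End.mul_apply, D.inv', ← u_neg, hu, h1, smul_zero]
  let Q : Submodule k V :=
    { carrier := {y | ∀ g, P x (σ g y) = 0}
      zero_mem' := fun g => by rw [map_zero, map_zero]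
      add_mem' := fun {y z} hy hz g => by rw [map_add, map_add, hy, hz, add_zero]
      smul_mem' := fun c y hy g => by rw [map_smul, map_smul, hy, smul_zero] }
  have hQ : ∀ g, ∀ y ∈ Q, σ g y ∈ Q := by
    intro g y hy g'
    rw [← Module.End.mul_apply, ← map_mul]
    exact hy _
  rcases IsV.inf_or_le ι p hV hQ with h | h
  · have h2 : x ∈ X ⊓ Q := ⟨hx, key⟩
    rw [h, Submodule.mem_bot] at h2
    exact hx0 h2
  · have hO : x ∈ orth P.flip X := by
      intro y hy
      have h3 := h hy 1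
      rw [map_one] at h3
      exact h3
    -- `x` is orthogonal to `X`, on the left
    have hOi : ∀ g, ∀ y ∈ orth P.flip X, σ g y ∈ orth P.flip X := D.flip.orth_inv hX
    rcases IsV.inf_or_le ι p hV hOi with h4 | h4
    · have h5 : x ∈ X ⊓ orth P.flip X := ⟨hx, hO⟩
      rw [h4, Submodule.mem_bot] at h5
      exact hx0 h5
    · have h5 : x ∈ X ⊓ orth P X := ⟨hx, fun y hy => h4 hy x hx⟩
      have h6 : X ⊓ orth P X = ⊥ := hn
      rw [h6, Submodule.mem_bot] at h5
      exact hx0 h5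

/-- images of irreducible modules -/
theorem isV_range {B : Type*} [AddCommGroup B] [Module k B] {τ : Representation k (Matrix.SpecialLinearGroup (Fin 2) K) B}
    {b : ℕ} (hB : IsV ι p τ b) (f : B →ₗ[k] V) (hf : ∀ g x, f (τ g x) = σ g (f x)) (hf0 : f ≠ 0) :
    ∃ hX : ∀ g, ∀ y ∈ LinearMap.range f, σ g y ∈ LinearMap.range f, IsV ι p (subRep σ (LinearMap.range f) hX) b := by
  have hX : ∀ g, ∀ y ∈ LinearMap.range f, σ g y ∈ LinearMap.range f := by
    rintro g _ ⟨z, rfl⟩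
    exact ⟨_, hf g z⟩
  have hker : LinearMap.ker f = ⊥ := by
    rcases (IsV.irr ι p hB).2 (LinearMap.ker f) (fun g x hx => by
      rw [LinearMap.mem_ker] at hx ⊢
      rw [hf, hx, map_zero]) with h | h
    · exact h
    · exact absurd (LinearMap.ker_eq_top.1 h) hf0
  exact ⟨hX, IsV.iso ι p (LinearEquiv.ofInjective f (LinearMap.ker_eq_bot.1 hker)) (fun g z => Subtype.ext (hf g z)) hB⟩

/-- **quotients isomorphic to the Steinberg module** -/
theorem st_split [IsAlgClosed k] (hF : Fintype.card K = p ^ a) (hfix : ∀ x, (∀ g, σ g x = x) → x = 0) {W : Submodule k V}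
    (hW : ∀ g, ∀ x ∈ W, σ g x ∈ W) (hc : IsV ι p (quotRep σ W hW) (Fintype.card K - 1)) :
    ∃ (X : Submodule k V) (hX : ∀ g, ∀ x ∈ X, σ g x ∈ X), IsV ι p (subRep σ X hX) (Fintype.card K - 1) ∧ ¬ X ≤ W := by
  have hp : p.Prime := Fact.out
  have hq := one_lt (F := K)
  have hcb : cb k K (Fintype.card K - 1) = -1 := by
    unfold cb
    rw [if_neg (lt_irrefl _)]
  obtain ⟨m, hm0, hmu, hmh, hmS, -⟩ := IsV.hw ι p hc
  have hmh' : ∀ b : Kˣ, quotRep σ W hW (Cfsg.Agent.H943.SL2Rel.h b) m = m := fun b => by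
    rw [hmh, powQ ι b.ne_zero, one_smul]
  obtain ⟨x, hx⟩ := W.mkQ_surjective m
  obtain ⟨x₁, hx₁, hxh⟩ := exists_tavg ι p σ W (c := 0) (x := x) (fun b => by
    rw [pow_zero, one_smul, ← Submodule.Quotient.mk_eq_zero, ← Submodule.mkQ_apply, map_sub, ← quotRep_mk σ W hW, hx, hmh',
      sub_self])
  have hxm : W.mkQ x₁ = m := by
    rw [← hx]
    exact (Submodule.Quotient.eq W).2 hx₁
  have hxh' : ∀ b : Kˣ, σ (Cfsg.Agent.H943.SL2Rel.h b) x₁ = x₁ := fun b => by rw [hxh, pow_zero, one_smul]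
  obtain ⟨y, hy⟩ : ∃ y, y = -SS σ x₁ := ⟨_, rfl⟩
  have hym : W.mkQ y = m := by
    have h1 : W.mkQ (SS σ x₁) = SS (quotRep σ W hW) m := by
      rw [SS_apply, SS_apply, map_sum]
      refine Finset.sum_congr rfl fun t _ => ?_
      rw [← hxm, quotRep_mk, quotRep_mk]
    rw [hy, map_neg, h1, hmS, hcb, neg_one_smul, neg_neg]
  have hyu : ∀ t, σ (u t) y = y := fun t => by rw [hy, map_neg, SS_u]
  have hyh : ∀ b, σ (Cfsg.Agent.H943.SL2Rel.h b) y = y := fun b => by rw [hy, map_neg, Cfsg.Agent.R2.H28.SL2.SS_h, hxh']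
  have hyS : SS σ y = cb k K (Fintype.card K - 1) • y := by
    have h1 := hfix _ (avg_fixed σ hyu hyh)
    rw [← SS_apply] at h1
    rw [hcb, neg_one_smul]
    exact eq_neg_of_add_eq_zero_right h1
  have hV : IsV ι p (RB (k := k) ι p (le_refl (Fintype.card K - 1))) (Fintype.card K - 1) := isV_RB le_rfl
  obtain ⟨m₁, h10, h1u, -⟩ := IsV.hw ι p hV
  obtain ⟨f, hf, hfm⟩ := gen_hw ι p σ hF hV h10 h1u hyu (fun b => by
    rw [hyh, powQ ι b.ne_zero, one_smul]) hyS (fun i hi hlt => by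
      exfalso
      have h1 : (Fintype.card K - 1) / p ^ i % p = p - 1 := by
        rw [hF]
        exact dg_top hp.one_lt hi
      have := hp.one_lt
      omega)
  have hf0 : f ≠ 0 := by
    rintro rfl
    rw [LinearMap.zero_apply] at hfm
    rw [← hfm, map_zero] at hym
    exact hm0 hym.symm
  obtain ⟨hX, hVX⟩ := isV_range hV f hf hf0
  refine ⟨_, hX, hVX, fun hle => hm0 ?_⟩
  rw [← hym]
  exact (Submodule.Quotient.mk_eq_zero W).2 (hle ⟨m₁, hfm⟩)

/-- the last vector of a tuple is isotropic -/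
theorem self11 (D : Dul σ σ P) (hP : ∀ x y, P x y = P y x) {i j : ℕ} {x : ℕ → ℕ → V} (hx : TP ι p σ 1 i 1 j x) :
    P (x 1 1) (x 1 1) = 0 := by
  have h1 := D.inv (u 1) (x 1 1) (x 0 1)
  have h2 : σ (u 1) (x 0 1) = x 0 1 + x 1 1 := by
    rw [hx.u 0 (by norm_num) 1 le_rfl 1]
    simp only [Finset.sum_range_succ, _root_.tsub_zero, _root_.Nat.reduceAdd, _root_.tsub_self, _root_.zero_add, _root_.Finset.range_one, _root_.map_one, _root_.one_pow, _root_.mul_one, _root_.Finset.sum_singleton, _root_.Nat.choose_self, _root_.Nat.cast_one, _root_.add_zero, _root_.Nat.choose_succ_self_right, _root_.one_smul]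
  rw [hx.top, h2, map_add] at h1
  exact left_eq_add.1 h1.symm

variable [IsAlgClosed k]

/-- **two orthogonal isomorphic submodules** -/
theorem two_copies (D : Dul σ σ P) (hP : ∀ x y, P x y = P y x) {b : ℕ} {X Y : Submodule k V}
    {hX : ∀ g, ∀ x ∈ X, σ g x ∈ X} {hY : ∀ g, ∀ x ∈ Y, σ g x ∈ Y} (hVX : IsV ι p (subRep σ X hX) b)
    (hVY : IsV ι p (subRep σ Y hY) b) (hXY : ∀ x ∈ X, ∀ y ∈ Y, P x y = 0) (hdis : X ⊓ Y = ⊥)
    (hself : ∀ (Z : Submodule k V) (hZ : ∀ g, ∀ x ∈ Z, σ g x ∈ Z), IsV ι p (subRep σ Z hZ) b → ∀ z ∈ Z,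
      (∀ t, σ (u t) z = z) → P z z = 0)
    (hall : ∀ (Z : Submodule k V) (hZ : ∀ g, ∀ x ∈ Z, σ g x ∈ Z), IsV ι p (subRep σ Z hZ) b → Nd P Z) : False := by
  obtain ⟨e, he⟩ := IsV.eqv ι p hVX hVY
  obtain ⟨x, hx0, hxu, hxh, -⟩ := IsV.hw ι p hVX
  have hy0 : e x ≠ 0 := fun h => hx0 (e.map_eq_zero_iff.1 h)
  have hyu : ∀ t, subRep σ Y hY (u t) (e x) = e x := fun t => by rw [← he, hxu]
  have hyh : ∀ a, subRep σ Y hY (Cfsg.Agent.H943.SL2Rel.h a) (e x) = ι a ^ b • e x := fun a => by rw [← he, hxh, map_smul]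
  have fu : ∀ t, σ (u t) (x : V) = x := fun t => congrArg Subtype.val (hxu t)
  have fh : ∀ a : Kˣ, σ (Cfsg.Agent.H943.SL2Rel.h a) (x : V) = ι a ^ b • (x : V) := fun a => congrArg Subtype.val (hxh a)
  have gu : ∀ t, σ (u t) (e x : V) = e x := fun t => congrArg Subtype.val (hyu t)
  have gh : ∀ a : Kˣ, σ (Cfsg.Agent.H943.SL2Rel.h a) (e x : V) = ι a ^ b • (e x : V) := fun a => congrArg Subtype.val (hyh a)
  have hxx := hself X hX hVX x x.2 fu
  have hyy := hself Y hY hVY (e x : V) (e x).2 gu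
  have hα : P (x : V) (σ w x) ≠ 0 := fun h =>
    br D hVX x.2 (fun h0 => hx0 (Subtype.ext h0)) fu fh hxx h (hall X hX hVX)
  have hβ : P (e x : V) (σ w (e x)) ≠ 0 := fun h =>
    br D hVY (e x).2 (fun h0 => hy0 (Subtype.ext h0)) gu gh hyy h (hall Y hY hVY)
  obtain ⟨μ, hμ⟩ := IsAlgClosed.exists_pow_nat_eq (-(P (x : V) (σ w x)) / (P (e x : V) (σ w (e x)))) (n := 2) (by norm_num)
  let f : X →ₗ[k] V := X.subtype + μ • (Y.subtype ∘ₗ (e : X →ₗ[k] Y))
  have hf : ∀ z : X, f z = (z : V) + μ • (e z : V) := fun _ => rfl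
  have hfe : ∀ g z, f (subRep σ X hX g z) = σ g (f z) := by
    intro g z
    rw [hf, hf, he, map_add, map_smul]
    rfl
  have hf0 : f x ≠ 0 := by
    intro h
    rw [hf] at h
    have h1 : (x : V) = (-μ) • (e x : V) := by
      rw [neg_smul]
      exact eq_neg_of_add_eq_zero_left h
    have h2 : (x : V) ∈ X ⊓ Y := ⟨x.2, by rw [h1]; exact Y.smul_mem _ (e x).2⟩
    rw [hdis, Submodule.mem_bot] at h2
    exact hx0 (Subtype.ext h2)
  obtain ⟨hZ, hVZ⟩ := isV_range hVX f hfe (fun h => hf0 (by rw [h]; rfl))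
  have hzu : ∀ t, σ (u t) (f x) = f x := fun t => by rw [← hfe, hxu]
  have hzh : ∀ a : Kˣ, σ (Cfsg.Agent.H943.SL2Rel.h a) (f x) = ι a ^ b • f x := fun a => by rw [← hfe, hxh, map_smul]
  refine br D hVZ ⟨x, rfl⟩ hf0 hzu hzh (hself _ hZ hVZ _ ⟨x, rfl⟩ hzu) ?_ (hall _ hZ hVZ)
  have c1 : P (x : V) (σ w (e x)) = 0 := hXY _ x.2 _ (hY _ _ (e x).2)
  have c2 : P (e x : V) (σ w x) = 0 := by
    rw [hP]
    exact hXY _ (hX _ _ x.2) _ (e x).2
  rw [hf, map_add, map_smul, map_add, map_add, LinearMap.add_apply, LinearMap.add_apply, map_smul, map_smul, map_smul,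
    LinearMap.smul_apply, LinearMap.smul_apply, c1, c2]
  simp only [smul_eq_mul, mul_zero, add_zero, zero_add]
  have h3 : μ * (μ * P (e x : V) (σ w (e x))) = μ ^ 2 * P (e x : V) (σ w (e x)) := by ring
  rw [h3, hμ]
  field_simp
  ring

end Cfsg.Agent.R2.F4P.Th
end

-- part: R2/F4P/Th/SkG
section
/-!
# S5931, `p = 3`, the skeleton : dimension 9, `q = 9` (helper17)

* `self_hw` : the highest weight vectors of `V_{3^i + 3^j}` are isotropic;
* `Cx3.nine_two` : no irreducible submodules of dimension 9 if `q = 9`.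
-/

set_option autoImplicit false
set_option linter.unusedSectionVars false
set_option linter.unusedVariables false

namespace Cfsg.Agent.R2.F4P.Th

open Cfsg.Lie
open Cfsg.Agent.ChevalleyStructure.E6Min.Tables Cfsg.Agent.ChevalleyStructure.E6Min.Basic
open Cfsg.Agent.H952.F4 (sh cr tf tr1 u0)
open Cfsg.Agent.H952.F4.Jord
open Cfsg.Agent.H952.F4.FixV (trL trL_apply W0 mem_W0 finrank_W0 exists_tr1_one)
open Cfsg.Agent.H943.SL2Rel Cfsg.Agent.H943.SL2Mod Cfsg.Agent.R2.H28.SL2 Cfsg.Agent.H943.RepAdd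
open Cfsg.Agent.R2.F4L

universe u v w

section Gen

variable {k : Type u} [Field k] [DecidableEq k] {K : Type w} [Field K] [Fintype K] [DecidableEq K] {ι : K →+* k}
variable {p : ℕ} [Fact p.Prime] [CharP k p] [CharP K p] {a : ℕ} [IsAlgClosed k]
variable {V : Type v} [AddCommGroup V] [Module k V] [FiniteDimensional k V]
  {σ : Representation k (Matrix.SpecialLinearGroup (Fin 2) K) V} {P : V →ₗ[k] V →ₗ[k] k}

theorem self_hw (D : Dul σ σ P) (hP : ∀ x y, P x y = P y x) (hF : Fintype.card K = p ^ a) {i j : ℕ}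
    (A : Adm p a 1 i 1 j) {Z : Submodule k V} {hZ : ∀ g, ∀ x ∈ Z, σ g x ∈ Z}
    (hV : IsV ι p (subRep σ Z hZ) (1 * p ^ i + 1 * p ^ j)) {z : V} (hz : z ∈ Z) (hu : ∀ t, σ (u t) z = z) : P z z = 0 := by
  obtain ⟨v, hv⟩ := IsV.basP ι p hF A.n A.m A.ij A.i A.j hV
  have h1 := self11 D hP (BasP.tp hv)
  obtain ⟨m, hm0, -, -, -, huniq⟩ := IsV.hw ι p hV
  obtain ⟨c, hc⟩ := huniq ⟨z, hz⟩ fun t => Subtype.ext (hu t)
  obtain ⟨d, hd⟩ := huniq (v 1 1) fun t => (BasP.toTP hv).top t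
  have hv0 : v 1 1 ≠ 0 := hv.li.ne_zero ((1, 1) : Fin 2 × Fin 2)
  have hd0 : d ≠ 0 := by
    rintro rfl
    rw [zero_smul] at hd
    exact hv0 hd
  have e1 : z = (c * d⁻¹) • (v 1 1 : V) := by
    have e2 : z = c • (m : V) := congrArg Subtype.val hc
    have e3 : (v 1 1 : V) = d • (m : V) := congrArg Subtype.val hd
    rw [e3, smul_smul, mul_assoc, inv_mul_cancel₀ hd0, mul_one]
    exact e2
  rw [e1, map_smul, map_smul, LinearMap.smul_apply]
  have h2 : P (v 1 1 : V) (v 1 1 : V) = 0 := h1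
  rw [h2, smul_zero, smul_zero]

end Gen

variable {k : Type u} [Field k] [DecidableEq k] {K : Type w} [Field K] [Fintype K] [DecidableEq K] {ι : K →+* k}
variable {a : ℕ} [CharP k 3] [CharP K 3] [IsAlgClosed k]
variable {ρ : Representation k (Matrix.SpecialLinearGroup (Fin 2) K) (I27 → k)}

/-- **no irreducible submodules of dimension 9, `q = 9`** -/
theorem Cx3.nine_two (C : Cx3 K a ρ) (ha2 : a = 2) (no3 : ∀ i, i < a → ∀ x, TS ι 3 ρ 2 i x → x = 0)
    (no4 : ∀ i j, i < a → j < a → i ≠ j → ∀ x, TP ι 3 ρ 1 i 1 j x → x = 0)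
    {Y : Submodule k (Vk k)} {hY : ∀ g, ∀ x ∈ Y, sV C.act g x ∈ Y} {b : ℕ}
    (h : IsV ι 3 ((subRep ((sV C.act :)) Y hY :)) b) (h9 : (Bf k b).card = 9) : False := by
  have D := dulV C.act
  have hP := PV_symm (k := k)
  have h25 : Module.finrank k (Vk k) = 25 := finrank_Vk
  have hq : Fintype.card K = 9 := by rw [C.card, ha2]; norm_num
  have hlt := (C.lt h :)
  have hb8 : b = Fintype.card K - 1 := by
    obtain ⟨i, j, hij, hb⟩ := (card3 k b).2.2.2.2.2.1 h9
    have hj : j < a := C.digit (c := 2) (by norm_num) (by rw [hb]; exact Nat.le_add_left _ _) hlt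
    have e1 : j = 1 := by omega
    have e2 : i = 0 := by omega
    rw [hb, e1, e2, hq]
    norm_num
  have hYf := (IsV.finrank ι h :)
  rcases nd_or D h with hn | hn
  swap
  · -- isotropic
    obtain ⟨B, D', -⟩ := D.sub hY
    have h1 : IsV ι 3 ((quotRep ((sV C.act :)) (orth (PV k) Y) (D.orth_inv hY) :)) b := IsV.dual ι 3 h D'
    rw [hb8] at h1
    obtain ⟨X, hX, hVX, hle⟩ := st_split C.card C.fixV (D.orth_inv hY) h1
    rw [← hb8] at hVX
    have h2 := C.nine_uniq no3 hVX h h9 h9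
    rw [h2] at hle
    exact hle hn
  · -- nondegenerate
    have hV' := nd_orth D hP hn
    have hr := rank_orth D hY
    have key : ∀ (W : Submodule k (Vk k)) (hW : ∀ g, ∀ x ∈ W, sV C.act g x ∈ W), W ≤ orth (PV k) Y → W ≠ ⊥ →
        ∃ (X : Submodule k (Vk k)) (hX : ∀ g, ∀ x ∈ X, sV C.act g x ∈ X), X ≤ W ∧
          IsV ι 3 (subRep (sV C.act) X hX) (1 * 3 ^ 0 + 1 * 3 ^ 1) := by
      intro W hW hWY hW0
      obtain ⟨X, hX, c, hle, hVX⟩ := exists_irr (ι := ι) (p := 3) hW hW0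
      obtain ⟨-, hc⟩ := C.dims no3 hVX
      have hclt := C.lt hVX
      refine ⟨X, hX, hle, ?_⟩
      rcases hc with hc | hc | hc | hc
      · obtain ⟨i, j, hij, hb⟩ := (card3 k c).2.2.2.1 hc
        have hj : j < a := C.digit (c := 1) le_rfl (by rw [one_mul, hb]; exact Nat.le_add_left _ _) hclt
        have e1 : j = 1 := by omega
        have e2 : i = 0 := by omega
        rw [e1, e2] at hb
        rw [one_mul, one_mul, ← hb]
        exact hVX
      · exfalso
        have h2 := C.nine_uniq no3 hVX h hc h9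
        subst h2
        have h3 : X ⊓ (orth ((PV k :)) X :) = ⊥ := hn
        rw [inf_eq_left.2 (hle.trans hWY)] at h3
        exact IsV.ne_bot hVX h3
      · exfalso
        obtain ⟨i, j, l, hij, hli, hlj, hb⟩ := (card3 k c).2.2.2.2.2.2 hc
        have hj : j < a := C.digit (c := 1) le_rfl (by rw [one_mul, hb]; exact (Nat.le_add_left _ _).trans (Nat.le_add_right _ _)) hclt
        have hl : l < a := C.digit (c := 2) (by norm_num) (by rw [hb]; exact Nat.le_add_left _ _) hclt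
        omega
      · exact (C.no_sixteen hVX hc).elim
    have h16 : Module.finrank k ((orth ((PV k :)) Y :)) = 16 := by omega
    obtain ⟨X, hX, hXle, hVX⟩ := key _ (D.orth_inv hY) le_rfl (by
      intro h0
      rw [h0, finrank_bot] at h16
      omega)
    have hc4 : (Bf k (1 * 3 ^ 0 + 1 * 3 ^ 1)).card = 4 := by
      rw [one_mul, one_mul]
      exact card_pair k 0 1 (by norm_num)
    have hXn := C.nd_four no4 hVX hc4
    obtain ⟨hWn, hWr⟩ := nd_inf D hX hXn hV' hXle hP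
    have hXf := (IsV.finrank ι hVX :)
    obtain ⟨Z, hZ, hZle, hVZ⟩ := key (orth (PV k) Y ⊓ orth (PV k) X) (inf_inv (D.orth_inv hY) (D.orth_inv hX))
      inf_le_left (by
        intro h0
        rw [h0, finrank_bot] at hWr
        omega)
    have A : Adm 3 a 1 0 1 1 := ⟨by norm_num, by norm_num, by norm_num, by omega, by omega⟩
    refine two_copies D hP hVX hVZ (fun x hx y hy => (hZle hy).2 x hx) ?_
      (fun Z' hZ' hVZ' z hz hu => self_hw D hP C.card A hVZ' hz hu) (fun Z' hZ' hVZ' => C.nd_four no4 hVZ' hc4)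
    have h3 : X ⊓ (orth ((PV k :)) X :) = ⊥ := hXn
    rw [eq_bot_iff, ← h3]
    exact inf_le_inf_left X (hZle.trans inf_le_right)

end Cfsg.Agent.R2.F4P.Th
end

-- part: R2/F4P/Th/SkH
section
/-!
# S5931, `p = 3`, the skeleton : dimension 9, `q > 9`, I (helper17)

* `isV_of_card`, `hw_side` : composition factors and highest weight vectors;
* `Cx3.sh_top` : `y_22 ^ # = 0` for the tuples of type `(2, 0; 2, d)`.
-/

set_option autoImplicit false
set_option linter.unusedSectionVars false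
set_option linter.unusedVariables false

namespace Cfsg.Agent.R2.F4P.Th

open Cfsg.Lie
open Cfsg.Agent.ChevalleyStructure.E6Min.Tables Cfsg.Agent.ChevalleyStructure.E6Min.Basic
open Cfsg.Agent.H952.F4 (sh cr tf tr1 u0)
open Cfsg.Agent.H952.F4.Jord
open Cfsg.Agent.H952.F4.FixV (trL trL_apply W0 mem_W0 finrank_W0 exists_tr1_one)
open Cfsg.Agent.H943.SL2Rel Cfsg.Agent.H943.SL2Mod Cfsg.Agent.R2.H28.SL2 Cfsg.Agent.H943.RepAdd
open Cfsg.Agent.R2.F4L

universe u v w

section Mul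

theorem sum_ge2 {s : Multiset ℕ} (f : ℕ → ℕ) {b c : ℕ} (hb : 2 ≤ s.count b) (hc : c ∈ s) (hbc : c ≠ b) :
    2 * f b + f c ≤ (s.map f).sum := by
  have h1 : Multiset.replicate 2 b + {c} ≤ s := by
    rw [Multiset.le_iff_count]
    intro x
    rw [Multiset.count_add, Multiset.count_replicate, Multiset.count_singleton]
    have h2 := Multiset.one_le_count_iff_mem.2 hc
    by_cases h3 : b = x
    · subst h3
      rw [if_pos rfl, if_neg (Ne.symm hbc)]
      omega
    · rw [if_neg h3]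
      by_cases h4 : x = c
      · subst h4
        rw [if_pos rfl]
        omega
      · rw [if_neg h4]
        omega
  obtain ⟨t, rfl⟩ := Multiset.le_iff_exists_add.1 h1
  rw [Multiset.map_add, Multiset.map_add, Multiset.map_replicate, Multiset.sum_add, Multiset.sum_add,
    Multiset.sum_replicate, Multiset.map_singleton, Multiset.sum_singleton, smul_eq_mul]
  omega

theorem sum_ge1 {s : Multiset ℕ} (f : ℕ → ℕ) {b c : ℕ} (hb : b ∈ s) (hc : c ∈ s) (hbc : c ≠ b) :
    f b + f c ≤ (s.map f).sum := by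
  obtain ⟨t, rfl⟩ := Multiset.exists_cons_of_mem hb
  have h2 : c ∈ t := (Multiset.mem_cons.1 hc).resolve_left hbc
  obtain ⟨t', rfl⟩ := Multiset.exists_cons_of_mem h2
  rw [Multiset.map_cons, Multiset.map_cons, Multiset.sum_cons, Multiset.sum_cons]
  omega

theorem sum_ge0 {s : Multiset ℕ} (f : ℕ → ℕ) {b : ℕ} (hb : b ∈ s) : f b ≤ (s.map f).sum := by
  obtain ⟨t, rfl⟩ := Multiset.exists_cons_of_mem hb
  rw [Multiset.map_cons, Multiset.sum_cons]
  omega

end Mul

section Gen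

variable {k : Type u} [Field k] [DecidableEq k] {K : Type w} [Field K] [Fintype K] [DecidableEq K] {ι : K →+* k}
variable {a : ℕ} [CharP k 3] [CharP K 3] [IsAlgClosed k]
variable {V : Type v} [AddCommGroup V] [Module k V] [FiniteDimensional k V]
  {σ : Representation k (Matrix.SpecialLinearGroup (Fin 2) K) V} {P : V →ₗ[k] V →ₗ[k] k}

/-- a module as large as one of its factors -/
theorem isV_of_card {c : ℕ} (hc : c ∈ cf (Sy.{u, v, w} ι 3) σ) (hd : Module.finrank k V = (Bf k c).card) : IsV ι 3 σ c := by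
  refine irr_of_cf (Sy.{u, v, w} ι 3) (?_ : cf (Sy.{u, v, w} ι 3) σ = {c})
  have h1 := finrank_cf.{u, v, w} ι 3 _ V σ le_rfl
  obtain ⟨t, ht⟩ := Multiset.exists_cons_of_mem hc
  rw [ht, Multiset.map_cons, Multiset.sum_cons] at h1
  rcases Multiset.empty_or_exists_mem t with h2 | ⟨d, hd'⟩
  · rw [ht, h2]
    rfl
  · have h3 := sum_ge0 (fun b => (Bf k b).card) hd'
    have h4 := card_pos k d
    omega

theorem two_factors {W : Submodule k V} {hW : ∀ g, ∀ x ∈ W, σ g x ∈ W} {b c : ℕ}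
    (hb : b ∈ cf (Sy.{u, v, w} ι 3) (subRep σ W hW)) (hc : c ∈ cf (Sy.{u, v, w} ι 3) (subRep σ W hW)) (hbc : c ≠ b) :
    (Bf k b).card + (Bf k c).card ≤ Module.finrank k W := by
  rw [finrank_cf.{u, v, w} ι 3 _ W (subRep σ W hW) le_rfl]
  exact sum_ge1 (fun b => (Bf k b).card) hb hc hbc

theorem mem_compl {W X : Submodule k V} {hW : ∀ g, ∀ x ∈ W, σ g x ∈ W} {hX : ∀ g, ∀ x ∈ X, σ g x ∈ X} (h : IsCompl W X)
    {c : ℕ} (hc : c ∈ cf (Sy.{u, v, w} ι 3) σ) :
    c ∈ cf (Sy.{u, v, w} ι 3) (subRep σ W hW) ∨ c ∈ cf (Sy.{u, v, w} ι 3) (subRep σ X hX) := by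
  rw [cf_sup hW hX h] at hc
  exact Multiset.mem_add.1 hc

/-- highest weight vectors and decompositions -/
theorem hw_side (hF : Fintype.card K = 3 ^ a) {W X : Submodule k V} {hW : ∀ g, ∀ x ∈ W, σ g x ∈ W}
    {hX : ∀ g, ∀ x ∈ X, σ g x ∈ X} (h : IsCompl W X)
    {x : V} {c : ℕ} (hu : ∀ t, σ (u t) x = x) (hh : ∀ a : Kˣ, σ (Cfsg.Agent.H943.SL2Rel.h a) x = ι a ^ c • x)
    (hc : c < Fintype.card K) (hc0 : c ≠ 0) (hc1 : c ≠ Fintype.card K - 1)
    (hn : c ∉ cf (Sy.{u, v, w} ι 3) (subRep σ X hX)) : x ∈ W := by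
  have h1 : x ∈ W ⊔ X := by
    rw [h.sup_eq_top]
    trivial
  obtain ⟨y, hy, z, hz, e⟩ := Submodule.mem_sup.1 h1
  have key : ∀ y' ∈ W, ∀ z' ∈ X, y' + z' = y + z → z' = z := by
    intro y' hy' z' hz' e'
    have h2 : z' - z = y - y' := by
      rw [sub_eq_sub_iff_add_eq_add, add_comm z', e', add_comm]
    have h3 : z' - z ∈ W ⊓ X := ⟨by rw [h2]; exact W.sub_mem hy hy', X.sub_mem hz' hz⟩
    rw [h.inf_eq_bot, Submodule.mem_bot] at h3
    exact sub_eq_zero.1 h3
  by_cases hz0 : z = 0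
  · rw [← e, hz0, add_zero]
    exact hy
  exfalso
  have hzu : ∀ t, σ (u t) z = z := fun t => by
    refine key _ (hW (u t) y hy) _ (hX (u t) z hz) ?_
    rw [← map_add, e, hu]
  have hzh : ∀ a : Kˣ, σ (Cfsg.Agent.H943.SL2Rel.h a) z = ι a ^ c • z := fun a => by
    have ha : (ι (a : K) ^ c) ≠ 0 := pow_ne_zero _ ((map_ne_zero ι).2 a.ne_zero)
    have h2 := key ((ι (a : K) ^ c)⁻¹ • σ (Cfsg.Agent.H943.SL2Rel.h a) y) (W.smul_mem _ (hW _ y hy))
      ((ι (a : K) ^ c)⁻¹ • σ (Cfsg.Agent.H943.SL2Rel.h a) z) (X.smul_mem _ (hX _ z hz)) (by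
        rw [← smul_add, ← map_add, e, hh, smul_smul, inv_mul_cancel₀ ha, one_smul])
    have h3 := congrArg (fun v => (ι (a : K) ^ c) • v) h2
    rwa [smul_smul, mul_inv_cancel₀ ha, one_smul] at h3
  have hz0' : (⟨z, hz⟩ : X) ≠ 0 := fun h0 => hz0 (congrArg Subtype.val h0)
  obtain ⟨b, hb, hb'⟩ := hw_mem_cf.{u, v, w} (c := c) (ρ := subRep σ X hX) ι 3 hz0'
    (fun t => Subtype.ext (hzu t)) (fun b => Subtype.ext (hzh b))
  have h2 : b < Fintype.card K := by
    rw [hF]
    exact cf_lt ι 3 hF _ b hb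
  rw [label_eq ι h2 hc hc0 hc1 hb'] at hb
  exact hn hb

end Gen

end Cfsg.Agent.R2.F4P.Th
end

-- part: R2/F4P/Th/SkI
section
/-!
# S5931, `p = 3`, the skeleton : dimension 9, `q > 9`, II (helper17)

* `Cx3.sh_top` : `y_22 ^ # = 0` for the tuples of type `(2, 0; 2, d)`.
-/

set_option autoImplicit false
set_option linter.unusedSectionVars false
set_option linter.unusedVariables false

namespace Cfsg.Agent.R2.F4P.Th

open Cfsg.Lie
open Cfsg.Agent.ChevalleyStructure.E6Min.Tables Cfsg.Agent.ChevalleyStructure.E6Min.Basic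
open Cfsg.Agent.H952.F4 (sh cr tf tr1 u0)
open Cfsg.Agent.H952.F4.Jord
open Cfsg.Agent.H952.F4.FixV (trL trL_apply W0 mem_W0 finrank_W0 exists_tr1_one)
open Cfsg.Agent.H943.SL2Rel Cfsg.Agent.H943.SL2Mod Cfsg.Agent.R2.H28.SL2 Cfsg.Agent.H943.RepAdd
open Cfsg.Agent.R2.F4L

universe u v w

theorem num1 {a d : ℕ} (ha3 : 3 ≤ a) (hd : 1 ≤ d) (hd2 : 2 * d ≤ a) : 4 + 4 * 3 ^ d < 3 ^ a - 1 := by
  rcases Nat.lt_or_ge d 2 with h | h
  · have h1 : d = 1 := by omega
    have h2 : 3 ^ 3 ≤ 3 ^ a := Nat.pow_le_pow_right (by norm_num) ha3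
    rw [h1]
    omega
  · have h1 : 3 ^ 2 ≤ 3 ^ d := Nat.pow_le_pow_right (by norm_num) h
    have h2 : 3 ^ (2 * d) ≤ 3 ^ a := Nat.pow_le_pow_right (by norm_num) hd2
    have h3 : 3 ^ (2 * d) = 3 ^ d * 3 ^ d := by rw [two_mul, pow_add]
    have h4 : 9 * 3 ^ d ≤ 3 ^ d * 3 ^ d := Nat.mul_le_mul_right _ h1
    omega

section Card

variable (k : Type*) [Field k] [DecidableEq k] [CharP k 3]

theorem card_c1 : (Bf k (4 + 4 * 3 ^ 1)).card = 12 := by
  have h1 := card_Bf_mul k 3 0 (r := 1) (by norm_num)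
  have h2 := card_Bf_mul k 3 1 (r := 2) (by norm_num)
  have h3 := card_Bf_mul k 3 5 (r := 1) (by norm_num)
  rw [card_Bf_zero] at h1
  norm_num at h1 h2 h3 ⊢
  omega

theorem card_c2 (e : ℕ) : (Bf k (4 + 4 * 3 ^ (e + 2))).card = 16 := by
  have h1 := card_pair k e (e + 1) (by omega)
  have h2 := card_Bf_mul k 3 (3 ^ e + 3 ^ (e + 1)) (r := 1) (by norm_num)
  have h3 := card_Bf_mul k 3 (3 * (3 ^ e + 3 ^ (e + 1)) + 1) (r := 1) (by norm_num)
  have e1 : 4 + 4 * 3 ^ (e + 2) = 3 * (3 * (3 ^ e + 3 ^ (e + 1)) + 1) + 1 := by ring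
  rw [e1, h3, h2, h1]

end Card

variable {k : Type u} [Field k] [DecidableEq k] {K : Type w} [Field K] [Fintype K] [DecidableEq K] {ι : K →+* k}
variable {a : ℕ} [CharP k 3] [CharP K 3] [IsAlgClosed k]
variable {ρ : Representation k (Matrix.SpecialLinearGroup (Fin 2) K) (I27 → k)}

/-- traces of weight vectors -/
theorem Cx3.wt_tr (C : Cx3 K a ρ) (ι : K →+* k) {x : I27 → k} {c : ℕ} (hx : ∀ b : Kˣ, ρ (h b) x = ι b ^ c • x) (hc : 0 < c)
    (hc1 : c < Fintype.card K - 1) : tr1 x = 0 := by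
  obtain ⟨lam, hlam⟩ := exists_prim (k := k) ι 0 3
  rw [pow_zero, pow_one] at hlam
  have h1 := C.act.tr (Cfsg.Agent.H943.SL2Rel.h lam) x
  rw [hx, tr1_smul] at h1
  have h2 : (ι lam ^ c - 1) * tr1 x = 0 := by linear_combination h1
  refine (mul_eq_zero.1 h2).resolve_left (sub_ne_zero.2 fun h3 => ?_)
  have h4 := Nat.le_of_dvd hc ((hlam.pow_eq_one_iff_dvd c).1 h3)
  omega

/-- **the twelve-dimensional case** -/
theorem Cx3.sh_top1 (C : Cx3 K a ρ) (ha3 : 3 ≤ a) {y : ℕ → ℕ → I27 → k} (hy : TP ι 3 ρ 2 0 2 1 y)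
    {W : Submodule k (Vk k)} {hW : ∀ g, ∀ x ∈ W, sV C.act g x ∈ W} (hVW : IsV ι 3 ((subRep ((sV C.act :)) W hW :)) 16)
    (hWn : Nd (PV k) W) (hm0 : sh (y 2 2) ∈ W0 k) (hmW : (Lk k).mkQ (⟨sh (y 2 2), hm0⟩ : W0 k) ∈ W)
    (hne : (Lk k).mkQ (⟨sh (y 2 2), hm0⟩ : W0 k) ≠ 0) : False := by
  have D := dulV C.act
  have h27 : 27 ≤ Fintype.card K := by
    rw [C.card]
    exact (by norm_num : 27 = 3 ^ 3) ▸ Nat.pow_le_pow_right (by norm_num) ha3
  have hw22 : ∀ b : Kˣ, ρ (h b) (y 2 2) = ι b ^ 8 • y 2 2 := fun b => by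
    rw [hy.h 2 le_rfl 2 le_rfl]
    congr 1
    simp only [pow_zero, pow_one, Nat.sub_self, mul_one]
    rw [← pow_mul, ← pow_add]
  have hu22 : ∀ t, ρ (u t) (y 2 2) = y 2 2 := fun t => hy.top t
  set x := (Lk k).mkQ (⟨sh (y 2 2), hm0⟩ : W0 k) with hx
  have hxu : ∀ t, sV C.act (u t) x = x := fun t => by
    rw [hx, quotRep_mk]
    congr 1
    apply Subtype.ext
    show ρ (u t) (sh (y 2 2)) = sh (y 2 2)
    rw [C.act.sh, hu22]
  have hxh : ∀ b : Kˣ, sV C.act (h b) x = ι b ^ 16 • x := fun b => by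
    rw [hx, quotRep_mk, ← map_smul]
    congr 1
    apply Subtype.ext
    show ρ (h b) (sh (y 2 2)) = ι b ^ 16 • sh (y 2 2)
    rw [C.act.sh, hw22, sh_smul, ← pow_mul]
  refine br D hVW hmW hne hxu hxh ?_ ?_ hWn
  · -- the weight 32
    obtain ⟨lam, hlam⟩ := exists_prim (k := k) ι 0 3
    rw [pow_zero, pow_one] at hlam
    have h1 := D.inv (h lam) x x
    rw [hxh, map_smul, map_smul, LinearMap.smul_apply, smul_eq_mul, smul_eq_mul] at h1
    have h2 : (ι lam ^ 32 - 1) * PV k x x = 0 := by linear_combination h1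
    refine (mul_eq_zero.1 h2).resolve_left (sub_ne_zero.2 fun h3 => ?_)
    have h4 := (hlam.pow_eq_one_iff_dvd 32).1 h3
    have h5 := Nat.le_of_dvd (by norm_num) h4
    have ha : a = 3 := by
      by_contra hne'
      have h6 : 3 ^ 4 ≤ 3 ^ a := Nat.pow_le_pow_right (by norm_num) (by omega)
      rw [C.card] at h5
      omega
    rw [C.card, ha] at h4
    revert h4
    norm_num
  · -- the divided power
    obtain ⟨xl, hxl⟩ := (Lk k).mkQ_surjective (sV C.act w x)
    -- `D_2` of the lowest weight vector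
    have hD : Dm ι ((sV C.act :)) 2 (sV C.act w x) = 0 := by
      obtain ⟨m', -, -, -, -, hmD, -, huniq⟩ := IsV.hw2 ι 3 hVW
      obtain ⟨c, hc⟩ := huniq ⟨x, hmW⟩ fun t => Subtype.ext (hxu t)
      have h1 := hmD 2 (by norm_num) (by omega) (by decide)
      have h2 := Dm_comm ι ((subRep ((sV C.act :)) W hW :)) (sV C.act) W.subtype (fun _ _ => rfl) 2
        (subRep (sV C.act) W hW w (⟨x, hmW⟩ : W))
      rw [hc, map_smul, map_smul, h1, smul_zero, map_zero, ← map_smul, ← hc] at h2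
      exact h2.symm
    have hz0 : tr1 (cr (y 0 2) (y 2 2)) = 0 := by
      refine C.wt_tr ι (c := 12) (fun b => ?_) (by norm_num) (by omega)
      have hb : ι (b : K) ≠ 0 := (map_ne_zero ι).2 b.ne_zero
      rw [C.act.cr, hw22, hy.h 0 (by norm_num) 2 le_rfl, cr_smul_left, cr_smul_right, smul_smul]
      congr 1
      simp only [pow_zero, pow_one, Nat.sub_self, Nat.sub_zero, mul_one, one_mul]
      field_simp
    have hDl : tf (cr (y 0 2) (y 2 2)) ((Dm ι ρ 2 (xl : I27 → k) :)) = 0 := by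
      have h1 := (Dm_comm ι (s0 C.act) ((sV C.act :)) (Lk k).mkQ (fun _ _ => rfl) 2 xl :)
      rw [hxl, hD] at h1
      have h2 : Dm ι (s0 C.act) 2 xl ∈ Lk k := (Submodule.Quotient.mk_eq_zero _).1 h1
      obtain ⟨c, hc⟩ := mem_Lk.1 h2
      have h3 := Dm_comm ι (s0 C.act) ρ (W0 k).subtype (fun _ _ => rfl) 2 xl
      have h4 : Dm ι ρ 2 (xl : I27 → k) = c • u0 k := by
        rw [← hc]
        exact h3.symm
      rw [h4, tf_comm, tf_smul_left, tf_u0, hz0, mul_zero]
    -- the coefficient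
    have hB : tf (cr (y 2 2) (y 2 2)) (xl : I27 → k) = 0 := by
      have e1 : ∀ t : K, tf (cr (y 0 2) (y 2 2)) (ρ (u t) (xl : I27 → k)) =
          tf (cr (y 0 2) (y 2 2)) (xl : I27 → k) - 2 * ι t * tf (cr (y 1 2) (y 2 2)) (xl : I27 → k) +
            ι t ^ 2 * tf (cr (y 2 2) (y 2 2)) (xl : I27 → k) := by
        intro t
        have e2 := C.act.tf (u (-t)) (cr (y 0 2) (y 2 2)) (ρ (u t) (xl : I27 → k))
        have e3 : ρ (u (-t)) (ρ (u t) (xl : I27 → k)) = xl := by
          rw [← Module.End.mul_apply, ← map_mul, ← u_add, neg_add_cancel, u_zero, map_one, Module.End.one_apply]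
        have e4 : ρ (u (-t)) (y 0 2) = y 0 2 + (2 * ι (-t)) • y 1 2 + (ι (-t) ^ 2) • y 2 2 := by
          rw [hy.u 0 (by norm_num) 2 le_rfl]
          simp only [Nat.sub_zero, Nat.sub_self, Finset.sum_range_succ, Finset.sum_range_zero, zero_add, Nat.choose_zero_right,
            Nat.choose_self, Nat.cast_one, pow_zero, pow_one, one_mul, mul_one, one_smul, add_zero]
          norm_num only [Nat.choose, _root_.add_zero, _root_.Nat.cast_ofNat, _root_.map_neg, _root_.mul_neg, _root_.neg_smul, _root_.Even.neg_pow]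
        rw [e3, C.act.cr, hu22, e4, cr_add_left, cr_add_left, cr_smul_left, cr_smul_left, tf_add_left, tf_add_left,
          tf_smul_left, tf_smul_left, map_neg] at e2
        linear_combination -e2
      rw [Dm_apply] at hDl
      have e5 : tf (cr (y 0 2) (y 2 2)) (-∑ t : K, ι t ^ (Fintype.card K - 1 - 2) • ρ (u t) (xl : I27 → k)) =
          -∑ t : K, ι t ^ (Fintype.card K - 1 - 2) * tf (cr (y 0 2) (y 2 2)) (ρ (u t) (xl : I27 → k)) := by
        have e6 : ∀ z : I27 → k, tf (cr (y 0 2) (y 2 2)) z = Cfsg.Agent.R2.GEO.tfB k (cr (y 0 2) (y 2 2)) z := fun _ => rfl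
        rw [e6, map_neg, map_sum]
        congr 1
        exact Finset.sum_congr rfl fun t _ => by rw [map_smul, smul_eq_mul, ← e6]
      rw [e5] at hDl
      have e7 : ∀ t : K, ι t ^ (Fintype.card K - 1 - 2) * tf (cr (y 0 2) (y 2 2)) (ρ (u t) (xl : I27 → k)) =
          ι t ^ (Fintype.card K - 1 - 2) * tf (cr (y 0 2) (y 2 2)) (xl : I27 → k) -
          ι t ^ (Fintype.card K - 1 - 1) * (2 * tf (cr (y 1 2) (y 2 2)) (xl : I27 → k)) +
          ι t ^ (Fintype.card K - 1) * tf (cr (y 2 2) (y 2 2)) (xl : I27 → k) := by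
        intro t
        rw [e1]
        have e8 : ι t ^ (Fintype.card K - 1 - 1) = ι t ^ (Fintype.card K - 1 - 2) * ι t := by
          rw [← pow_succ]
          congr 1
          omega
        have e9 : ι t ^ (Fintype.card K - 1) = ι t ^ (Fintype.card K - 1 - 2) * ι t ^ 2 := by
          rw [← pow_add]
          congr 1
          omega
        rw [e8, e9]
        ring
      rw [Finset.sum_congr rfl fun t _ => e7 t, Finset.sum_add_distrib, Finset.sum_sub_distrib, ← Finset.sum_mul,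
        ← Finset.sum_mul, ← Finset.sum_mul, psum ι (by omega), psum ι (by omega), psum ι (by omega), if_neg (by omega),
        if_neg (by omega), if_pos rfl] at hDl
      linear_combination hDl
    rw [← hxl, hx, PV_mk]
    rw [cr_self, tf_smul_left] at hB
    exact (mul_eq_zero.1 hB).resolve_left (two_ne 3 (by norm_num))

/-- **the adjoint of the highest weight vector** -/
theorem Cx3.sh_top (C : Cx3 K a ρ) (ha3 : 3 ≤ a) (no3 : ∀ i, i < a → ∀ x, TS ι 3 ρ 2 i x → x = 0)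
    (no4 : ∀ i j, i < a → j < a → i ≠ j → ∀ x, TP ι 3 ρ 1 i 1 j x → x = 0) {d : ℕ} (hd : 1 ≤ d) (hd2 : 2 * d ≤ a)
    {y : ℕ → ℕ → I27 → k} (hy : TP ι 3 ρ 2 0 2 d y) (hy0 : y ≠ 0) : sh (y 2 2) = 0 := by
  by_contra hm
  have D := dulV C.act
  have hP := PV_symm (k := k)
  have h25 : Module.finrank k (Vk k) = 25 := finrank_Vk
  have hnum := num1 ha3 hd hd2
  have A : Adm 3 a 2 0 2 d := ⟨by norm_num, by norm_num, by omega, by omega, by omega⟩
  have hcard := C.card
  have h3d : 3 ≤ 3 ^ d := by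
    calc 3 = 3 ^ 1 := by norm_num
      _ ≤ 3 ^ d := Nat.pow_le_pow_right (by norm_num) hd
  obtain ⟨c, hc⟩ : ∃ c, c = 4 + 4 * 3 ^ d := ⟨_, rfl⟩
  have hmh : ∀ b : Kˣ, ρ (h b) (sh (y 2 2)) = ι b ^ c • sh (y 2 2) := fun b => by
    rw [C.act.sh, hy.h 2 le_rfl 2 le_rfl, sh_smul, hc]
    congr 1
    simp only [pow_zero, pow_one, Nat.sub_self, mul_one]
    rw [← pow_mul, ← pow_add, ← pow_mul]
    congr 1
    ring
  have hmu : ∀ t, ρ (u t) (sh (y 2 2)) = sh (y 2 2) := fun t => by rw [C.act.sh, hy.top]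
  have htr := C.wt_tr ι hmh (by omega) (by omega)
  have hm0 : sh (y 2 2) ∈ W0 k := (mem_W0 _).2 htr
  set x := (Lk k).mkQ (⟨sh (y 2 2), hm0⟩ : W0 k) with hx
  have hxu : ∀ t, sV C.act (u t) x = x := fun t => by
    rw [hx, quotRep_mk]
    congr 1
    exact Subtype.ext (hmu t)
  have hxh : ∀ b : Kˣ, sV C.act (h b) x = ι b ^ c • x := fun b => by
    rw [hx, quotRep_mk, ← map_smul]
    congr 1
    exact Subtype.ext (hmh b)
  have hx0 : x ≠ 0 := by
    intro h0
    obtain ⟨e, he⟩ := mem_Lk.1 (((Submodule.Quotient.mk_eq_zero _).1 h0 :))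
    have he' : sh (y 2 2) = e • u0 k := he
    have hne : e ≠ 0 := by
      rintro rfl
      rw [zero_smul] at he'
      exact hm he'
    obtain ⟨lam, hlam⟩ := exists_prim (k := k) ι 0 3
    rw [pow_zero, pow_one] at hlam
    have h1 := hmh lam
    rw [he', map_smul, C.act.u0, smul_smul] at h1
    have h2 : (e - ι lam ^ c * e) • u0 k = 0 := by rw [sub_smul, ← h1, sub_self]
    have h3 := (smul_eq_zero.1 h2).resolve_right u0_ne
    have h4 : ι lam ^ c = 1 := by
      have h5 : e * (ι lam ^ c - 1) = 0 := by linear_combination -h3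
      exact sub_eq_zero.1 ((mul_eq_zero.1 h5).resolve_left hne)
    have h5 := Nat.le_of_dvd (by omega) ((hlam.pow_eq_one_iff_dvd c).1 h4)
    omega
  -- the label `c`
  have hcf : c ∈ (cf (Sy.{u, u, w} ι 3) ((sV C.act :)) :) := by
    obtain ⟨b, hb, hb'⟩ := hw_mem_cf.{u, u, w} (c := c) (ρ := sV C.act) ι 3 hx0 hxu hxh
    have h2 : b < Fintype.card K := by
      rw [hcard]
      exact cf_lt ι 3 C.card _ b hb
    rwa [label_eq ι h2 (by omega) (by omega) (by omega) hb'] at hb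
  have hc12 : 12 ≤ (Bf k c).card := by
    rcases Nat.lt_or_ge d 2 with h | h
    · have : d = 1 := by omega
      rw [hc, this, card_c1]
    · obtain ⟨e, rfl⟩ : ∃ e, d = e + 2 := ⟨d - 2, by omega⟩
      rw [hc, card_c2]
      norm_num
  -- the nine-dimensional submodule
  have hyW := C.tp_W0 A (by norm_num) hy
  have hyV := C.tpV hy hyW
  have hyV0 : (fun s s' => (Lk k).mkQ (⟨y s s', hyW s s'⟩ : W0 k)) ≠ 0 := by
    intro h0
    have h1 := congrFun (congrFun h0 2) 2
    obtain ⟨e, he⟩ := mem_Lk.1 (((Submodule.Quotient.mk_eq_zero _).1 h1 :))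
    have he' : y 2 2 = e • u0 k := he
    have hz : TP ι 3 ρ 2 0 2 d y := hy
    have h2 : ρ w (y 2 2) = y 2 2 := by rw [he', map_smul, C.act.u0]
    have h3 : ∀ t, ρ (u t) (y 0 0) = y 0 0 := by
      intro t
      have h4 := hy.w 2 le_rfl 2 le_rfl
      rw [h2] at h4
      have h5 : y 0 0 = y 2 2 := by
        rw [h4]
        norm_num
      rw [h5, hy.top]
    obtain ⟨hX, hV⟩ := hy.isV C.card A hy0
    obtain ⟨m', -, -, -, -, huniq⟩ := IsV.hw ι 3 hV
    obtain ⟨e1, h6⟩ := huniq ⟨y 0 0, mem_Sp y 0 0⟩ fun t => Subtype.ext (h3 t)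
    have h7 : ρ (h (1 : Kˣ)) (y 0 0) = y 0 0 := by rw [h_one, map_one]; rfl
    -- `y_22` is a scalar : the tuple is trivial
    have h8 := (congrArg (fun v => tr1 v) he')
    obtain ⟨lam, hlam⟩ := exists_prim (k := k) ι 0 3
    rw [pow_zero, pow_one] at hlam
    have h9 := hy.h 2 le_rfl 2 le_rfl lam
    rw [he', map_smul, C.act.u0] at h9
    have h10 : (e - ι lam ^ (2 + 2 * 3 ^ d) * e) • u0 k = 0 := by
      rw [sub_smul, mul_smul, sub_eq_zero]
      refine h9.trans ?_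
      congr 1
      simp only [pow_zero, pow_one, Nat.sub_self, mul_one]
      rw [← pow_mul, ← pow_add]
      congr 1
      ring
    have h11 := (smul_eq_zero.1 h10).resolve_right u0_ne
    have h12 : e * (ι lam ^ (2 + 2 * 3 ^ d) - 1) = 0 := by linear_combination -h11
    rcases mul_eq_zero.1 h12 with h13 | h13
    · rw [h13, zero_smul] at he'
      exact hy0 (hy.zero_of C.card A le_rfl le_rfl he')
    · have h14 := Nat.le_of_dvd (by omega) ((hlam.pow_eq_one_iff_dvd _).1 (sub_eq_zero.1 h13))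
      omega
  obtain ⟨hY, hVY⟩ := hyV.isV C.card A hyV0
  obtain ⟨Y, hYd⟩ : ∃ Y, Y = Sp (k := k) fun s s' => (Lk k).mkQ (⟨y s s', hyW s s'⟩ : W0 k) := ⟨_, rfl⟩
  subst hYd
  have hb9 : (Bf k (2 * 3 ^ 0 + 2 * 3 ^ d)).card = 9 := card22 A.ij A.i A.j k
  have hcb : c ≠ 2 * 3 ^ 0 + 2 * 3 ^ d := by
    intro h0
    rw [h0] at hc12
    omega
  have hYn : (Nd ((PV k :)) (Sp (k := k) fun s s' => (Lk k).mkQ (⟨y s s', hyW s s'⟩ : W0 k)) :) := by
    rcases nd_or D hVY with hn | hn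
    · exact hn
    · exfalso
      have h1 := count_one D hVY (fun x hx y hy => hn hy x hx)
      have h2 := finrank_cf.{u, u, w} ι 3 _ (Vk k) (sV C.act) le_rfl
      have h3 := sum_ge2 (fun b => (Bf k b).card) h1 hcf hcb
      rw [← h2] at h3
      omega
  set Y := Sp (k := k) fun s s' => (Lk k).mkQ (⟨y s s', hyW s s'⟩ : W0 k) with hYd
  have hYf := (IsV.finrank ι hVY :)
  have hr := rank_orth D hY
  have hOi := D.orth_inv hY
  have hO16 : Module.finrank k (orth (PV k) Y) = 16 := by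
    have q1 := hYf.trans hb9
    have q2 := hr
    rw [q1] at q2
    have q3 := q2.trans h25
    omega
  have hOn := nd_orth D hP hYn
  have hcO : c ∈ cf (Sy.{u, u, w} ι 3) ((subRep ((sV C.act :)) (orth (PV k) Y) hOi :)) := by
    rcases mem_compl (hW := hY) (hX := hOi) (nd_compl D hY hYn) hcf with h1 | h1
    · exfalso
      rw [cf_irr (Sy.{u, u, w} ι 3) hVY, Multiset.mem_singleton] at h1
      exact hcb h1
    · exact h1
  rcases Nat.lt_or_ge d 2 with hd' | hd'
  swap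
  · -- `d ≥ 2`
    have hc16 : (Bf k c).card = 16 := by
      obtain ⟨e, rfl⟩ : ∃ e, d = e + 2 := ⟨d - 2, by omega⟩
      rw [hc, card_c2]
    exact (C.no_sixteen ((isV_of_card hcO (hO16.trans hc16.symm) :)) hc16 :)
  · -- `d = 1`
    have hd1 : d = 1 := by omega
    subst hd1
    have hc16 : c = 16 := by omega
    subst hc16
    have hcc : (Bf k 16).card = 12 := card_c1 k
    -- a nondegenerate twelve-dimensional submodule
    have fin : ∀ (W : Submodule k (Vk k)) (hW : ∀ g, ∀ x ∈ W, sV C.act g x ∈ W), W ≤ orth ((PV k :)) Y → Nd (PV k) W →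
        Module.finrank k W = 12 → False := by
      intro W hW hWY hWn hWf
      have hrW := rank_orth D hW
      have hYW : Y ≤ orth (PV k) W := fun y hy w hw => by
        rw [hP]
        exact hWY hw y hy
      have hcW : 16 ∉ cf (Sy.{u, u, w} ι 3) (subRep (sV C.act) (orth (PV k) W) (D.orth_inv hW)) := by
        intro h1
        have h2 := two_factors (mem_cf_of_le ι 3 hVY (D.orth_inv hW) hYW) h1 hcb
        omega
      have hcW' : 16 ∈ cf (Sy.{u, u, w} ι 3) ((subRep ((sV C.act :)) W hW :)) :=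
        (mem_compl (hW := hW) (hX := D.orth_inv hW) (nd_compl D hW hWn) hcf).resolve_right hcW
      have hVW := isV_of_card hcW' (hWf.trans hcc.symm)
      have hxW : x ∈ W := hw_side C.card (hW := hW) (hX := D.orth_inv hW) (nd_compl D hW hWn) hxu hxh (by omega)
        (by norm_num) (by omega) hcW
      exact C.sh_top1 ha3 hy hVW hWn hm0 hxW hx0
    obtain ⟨X, hX, e, hle, hVX⟩ := exists_irr (ι := ι) (p := 3) (hOi :) (by
      intro h0
      rw [h0, finrank_bot] at hO16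
      omega)
    obtain ⟨hXf, he⟩ := C.dims no3 hVX
    rcases he with he | he | he | he
    · have hXn := C.nd_four no4 hVX he
      obtain ⟨h1, h2⟩ := nd_inf D hX hXn hOn hle hP
      exact fin _ ((inf_inv (hOi :) (D.orth_inv hX) :)) inf_le_left h1 (by omega)
    · have h1 := C.nine_uniq no3 hVX hVY he hb9
      have h2 : Y ⊓ orth (PV k) Y = ⊥ := hYn
      rw [h1] at hle
      rw [inf_eq_left.2 hle] at h2
      exact IsV.ne_bot hVY h2
    · exact fin X hX hle (C.nd_twelve hVX he) (by omega)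
    · exact C.no_sixteen hVX he

end Cfsg.Agent.R2.F4P.Th
end

-- part: R2/F4P/Th/SkJ
section
/-!
# S5931, `p = 3`, the skeleton : the coefficients of `y(σ, τ) ^ #` (helper17)

* `uniq2` : polynomial identities over infinite fields;
* `exists_kk` : `y(σ, τ) ^ # = Σ σ^A τ^B k_AB`; the action of `SL(2, K)` on the `k_AB`.
-/

set_option autoImplicit false
set_option linter.unusedSectionVars false
set_option linter.unusedVariables false

namespace Cfsg.Agent.R2.F4P.Th

open Cfsg.Lie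
open Cfsg.Agent.ChevalleyStructure.E6Min.Tables Cfsg.Agent.ChevalleyStructure.E6Min.Basic
open Cfsg.Agent.H952.F4 (sh cr tf tr1 u0)
open Cfsg.Agent.H952.F4.Jord
open Cfsg.Agent.H943.SL2Rel Cfsg.Agent.H943.SL2Mod Cfsg.Agent.R2.H28.SL2 Cfsg.Agent.H943.RepAdd
open Cfsg.Agent.R2.F4L
open Cfsg.Agent.R2.GEO (crB crB_apply)

universe u v w

section Poly

variable {k : Type u} [Field k] [Infinite k]

theorem uniq1 {J : Type*} {N : ℕ} {c : ℕ → J → k} (h : ∀ σ : k, σ ≠ 0 → ∑ A ∈ Finset.range N, σ ^ A • c A = 0) :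
    ∀ A < N, c A = 0 := by
  intro A hA
  funext x
  let f : Polynomial k := ∑ A ∈ Finset.range N, Polynomial.monomial A (c A x)
  have h1 : Polynomial.X * f = 0 := by
    refine Polynomial.funext fun σ => ?_
    rw [Polynomial.eval_mul, Polynomial.eval_X, Polynomial.eval_zero]
    by_cases hσ : σ = 0
    · rw [hσ, zero_mul]
    · have h2 := congrFun (h σ hσ) x
      rw [Finset.sum_apply] at h2
      rw [Polynomial.eval_finsetSum]
      have h3 : ∑ i ∈ Finset.range N, Polynomial.eval σ (Polynomial.monomial i (c i x)) = 0 := by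
        refine Eq.trans (Finset.sum_congr rfl fun i _ => ?_) h2
        rw [Polynomial.eval_monomial, mul_comm]
        rfl
      rw [h3, mul_zero]
  have h2 : f = 0 := (mul_eq_zero.1 h1).resolve_left Polynomial.X_ne_zero
  have h3 : f.coeff A = c A x := by
    rw [Polynomial.finsetSum_coeff, Finset.sum_eq_single A]
    · rw [Polynomial.coeff_monomial, if_pos rfl]
    · intro b _ hb
      rw [Polynomial.coeff_monomial, if_neg hb]
    · intro h0
      exact absurd (Finset.mem_range.2 hA) h0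
  rw [← h3, h2, Polynomial.coeff_zero]
  rfl

theorem uniq2 {J : Type*} {N M : ℕ} {c : ℕ → ℕ → J → k} (h : ∀ σ τ : k, σ ≠ 0 → τ ≠ 0 →
    ∑ A ∈ Finset.range N, ∑ B ∈ Finset.range M, (σ ^ A * τ ^ B) • c A B = 0) : ∀ A < N, ∀ B < M, c A B = 0 := by
  intro A hA
  refine uniq1 fun τ hτ => ?_
  refine uniq1 (c := fun A => ∑ B ∈ Finset.range M, τ ^ B • c A B) (fun σ hσ => ?_) A hA
  rw [← h σ τ hσ hτ]
  refine Finset.sum_congr rfl fun A _ => ?_
  rw [Finset.smul_sum]
  exact Finset.sum_congr rfl fun B _ => smul_smul _ _ _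

end Poly

section KK

variable {k : Type u} [Field k]

theorem yy_eq (y : ℕ → ℕ → I27 → k) (σ τ : k) : yy y σ τ =
    ∑ x ∈ Finset.range 3 ×ˢ Finset.range 3, (σ ^ x.1 * τ ^ x.2) • ((((2 : ℕ).choose x.1 : k) * ((2 : ℕ).choose x.2 : k)) • y x.1 x.2) := by
  rw [Finset.sum_product]
  simp only [Finset.sum_range_succ, Finset.sum_range_zero, zero_add, Nat.choose_zero_right, Nat.choose_self, Nat.cast_one,
    pow_zero, pow_one, one_mul, mul_one, one_smul]
  unfold yy
  norm_num only [Nat.choose, _root_.smul_add, _root_.add_zero, _root_.Nat.cast_ofNat]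
  module

/-- **the coefficients** -/
theorem exists_kk (h2 : (2 : k) ≠ 0) (y : ℕ → ℕ → I27 → k) : ∃ kk : ℕ → ℕ → I27 → k, ∀ σ τ : k,
    sh (yy y σ τ) = ∑ A ∈ Finset.range 5, ∑ B ∈ Finset.range 5, (σ ^ A * τ ^ B) • kk A B := by
  let S : Finset (ℕ × ℕ) := Finset.range 3 ×ˢ Finset.range 3
  let v : ℕ × ℕ → I27 → k := fun x => (((2 : ℕ).choose x.1 : k) * ((2 : ℕ).choose x.2 : k)) • y x.1 x.2
  refine ⟨fun A B => (2 : k)⁻¹ • ∑ x ∈ S, ∑ x' ∈ S, if x.1 + x'.1 = A ∧ x.2 + x'.2 = B then cr (v x) (v x') else 0,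
    fun σ τ => ?_⟩
  have e1 : yy y σ τ = ∑ x ∈ S, (σ ^ x.1 * τ ^ x.2) • v x := yy_eq y σ τ
  have e2 : sh (yy y σ τ) = (2 : k)⁻¹ • cr (yy y σ τ) (yy y σ τ) := by
    rw [cr_self, smul_smul, inv_mul_cancel₀ h2, one_smul]
  have e3 : cr (yy y σ τ) (yy y σ τ) = ∑ x ∈ S, ∑ x' ∈ S, (σ ^ (x.1 + x'.1) * τ ^ (x.2 + x'.2)) • cr (v x) (v x') := by
    rw [e1, ← crB_apply, LinearMap.map_sum₂]
    refine Finset.sum_congr rfl fun x _ => ?_
    rw [map_sum]
    refine Finset.sum_congr rfl fun x' _ => ?_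
    rw [crB_apply, cr_smul_left, cr_smul_right, smul_smul]
    congr 1
    ring
  have e4 : ∀ x ∈ S, ∀ x' ∈ S, ∑ A ∈ Finset.range 5, ∑ B ∈ Finset.range 5,
      (σ ^ A * τ ^ B) • (if x.1 + x'.1 = A ∧ x.2 + x'.2 = B then cr (v x) (v x') else 0) =
      (σ ^ (x.1 + x'.1) * τ ^ (x.2 + x'.2)) • cr (v x) (v x') := by
    intro x hx x' hx'
    rw [Finset.mem_product, Finset.mem_range, Finset.mem_range] at hx hx'
    rw [Finset.sum_eq_single (x.1 + x'.1), Finset.sum_eq_single (x.2 + x'.2), if_pos ⟨rfl, rfl⟩]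
    · intro B _ hB
      rw [if_neg (fun h => hB h.2.symm), smul_zero]
    · intro h
      exact absurd (Finset.mem_range.2 (by omega)) h
    · intro A _ hA
      refine Finset.sum_eq_zero fun B _ => ?_
      rw [if_neg (fun h => hA h.1.symm), smul_zero]
    · intro h
      exact absurd (Finset.mem_range.2 (by omega)) h
  rw [e2, e3]
  calc (2 : k)⁻¹ • ∑ x ∈ S, ∑ x' ∈ S, (σ ^ (x.1 + x'.1) * τ ^ (x.2 + x'.2)) • cr (v x) (v x')
      = (2 : k)⁻¹ • ∑ x ∈ S, ∑ x' ∈ S, ∑ A ∈ Finset.range 5, ∑ B ∈ Finset.range 5,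
        (σ ^ A * τ ^ B) • (if x.1 + x'.1 = A ∧ x.2 + x'.2 = B then cr (v x) (v x') else 0) := by
        (with_reducible congr 1)
        exact Finset.sum_congr rfl fun x hx => Finset.sum_congr rfl fun x' hx' => (e4 x hx x' hx').symm
    _ = (2 : k)⁻¹ • ∑ A ∈ Finset.range 5, ∑ B ∈ Finset.range 5, ∑ x ∈ S, ∑ x' ∈ S,
        (σ ^ A * τ ^ B) • (if x.1 + x'.1 = A ∧ x.2 + x'.2 = B then cr (v x) (v x') else 0) := by
        (with_reducible congr 1)
        calc _ = ∑ x ∈ S, ∑ A ∈ Finset.range 5, ∑ B ∈ Finset.range 5, ∑ x' ∈ S,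
              (σ ^ A * τ ^ B) • (if x.1 + x'.1 = A ∧ x.2 + x'.2 = B then cr (v x) (v x') else 0) := by
              refine Finset.sum_congr rfl fun x _ => ?_
              rw [Finset.sum_comm]
              refine Finset.sum_congr rfl fun A _ => ?_
              rw [Finset.sum_comm]
          _ = _ := by
              rw [Finset.sum_comm]
              refine Finset.sum_congr rfl fun A _ => ?_
              rw [Finset.sum_comm]
    _ = _ := by
        rw [Finset.smul_sum]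
        refine Finset.sum_congr rfl fun A _ => ?_
        rw [Finset.smul_sum]
        refine Finset.sum_congr rfl fun B _ => ?_
        rw [smul_comm (σ ^ A * τ ^ B) ((2 : k)⁻¹)]
        congr 1
        rw [Finset.smul_sum]
        refine Finset.sum_congr rfl fun x _ => ?_
        rw [Finset.smul_sum]

end KK

section Act

variable {k : Type u} [Field k] [DecidableEq k] {K : Type w} [Field K] [Fintype K] [DecidableEq K] {ι : K →+* k}
variable [CharP k 3] [CharP K 3]
variable {ρ : Representation k (Matrix.SpecialLinearGroup (Fin 2) K) (I27 → k)} {i j : ℕ} {y : ℕ → ℕ → I27 → k}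

theorem yy_u (hy : TP ι 3 ρ 2 i 2 j y) (t : K) (σ τ : k) :
    ρ (u t) (yy y σ τ) = yy y (σ + ι t ^ 3 ^ i) (τ + ι t ^ 3 ^ j) := by
  unfold yy
  simp only [map_add, map_smul]
  rw [hy.u 0 (by norm_num) 0 (by norm_num), hy.u 1 (by norm_num) 0 (by norm_num), hy.u 2 le_rfl 0 (by norm_num),
    hy.u 0 (by norm_num) 1 (by norm_num), hy.u 1 (by norm_num) 1 (by norm_num), hy.u 2 le_rfl 1 (by norm_num),
    hy.u 0 (by norm_num) 2 le_rfl, hy.u 1 (by norm_num) 2 le_rfl, hy.u 2 le_rfl 2 le_rfl]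
  generalize ι t ^ 3 ^ i = s
  generalize ι t ^ 3 ^ j = r
  norm_num only [Finset.sum_range_succ, Nat.choose, _root_.zero_add, _root_.Finset.range_one, _root_.Finset.sum_singleton, _root_.Nat.cast_one, _root_.pow_zero, _root_.mul_one, _root_.add_zero, _root_.Nat.cast_ofNat, _root_.pow_one, _root_.one_mul, _root_.one_smul, _root_.smul_add]
  module

theorem yy_h (hy : TP ι 3 ρ 2 i 2 j y) (b : Kˣ) (σ τ : k) :
    ρ (h b) (yy y σ τ) = (((ι b ^ 3 ^ i)⁻¹ ^ 2) * ((ι b ^ 3 ^ j)⁻¹ ^ 2)) •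
      yy y ((ι b ^ 3 ^ i) ^ 2 * σ) ((ι b ^ 3 ^ j) ^ 2 * τ) := by
  have hb : ι (b : K) ≠ 0 := (map_ne_zero ι).2 b.ne_zero
  have h1 : ι (b : K) ^ 3 ^ i ≠ 0 := pow_ne_zero _ hb
  have h2 : ι (b : K) ^ 3 ^ j ≠ 0 := pow_ne_zero _ hb
  unfold yy
  simp only [map_add, map_smul]
  rw [hy.h 0 (by norm_num) 0 (by norm_num), hy.h 1 (by norm_num) 0 (by norm_num), hy.h 2 le_rfl 0 (by norm_num),
    hy.h 0 (by norm_num) 1 (by norm_num), hy.h 1 (by norm_num) 1 (by norm_num), hy.h 2 le_rfl 1 (by norm_num),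
    hy.h 0 (by norm_num) 2 le_rfl, hy.h 1 (by norm_num) 2 le_rfl, hy.h 2 le_rfl 2 le_rfl]
  generalize ι (b : K) ^ 3 ^ i = s at h1 ⊢
  generalize ι (b : K) ^ 3 ^ j = r at h2 ⊢
  norm_num only [_root_.pow_zero, _root_.inv_pow, _root_.one_mul, _root_.pow_one, _root_.mul_one, _root_.smul_add]
  match_scalars <;> field_simp

theorem yy_w (hy : TP ι 3 ρ 2 i 2 j y) {σ τ : k} (hσ : σ ≠ 0) (hτ : τ ≠ 0) :
    ρ w (yy y σ τ) = (σ ^ 2 * τ ^ 2) • yy y (-σ⁻¹) (-τ⁻¹) := by
  unfold yy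
  simp only [map_add, map_smul]
  rw [hy.w 0 (by norm_num) 0 (by norm_num), hy.w 1 (by norm_num) 0 (by norm_num), hy.w 2 le_rfl 0 (by norm_num),
    hy.w 0 (by norm_num) 1 (by norm_num), hy.w 1 (by norm_num) 1 (by norm_num), hy.w 2 le_rfl 1 (by norm_num),
    hy.w 0 (by norm_num) 2 le_rfl, hy.w 1 (by norm_num) 2 le_rfl, hy.w 2 le_rfl 2 le_rfl]
  norm_num only [_root_.one_smul, _root_.neg_smul, _root_.smul_neg, _root_.smul_add, _root_.mul_neg, _root_.Even.neg_pow, _root_.inv_pow, _root_.neg_neg]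
  match_scalars <;> field_simp

end Act

end Cfsg.Agent.R2.F4P.Th
end

-- part: R2/F4P/Th/SkK
section
/-!
# S5931, `p = 3`, the skeleton : the coefficients of `y(σ, τ) ^ #`, II (helper17)

* `KKa`, `kk_act` : the action of `SL(2, K)` on the `k_AB`;
* `sh_yy` : `y(σ, τ) ^ # = 0` if `y_22 ^ # = 0`, `q > 9`.
-/

set_option autoImplicit false
set_option linter.unusedSectionVars false
set_option linter.unusedVariables false

namespace Cfsg.Agent.R2.F4P.Th

open Cfsg.Lie
open Cfsg.Agent.ChevalleyStructure.E6Min.Tables Cfsg.Agent.ChevalleyStructure.E6Min.Basic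
open Cfsg.Agent.H952.F4 (sh cr tf tr1 u0)
open Cfsg.Agent.H952.F4.Jord
open Cfsg.Agent.H943.SL2Rel Cfsg.Agent.H943.SL2Mod Cfsg.Agent.R2.H28.SL2 Cfsg.Agent.H943.RepAdd
open Cfsg.Agent.R2.F4L
open Cfsg.Agent.R2.GEO (crB crB_apply)

universe u v w

theorem swap4 {M : Type*} [AddCommMonoid M] (s t s' t' : Finset ℕ) (F : ℕ → ℕ → ℕ → ℕ → M) :
    ∑ A ∈ s, ∑ B ∈ t, ∑ A' ∈ s', ∑ B' ∈ t', F A B A' B' = ∑ A' ∈ s', ∑ B' ∈ t', ∑ A ∈ s, ∑ B ∈ t, F A B A' B' := by
  calc _ = ∑ A ∈ s, ∑ A' ∈ s', ∑ B' ∈ t', ∑ B ∈ t, F A B A' B' := by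
        refine Finset.sum_congr rfl fun A _ => ?_
        rw [Finset.sum_comm]
        refine Finset.sum_congr rfl fun A' _ => ?_
        rw [Finset.sum_comm]
    _ = _ := by
        rw [Finset.sum_comm]
        refine Finset.sum_congr rfl fun A' _ => ?_
        rw [Finset.sum_comm]

theorem binom5 {k : Type*} [Field k] (x s : k) {n : ℕ} (hn : n < 5) :
    (x + s) ^ n = ∑ A ∈ Finset.range 5, x ^ A * ((n.choose A : k) * s ^ (n - A)) := by
  interval_cases n <;> norm_num only [Finset.sum_range_succ, Nat.choose, _root_.pow_zero, _root_.zero_tsub, _root_.mul_one, _root_.Finset.range_one, _root_.Finset.sum_singleton, _root_.Nat.cast_one, _root_.pow_one, _root_.Nat.cast_zero, _root_.MulZeroClass.mul_zero, _root_.add_zero, _root_.one_mul, _root_.Nat.cast_ofNat] <;> ring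

theorem refl5 {k : Type*} [Field k] {x : k} (hx : x ≠ 0) {n : ℕ} (hn : n < 5) :
    (x ^ 2) ^ 2 * (-x⁻¹) ^ n = (-1) ^ n * x ^ (4 - n) := by
  interval_cases n <;> norm_num only [_root_.pow_zero, _root_.mul_one, _root_.one_mul, _root_.pow_one, _root_.mul_neg, _root_.neg_mul, _root_.neg_inj, _root_.Even.neg_pow, _root_.inv_pow] <;> field_simp

section Act

variable {k : Type u} [Field k] [DecidableEq k] {K : Type w} [Field K] [Fintype K] [DecidableEq K]

/-- the action of `SL(2, K)` on the coefficients -/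
structure KKa (ι : K →+* k) (ρ : Representation k (Matrix.SpecialLinearGroup (Fin 2) K) (I27 → k)) (i j : ℕ)
    (kk : ℕ → ℕ → I27 → k) : Prop where
  u : ∀ (t : K), ∀ A < 5, ∀ B < 5, ρ (u t) (kk A B) = ∑ A' ∈ Finset.range 5, ∑ B' ∈ Finset.range 5,
    (((A'.choose A : k) * (ι t ^ 3 ^ i) ^ (A' - A)) * ((B'.choose B : k) * (ι t ^ 3 ^ j) ^ (B' - B))) • kk A' B'
  h : ∀ (b : Kˣ), ∀ A < 5, ∀ B < 5, ρ (h b) (kk A B) =
    (((((ι b ^ 3 ^ i)⁻¹ ^ 2) * ((ι b ^ 3 ^ j)⁻¹ ^ 2)) ^ 2) * (((ι b ^ 3 ^ i) ^ 2) ^ A * ((ι b ^ 3 ^ j) ^ 2) ^ B)) • kk A B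
  w : ∀ A < 5, ∀ B < 5, ρ w (kk A B) = ((-1 : k) ^ (4 - A) * (-1 : k) ^ (4 - B)) • kk (4 - A) (4 - B)

variable {ι : K →+* k} [CharP k 3] [CharP K 3] [Infinite k]
variable {ρ : Representation k (Matrix.SpecialLinearGroup (Fin 2) K) (I27 → k)} {i j : ℕ} {y : ℕ → ℕ → I27 → k}
variable {kk : ℕ → ℕ → I27 → k}

theorem kk_act (H : Act ρ) (hy : TP ι 3 ρ 2 i 2 j y) (hk : ∀ σ τ : k,
    sh (yy y σ τ) = ∑ A ∈ Finset.range 5, ∑ B ∈ Finset.range 5, (σ ^ A * τ ^ B) • kk A B) : KKa ι ρ i j kk where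
  u := by
    intro t
    have key : ∀ A < 5, ∀ B < 5, ρ (Cfsg.Agent.H943.SL2Rel.u t) (kk A B) - ∑ A' ∈ Finset.range 5, ∑ B' ∈ Finset.range 5,
        (((A'.choose A : k) * (ι t ^ 3 ^ i) ^ (A' - A)) * ((B'.choose B : k) * (ι t ^ 3 ^ j) ^ (B' - B))) • kk A' B' = 0 := by
      refine uniq2 fun σ τ _ _ => ?_
      have e1 := congrArg (ρ (Cfsg.Agent.H943.SL2Rel.u t)) (hk σ τ)
      rw [H.sh, yy_u hy, hk, map_sum] at e1
      have e2 : ∑ A ∈ Finset.range 5, ρ (Cfsg.Agent.H943.SL2Rel.u t) (∑ B ∈ Finset.range 5, (σ ^ A * τ ^ B) • kk A B) =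
          ∑ A ∈ Finset.range 5, ∑ B ∈ Finset.range 5, (σ ^ A * τ ^ B) • ρ (Cfsg.Agent.H943.SL2Rel.u t) (kk A B) := by
        refine Finset.sum_congr rfl fun A _ => ?_
        rw [map_sum]
        exact Finset.sum_congr rfl fun B _ => map_smul _ _ _
      rw [e2] at e1
      have e3 : ∑ A ∈ Finset.range 5, ∑ B ∈ Finset.range 5,
          ((σ + ι t ^ 3 ^ i) ^ A * (τ + ι t ^ 3 ^ j) ^ B) • kk A B =
          ∑ A ∈ Finset.range 5, ∑ B ∈ Finset.range 5, (σ ^ A * τ ^ B) • ∑ A' ∈ Finset.range 5, ∑ B' ∈ Finset.range 5,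
          (((A'.choose A : k) * (ι t ^ 3 ^ i) ^ (A' - A)) * ((B'.choose B : k) * (ι t ^ 3 ^ j) ^ (B' - B))) • kk A' B' := by
        calc _ = ∑ A' ∈ Finset.range 5, ∑ B' ∈ Finset.range 5, ∑ A ∈ Finset.range 5, ∑ B ∈ Finset.range 5,
              ((σ ^ A * ((A'.choose A : k) * (ι t ^ 3 ^ i) ^ (A' - A))) *
                (τ ^ B * ((B'.choose B : k) * (ι t ^ 3 ^ j) ^ (B' - B)))) • kk A' B' := by
              refine Finset.sum_congr rfl fun A' hA' => Finset.sum_congr rfl fun B' hB' => ?_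
              rw [binom5 σ _ (Finset.mem_range.1 hA'), binom5 τ _ (Finset.mem_range.1 hB'), Finset.sum_mul_sum,
                Finset.sum_smul]
              exact Finset.sum_congr rfl fun A _ => Finset.sum_smul
          _ = ∑ A ∈ Finset.range 5, ∑ B ∈ Finset.range 5, ∑ A' ∈ Finset.range 5, ∑ B' ∈ Finset.range 5,
              ((σ ^ A * ((A'.choose A : k) * (ι t ^ 3 ^ i) ^ (A' - A))) *
                (τ ^ B * ((B'.choose B : k) * (ι t ^ 3 ^ j) ^ (B' - B)))) • kk A' B' := (swap4 _ _ _ _ _).symm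
          _ = _ := by
              refine Finset.sum_congr rfl fun A _ => Finset.sum_congr rfl fun B _ => ?_
              rw [Finset.smul_sum]
              refine Finset.sum_congr rfl fun A' _ => ?_
              rw [Finset.smul_sum]
              refine Finset.sum_congr rfl fun B' _ => ?_
              rw [smul_smul]
              congr 1
              ring
      rw [e3] at e1
      simp only [smul_sub, Finset.sum_sub_distrib]
      rw [← e1, sub_self]
    intro A hA B hB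
    exact sub_eq_zero.1 (key A hA B hB)
  h := by
    intro b
    have key : ∀ A < 5, ∀ B < 5, ρ (Cfsg.Agent.H943.SL2Rel.h b) (kk A B) -
        (((((ι b ^ 3 ^ i)⁻¹ ^ 2) * ((ι b ^ 3 ^ j)⁻¹ ^ 2)) ^ 2) * (((ι b ^ 3 ^ i) ^ 2) ^ A * ((ι b ^ 3 ^ j) ^ 2) ^ B)) •
          kk A B = 0 := by
      refine uniq2 fun σ τ _ _ => ?_
      have e1 := congrArg (ρ (Cfsg.Agent.H943.SL2Rel.h b)) (hk σ τ)
      rw [H.sh, yy_h hy, sh_smul, hk, map_sum] at e1
      have e2 : ∑ A ∈ Finset.range 5, ρ (Cfsg.Agent.H943.SL2Rel.h b) (∑ B ∈ Finset.range 5, (σ ^ A * τ ^ B) • kk A B) =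
          ∑ A ∈ Finset.range 5, ∑ B ∈ Finset.range 5, (σ ^ A * τ ^ B) • ρ (Cfsg.Agent.H943.SL2Rel.h b) (kk A B) := by
        refine Finset.sum_congr rfl fun A _ => ?_
        rw [map_sum]
        exact Finset.sum_congr rfl fun B _ => map_smul _ _ _
      rw [e2] at e1
      simp only [smul_sub, Finset.sum_sub_distrib]
      rw [← e1, sub_eq_zero, Finset.smul_sum]
      refine Finset.sum_congr rfl fun A _ => ?_
      rw [Finset.smul_sum]
      refine Finset.sum_congr rfl fun B _ => ?_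
      rw [smul_smul, smul_smul]
      congr 1
      rw [mul_pow _ σ, mul_pow _ τ]
      ring
    intro A hA B hB
    exact sub_eq_zero.1 (key A hA B hB)
  w := by
    have key : ∀ A < 5, ∀ B < 5, ρ Cfsg.Agent.H943.SL2Rel.w (kk A B) -
        ((-1 : k) ^ (4 - A) * (-1 : k) ^ (4 - B)) • kk (4 - A) (4 - B) = 0 := by
      refine uniq2 fun σ τ hσ hτ => ?_
      have e1 := congrArg (ρ Cfsg.Agent.H943.SL2Rel.w) (hk σ τ)
      rw [H.sh, yy_w hy hσ hτ, sh_smul, hk, map_sum] at e1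
      have e2 : ∑ A ∈ Finset.range 5, ρ Cfsg.Agent.H943.SL2Rel.w (∑ B ∈ Finset.range 5, (σ ^ A * τ ^ B) • kk A B) =
          ∑ A ∈ Finset.range 5, ∑ B ∈ Finset.range 5, (σ ^ A * τ ^ B) • ρ Cfsg.Agent.H943.SL2Rel.w (kk A B) := by
        refine Finset.sum_congr rfl fun A _ => ?_
        rw [map_sum]
        exact Finset.sum_congr rfl fun B _ => map_smul _ _ _
      rw [e2] at e1
      simp only [smul_sub, Finset.sum_sub_distrib]
      rw [← e1, sub_eq_zero, Finset.smul_sum]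
      rw [← Finset.sum_range_reflect (fun A => ∑ B ∈ Finset.range 5, (σ ^ A * τ ^ B) •
        ((-1 : k) ^ (4 - A) * (-1 : k) ^ (4 - B)) • kk (4 - A) (4 - B)) 5]
      refine Finset.sum_congr rfl fun A hA => ?_
      rw [Finset.mem_range] at hA
      rw [Finset.smul_sum]
      rw [← Finset.sum_range_reflect (fun B => (σ ^ (5 - 1 - A) * τ ^ B) •
        ((-1 : k) ^ (4 - (5 - 1 - A)) * (-1 : k) ^ (4 - B)) • kk (4 - (5 - 1 - A)) (4 - B)) 5]
      refine Finset.sum_congr rfl fun B hB => ?_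
      rw [Finset.mem_range] at hB
      have f1 : 4 - (5 - 1 - A) = A := by omega
      have f2 : 4 - (5 - 1 - B) = B := by omega
      have f3 : 5 - 1 - A = 4 - A := rfl
      have f4 : 5 - 1 - B = 4 - B := rfl
      rw [f1, f2, f3, f4, smul_smul, smul_smul]
      congr 1
      have g1 := refl5 hσ hA
      have g2 := refl5 hτ hB
      calc (σ ^ 2 * τ ^ 2) ^ 2 * ((-σ⁻¹) ^ A * (-τ⁻¹) ^ B) = ((σ ^ 2) ^ 2 * (-σ⁻¹) ^ A) * ((τ ^ 2) ^ 2 * (-τ⁻¹) ^ B) := by ring
        _ = _ := by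
          rw [g1, g2]
          ring
    intro A hA B hB
    exact sub_eq_zero.1 (key A hA B hB)

end Act

end Cfsg.Agent.R2.F4P.Th
end

-- part: R2/F4P/Th/SkM
section
/-!
# S5931, `p = 3`, the skeleton : the coefficients of `y(σ, τ) ^ #`, III (helper17)

* `sh_yy` : `y(σ, τ) ^ # = 0` if `y_22 ^ # = 0`, `q > 9`.
-/

set_option autoImplicit false
set_option linter.unusedSectionVars false
set_option linter.unusedVariables false

namespace Cfsg.Agent.R2.F4P.Th

open Cfsg.Lie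
open Cfsg.Agent.ChevalleyStructure.E6Min.Tables Cfsg.Agent.ChevalleyStructure.E6Min.Basic
open Cfsg.Agent.H952.F4 (sh cr tf tr1 u0)
open Cfsg.Agent.H952.F4.Jord
open Cfsg.Agent.H943.SL2Rel Cfsg.Agent.H943.SL2Mod Cfsg.Agent.R2.H28.SL2 Cfsg.Agent.H943.RepAdd
open Cfsg.Agent.R2.F4L

universe u v w

variable {k : Type u} [Field k] [DecidableEq k] {K : Type w} [Field K] [Fintype K] [DecidableEq K]
variable {ι : K →+* k} [CharP k 3] [CharP K 3] [IsAlgClosed k] {a : ℕ}
variable {ρ : Representation k (Matrix.SpecialLinearGroup (Fin 2) K) (I27 → k)}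
variable {kk : ℕ → ℕ → I27 → k}

/-- the relation on the curve -/
theorem curve (H : Act ρ) {d : ℕ} {y : ℕ → ℕ → I27 → k} (hy : TP ι 3 ρ 2 0 2 d y) (h0 : sh (y 2 2) = 0)
    (hk : ∀ σ τ : k, sh (yy y σ τ) = ∑ A ∈ Finset.range 5, ∑ B ∈ Finset.range 5, (σ ^ A * τ ^ B) • kk A B) (t : K) :
    ∑ x ∈ Finset.range 5 ×ˢ Finset.range 5, (ι t ^ (x.1 + 3 ^ d * x.2)) • kk x.1 x.2 = 0 := by
  have e1 : sh (y 0 0) = 0 := by
    have e2 := hy.w 2 le_rfl 2 le_rfl
    norm_num at e2
    rw [← e2, ← H.sh, h0, map_zero]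
  have e3 : yy y 0 0 = y 0 0 := by
    unfold yy
    simp
  have e4 := yy_u hy t 0 0
  rw [e3, zero_add, zero_add] at e4
  have e5 : sh (yy y (ι t ^ 3 ^ 0) (ι t ^ 3 ^ d)) = 0 := by
    rw [← e4, ← H.sh, e1, map_zero]
  rw [hk] at e5
  rw [Finset.sum_product, ← e5]
  refine Finset.sum_congr rfl fun A _ => Finset.sum_congr rfl fun B _ => ?_
  rw [pow_add, pow_zero, pow_one, ← pow_mul]

/-- `d ≥ 2` -/
theorem kk_two (hcard : Fintype.card K = 3 ^ a) {d : ℕ} (hd : 2 ≤ d) (hnum : 4 + 4 * 3 ^ d < 3 ^ a - 1)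
    (h : ∀ t : K, ∑ x ∈ Finset.range 5 ×ˢ Finset.range 5, (ι t ^ (x.1 + 3 ^ d * x.2)) • kk x.1 x.2 = 0) :
    ∀ A < 5, ∀ B < 5, kk A B = 0 := by
  have h9 : 9 ≤ 3 ^ d := by
    calc 9 = 3 ^ 2 := by norm_num
      _ ≤ 3 ^ d := Nat.pow_le_pow_right (by norm_num) hd
  have h1 := polyE (ι := ι) 3 (Finset.range 5 ×ˢ Finset.range 5) (fun x => x.1 + 3 ^ d * x.2) (fun x => kk x.1 x.2)
    (fun x hx => by
      rw [Finset.mem_product, Finset.mem_range, Finset.mem_range] at hx
      have h2 : 3 ^ d * x.2 ≤ 3 ^ d * 4 := Nat.mul_le_mul_left _ (by omega)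
      rw [hcard]
      show x.1 + 3 ^ d * x.2 < 3 ^ a
      omega) (fun x hx z hz hxz => by
      rw [Finset.mem_product, Finset.mem_range, Finset.mem_range] at hx hz
      have h3 : x.1 + 3 ^ d * x.2 = z.1 + 3 ^ d * z.2 := hxz
      have h4 : x.1 = z.1 := by
        have := congrArg (· % 3 ^ d) h3
        simp only [Nat.add_mul_mod_self_left] at this
        rwa [Nat.mod_eq_of_lt (by omega), Nat.mod_eq_of_lt (by omega)] at this
      refine Prod.ext h4 ?_
      rw [h4] at h3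
      exact Nat.eq_of_mul_eq_mul_left (by omega) (Nat.add_left_cancel h3)) h
  intro A hA B hB
  exact h1 (A, B) (Finset.mem_product.2 ⟨Finset.mem_range.2 hA, Finset.mem_range.2 hB⟩)

omit [DecidableEq k] [IsAlgClosed k] in
theorem four_one (k : Type u) [Field k] [CharP k 3] : (4 : k) = 1 := by linear_combination three_zero k

omit [DecidableEq k] [IsAlgClosed k] in
theorem six_zero (k : Type u) [Field k] [CharP k 3] : (6 : k) = 0 := by linear_combination 2 * three_zero k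

/-- `d = 1` -/
theorem kk_one (hcard : Fintype.card K = 3 ^ a) (ha3 : 3 ≤ a) (L : KKa ι ρ 0 1 kk)
    (no4 : ∀ i j, i < a → j < a → i ≠ j → ∀ x, TP ι 3 ρ 1 i 1 j x → x = 0)
    (h : ∀ t : K, ∑ x ∈ Finset.range 5 ×ˢ Finset.range 5, (ι t ^ (x.1 + 3 ^ 1 * x.2)) • kk x.1 x.2 = 0) :
    ∀ A < 5, ∀ B < 5, kk A B = 0 := by
  have h27 : 27 ≤ Fintype.card K := by
    rw [hcard]
    exact (by norm_num : 27 = 3 ^ 3) ▸ Nat.pow_le_pow_right (by norm_num) ha3
  have rel : ∀ n, ∑ x ∈ Finset.range 5 ×ˢ Finset.range 5 with x.1 + 3 ^ 1 * x.2 = n, kk x.1 x.2 = 0 :=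
    polyF (ι := ι) 3 (Finset.range 5 ×ˢ Finset.range 5) (fun x => x.1 + 3 ^ 1 * x.2) (fun x => kk x.1 x.2)
      (fun x hx => by
        rw [Finset.mem_product, Finset.mem_range, Finset.mem_range] at hx
        show x.1 + 3 ^ 1 * x.2 < _
        omega) h
  have ev : ∀ (n : ℕ) (s : Finset (ℕ × ℕ)), (Finset.range 5 ×ˢ Finset.range 5).filter (fun x : ℕ × ℕ => x.1 + 3 ^ 1 * x.2 = n) = s →
      ∑ x ∈ s, kk x.1 x.2 = 0 := fun n s hs => by rw [← hs]; exact rel n
  have r0 : kk 0 0 = 0 := by simpa using ev 0 {(0, 0)} (by decide)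
  have r1 : kk 1 0 = 0 := by simpa using ev 1 {(1, 0)} (by decide)
  have r2 : kk 2 0 = 0 := by simpa using ev 2 {(2, 0)} (by decide)
  have r3 : kk 3 0 + kk 0 1 = 0 := by simpa only [_root_.Finset.mem_singleton, _root_.Prod.mk.injEq, _root_.OfNat.ofNat_ne_zero, _root_.zero_ne_one, _root_.and_self, _root_.not_false_eq_true, _root_.Finset.sum_insert, _root_.Finset.sum_singleton] using ev 3 {(3, 0), (0, 1)} (by decide)
  have r4 : kk 4 0 + kk 1 1 = 0 := by simpa only [_root_.Finset.mem_singleton, _root_.Prod.mk.injEq, _root_.OfNat.ofNat_ne_one, _root_.zero_ne_one, _root_.and_self, _root_.not_false_eq_true, _root_.Finset.sum_insert, _root_.Finset.sum_singleton] using ev 4 {(4, 0), (1, 1)} (by decide)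
  have r5 : kk 2 1 = 0 := by simpa using ev 5 {(2, 1)} (by decide)
  have r6 : kk 3 1 + kk 0 2 = 0 := by simpa only [_root_.Finset.mem_singleton, _root_.Prod.mk.injEq, _root_.OfNat.ofNat_ne_zero, _root_.OfNat.one_ne_ofNat, _root_.and_self, _root_.not_false_eq_true, _root_.Finset.sum_insert, _root_.Finset.sum_singleton] using ev 6 {(3, 1), (0, 2)} (by decide)
  have r7 : kk 4 1 + kk 1 2 = 0 := by simpa only [_root_.Finset.mem_singleton, _root_.Prod.mk.injEq, _root_.OfNat.ofNat_ne_one, _root_.OfNat.one_ne_ofNat, _root_.and_self, _root_.not_false_eq_true, _root_.Finset.sum_insert, _root_.Finset.sum_singleton] using ev 7 {(4, 1), (1, 2)} (by decide)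
  have r8 : kk 2 2 = 0 := by simpa using ev 8 {(2, 2)} (by decide)
  have r9 : kk 3 2 + kk 0 3 = 0 := by simpa only [_root_.Finset.mem_singleton, _root_.Prod.mk.injEq, _root_.OfNat.ofNat_ne_zero, _root_.Nat.reduceEqDiff, _root_.and_self, _root_.not_false_eq_true, _root_.Finset.sum_insert, _root_.Finset.sum_singleton] using ev 9 {(3, 2), (0, 3)} (by decide)
  have r10 : kk 4 2 + kk 1 3 = 0 := by simpa only [_root_.Finset.mem_singleton, _root_.Prod.mk.injEq, _root_.OfNat.ofNat_ne_one, _root_.Nat.reduceEqDiff, _root_.and_self, _root_.not_false_eq_true, _root_.Finset.sum_insert, _root_.Finset.sum_singleton] using ev 10 {(4, 2), (1, 3)} (by decide)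
  have r11 : kk 2 3 = 0 := by simpa using ev 11 {(2, 3)} (by decide)
  have r12 : kk 3 3 + kk 0 4 = 0 := by simpa only [_root_.Finset.mem_singleton, _root_.Prod.mk.injEq, _root_.OfNat.ofNat_ne_zero, _root_.Nat.reduceEqDiff, _root_.and_self, _root_.not_false_eq_true, _root_.Finset.sum_insert, _root_.Finset.sum_singleton] using ev 12 {(3, 3), (0, 4)} (by decide)
  have r13 : kk 4 3 + kk 1 4 = 0 := by simpa only [_root_.Finset.mem_singleton, _root_.Prod.mk.injEq, _root_.OfNat.ofNat_ne_one, _root_.Nat.reduceEqDiff, _root_.and_self, _root_.not_false_eq_true, _root_.Finset.sum_insert, _root_.Finset.sum_singleton] using ev 13 {(4, 3), (1, 4)} (by decide)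
  have r14 : kk 2 4 = 0 := by simpa using ev 14 {(2, 4)} (by decide)
  have r15 : kk 3 4 = 0 := by simpa using ev 15 {(3, 4)} (by decide)
  have r16 : kk 4 4 = 0 := by simpa using ev 16 {(4, 4)} (by decide)
  have c3 := three_zero k
  have c4 := four_one k
  have c6 := six_zero k
  have c9 : (9 : k) = 0 := by linear_combination 3 * c3
  have c12 : (12 : k) = 0 := by linear_combination 4 * c3
  have c18 : (18 : k) = 0 := by linear_combination 6 * c3
  have c24 : (24 : k) = 0 := by linear_combination 8 * c3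
  have c36 : (36 : k) = 0 := by linear_combination 12 * c3
  have c16 : (16 : k) = 1 := by linear_combination 5 * c3
  have hpow : ∀ t : K, ι t ^ 3 ^ 1 = (ι t ^ 3 ^ 0) ^ 3 := fun t => by rw [← pow_mul]; norm_num
  have hpow2 : ∀ t : K, ι t ^ 3 ^ 2 = (ι t ^ 3 ^ 0) ^ 9 := fun t => by rw [← pow_mul]; norm_num
  -- the first tuple
  have T1 : TP ι 3 ρ 1 0 1 1 (fun s s' => if s ≤ 1 ∧ s' ≤ 1 then kk (s + 3 * s') 2 else 0) := by
    refine ⟨fun s s' hs => if_neg (by omega), fun s hs s' hs' t => ?_, fun s hs s' hs' b => ?_, fun s hs s' hs' => ?_⟩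
    · rw [if_pos ⟨hs, hs'⟩, L.u t _ (by omega) _ (by norm_num), hpow]
      generalize ι t ^ 3 ^ 0 = r
      interval_cases s <;> interval_cases s' <;> norm_num only [Finset.sum_range_succ, Nat.choose, r8, c3, c4, c6, _root_.Nat.choose_zero_right, _root_.Nat.cast_one, _root_.tsub_zero, _root_.one_mul, _root_.Finset.range_one, _root_.Finset.sum_singleton, _root_.Nat.cast_zero, _root_.pow_zero, _root_.mul_one, _root_.MulZeroClass.mul_zero, _root_.zero_smul, _root_.add_zero, _root_.zero_add, _root_.Nat.cast_ofNat, _root_.pow_one, _root_.one_smul, _root_.smul_zero, _root_.smul_ite, _root_.and_true, _root_.ite_true, _root_.MulZeroClass.zero_mul, _root_.add_le_iff_nonpos_right, _root_.nonpos_iff_eq_zero, _root_.Nat.choose_one_right, _root_.Finset.sum_ite_eq', _root_.Finset.mem_singleton] <;>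
        match_scalars <;> ring_nf <;> simp [c3, c4, c6, c9, c12, c18, c24, c36, c16]
    · rw [if_pos ⟨hs, hs'⟩, L.h b _ (by omega) _ (by norm_num)]
      have hb : ι (b : K) ≠ 0 := (map_ne_zero ι).2 b.ne_zero
      have hr : ι (b : K) ^ 3 ^ 0 ≠ 0 := pow_ne_zero _ hb
      rw [hpow]
      generalize ι (b : K) ^ 3 ^ 0 = r at hr ⊢
      congr 1
      interval_cases s <;> interval_cases s' <;> norm_num only [_root_.inv_pow, _root_.pow_zero, _root_.one_mul, _root_.pow_one, _root_.mul_one] <;> field_simp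
    · rw [if_pos ⟨hs, hs'⟩, L.w _ (by omega) _ (by norm_num), if_pos ⟨by omega, by omega⟩]
      interval_cases s <;> interval_cases s' <;> norm_num only [_root_.one_smul, _root_.neg_smul]
  have z1 := no4 0 1 (by omega) (by omega) (by norm_num) _ T1
  have z02 : kk 0 2 = 0 := by simpa using congrFun (congrFun z1 0) 0
  have z12 : kk 1 2 = 0 := by simpa using congrFun (congrFun z1 1) 0
  have z32 : kk 3 2 = 0 := by simpa using congrFun (congrFun z1 0) 1
  have z42 : kk 4 2 = 0 := by simpa using congrFun (congrFun z1 1) 1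
  rw [z02, add_zero] at r6
  rw [z12, add_zero] at r7
  rw [z32, zero_add] at r9
  rw [z42, zero_add] at r10
  -- the second tuple
  have T2 : TP ι 3 ρ 1 0 1 2 (fun s s' => if s ≤ 1 ∧ s' ≤ 1 then kk s (1 + 3 * s') else 0) := by
    refine ⟨fun s s' hs => if_neg (by omega), fun s hs s' hs' t => ?_, fun s hs s' hs' b => ?_, fun s hs s' hs' => ?_⟩
    · rw [if_pos ⟨hs, hs'⟩, L.u t _ (by omega) _ (by omega), hpow, hpow2]
      generalize ι t ^ 3 ^ 0 = r
      interval_cases s <;> interval_cases s' <;>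
        norm_num only [Finset.sum_range_succ, Nat.choose, r5, r6, r7, r8, r9, r10, r11, r14, r15, r16, z02, z12, z32, z42, c3, c4, c6, _root_.Nat.choose_zero_right, _root_.Nat.cast_one, _root_.tsub_zero, _root_.one_mul, _root_.Nat.choose_one_right, _root_.Finset.range_one, _root_.Finset.sum_singleton, _root_.pow_zero, _root_.mul_one, _root_.MulZeroClass.mul_zero, _root_.zero_smul, _root_.zero_add, _root_.pow_one, _root_.one_smul, _root_.smul_zero, _root_.add_zero, _root_.smul_ite, _root_.and_true, _root_.ite_true, _root_.Nat.cast_zero, _root_.add_le_iff_nonpos_right, _root_.nonpos_iff_eq_zero, _root_.MulZeroClass.zero_mul, _root_.Finset.sum_ite_eq', _root_.Finset.mem_singleton] <;>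
        match_scalars <;> ring_nf <;> simp [c3, c4, c6, c9, c12, c18, c24, c36, c16]
    · rw [if_pos ⟨hs, hs'⟩, L.h b _ (by omega) _ (by omega)]
      have hb : ι (b : K) ≠ 0 := (map_ne_zero ι).2 b.ne_zero
      have hr : ι (b : K) ^ 3 ^ 0 ≠ 0 := pow_ne_zero _ hb
      rw [hpow, hpow2]
      generalize ι (b : K) ^ 3 ^ 0 = r at hr ⊢
      congr 1
      interval_cases s <;> interval_cases s' <;> norm_num only [_root_.inv_pow, _root_.pow_zero, _root_.pow_one, _root_.one_mul, _root_.mul_one] <;> field_simp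
    · have q30 : kk 3 0 = -kk 0 1 := eq_neg_of_add_eq_zero_left r3
      have q40 : kk 4 0 = -kk 1 1 := eq_neg_of_add_eq_zero_left r4
      have q33 : kk 3 3 = -kk 0 4 := eq_neg_of_add_eq_zero_left r12
      have q43 : kk 4 3 = -kk 1 4 := eq_neg_of_add_eq_zero_left r13
      rw [if_pos ⟨hs, hs'⟩, L.w _ (by omega) _ (by omega), if_pos ⟨by omega, by omega⟩]
      interval_cases s <;> interval_cases s' <;> norm_num only [q30, q40, q33, q43, _root_.smul_neg, _root_.neg_smul, _root_.one_smul, _root_.neg_neg]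
  have z2 := no4 0 2 (by omega) (by omega) (by norm_num) _ T2
  have z01 : kk 0 1 = 0 := by simpa using congrFun (congrFun z2 0) 0
  have z11 : kk 1 1 = 0 := by simpa using congrFun (congrFun z2 1) 0
  have z04 : kk 0 4 = 0 := by simpa using congrFun (congrFun z2 0) 1
  have z14 : kk 1 4 = 0 := by simpa using congrFun (congrFun z2 1) 1
  rw [z01, add_zero] at r3
  rw [z11, add_zero] at r4
  rw [z04, add_zero] at r12
  rw [z14, add_zero] at r13
  intro A hA B hB
  interval_cases A <;> interval_cases B <;> assumption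

/-- **the vectors `y(σ, τ)`** -/
theorem Cx3.sh_yy (C : Cx3 K a ρ) (ha3 : 3 ≤ a) (no4 : ∀ i j, i < a → j < a → i ≠ j → ∀ x, TP ι 3 ρ 1 i 1 j x → x = 0)
    {d : ℕ} (hd : 1 ≤ d) (hd2 : 2 * d ≤ a) {y : ℕ → ℕ → I27 → k} (hy : TP ι 3 ρ 2 0 2 d y) (h0 : sh (y 2 2) = 0)
    (σ τ : k) : sh (yy y σ τ) = 0 := by
  obtain ⟨kk, hk⟩ := exists_kk (two_ne 3 (by norm_num)) y
  have hc := curve (ι := ι) C.act hy h0 hk
  have hz : ∀ A < 5, ∀ B < 5, kk A B = 0 := by
    rcases Nat.lt_or_ge d 2 with h | h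
    · have h1 : d = 1 := by omega
      subst h1
      have : Infinite k := IsAlgClosed.instInfinite
      exact kk_one C.card ha3 (kk_act C.act hy hk) no4 hc
    · exact kk_two C.card h (num1 ha3 hd hd2) hc
  rw [hk]
  refine Finset.sum_eq_zero fun A hA => Finset.sum_eq_zero fun B hB => ?_
  rw [hz A (Finset.mem_range.1 hA) B (Finset.mem_range.1 hB), smul_zero]

end Cfsg.Agent.R2.F4P.Th
end

-- part: R2/F4P/Th/Sk
section
/-!
# S5931, `p = 3`, the skeleton (helper17)

`skel` : there is no context `Cx3` without tuples of type `(2, i)`, `(1, i; 1, j)` and without the tuples of type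
`(2, i; 2, j)` with `y(σ, τ) ^ # = 0`.
-/

set_option autoImplicit false
set_option linter.unusedSectionVars false
set_option linter.unusedVariables false

namespace Cfsg.Agent.R2.F4P.Th

open Cfsg.Lie
open Cfsg.Agent.ChevalleyStructure.E6Min.Tables Cfsg.Agent.ChevalleyStructure.E6Min.Basic
open Cfsg.Agent.H952.F4 (sh cr tf tr1 u0)
open Cfsg.Agent.H952.F4.Jord
open Cfsg.Agent.H952.F4.FixV (trL trL_apply W0 mem_W0 finrank_W0 exists_tr1_one)
open Cfsg.Agent.H943.SL2Rel Cfsg.Agent.H943.SL2Mod Cfsg.Agent.R2.H28.SL2 Cfsg.Agent.H943.RepAdd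
open Cfsg.Agent.R2.F4L

universe u v w

variable {k : Type u} [Field k] [DecidableEq k] {K : Type w} [Field K] [Fintype K] [DecidableEq K]
variable [CharP k 3] [CharP K 3] [IsAlgClosed k] {a : ℕ}
variable {ρ : Representation k (Matrix.SpecialLinearGroup (Fin 2) K) (I27 → k)}

/-- the tuples of type `(2, i; 2, j)`, `q > 9` -/
theorem Cx3.no22 (C : Cx3 K a ρ) (ha3 : 3 ≤ a) (no3 : ∀ (ι : K →+* k) i, i < a → ∀ x, TS ι 3 ρ 2 i x → x = 0)
    (no4 : ∀ (ι : K →+* k) i j, i < a → j < a → i ≠ j → ∀ x, TP ι 3 ρ 1 i 1 j x → x = 0)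
    (y9 : ∀ (ι : K →+* k) i j, i < a → j < a → i ≠ j → ∀ y, TP ι 3 ρ 2 i 2 j y → y ≠ 0 → (∀ σ τ : k, sh (yy y σ τ) = 0) →
       (∀ z, TP ι 3 ρ 2 i 2 j z → ∃ c : k, z = c • y) → False)
    (ι : K →+* k) {i j : ℕ} (hi : i < a) (hj : j < a) (hij : i < j) {y : ℕ → ℕ → I27 → k}
    (hy : TP ι 3 ρ 2 i 2 j y) (hy0 : y ≠ 0) : False := by
  have key : ∀ (ι : K →+* k) (d : ℕ), 1 ≤ d → 2 * d ≤ a → ∀ y : ℕ → ℕ → I27 → k, TP ι 3 ρ 2 0 2 d y → y ≠ 0 → False := by
    intro ι d hd hd2 y hy hy0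
    have h0 := C.sh_top ha3 (no3 ι) (no4 ι) hd hd2 hy hy0
    have h1 := C.sh_yy ha3 (no4 ι) hd hd2 hy h0
    exact y9 ι 0 d (by omega) (by omega) (by omega) y hy hy0 h1 fun z hz =>
      n9 C (no3 ι) (by omega) (by omega) (by omega) hy hz hy0
  rcases Nat.lt_or_ge a (2 * (j - i)) with h | h
  · refine key (twi ι 3 j) (a - (j - i)) (by omega) (by omega) (fun s s' => y s' s)
      (hy.swap.twist C.card (l := j) (i' := 0) (j' := a - (j - i)) (by rw [add_zero]) ?_) (fun h0 => hy0 ?_)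
    · have e1 : j + (a - (j - i)) = i + a := by omega
      rw [e1, Nat.add_mod_right]
    · funext s s'
      exact congrFun (congrFun h0 s') s
  · exact key (twi ι 3 i) (j - i) (by omega) h y
      (hy.twist C.card (l := i) (i' := 0) (j' := j - i) (by rw [add_zero]) (by rw [Nat.add_sub_cancel' hij.le])) hy0

/-- **the skeleton** -/
theorem skel (C : Cx3 K a ρ) (ι : K →+* k)
    (no3 : ∀ (ι : K →+* k) i, i < a → ∀ x, TS ι 3 ρ 2 i x → x = 0)
    (no4 : ∀ (ι : K →+* k) i j, i < a → j < a → i ≠ j → ∀ x, TP ι 3 ρ 1 i 1 j x → x = 0)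
    (y9 : ∀ (ι : K →+* k) i j, i < a → j < a → i ≠ j → ∀ y, TP ι 3 ρ 2 i 2 j y → y ≠ 0 → (∀ σ τ : k, sh (yy y σ τ) = 0) →
       (∀ z, TP ι 3 ρ 2 i 2 j z → ∃ c : k, z = c • y) → False) : False := by
  have D := dulV C.act
  have hP := PV_symm (k := k)
  have ha := C.ha
  have no9 : ∀ (X : Submodule k (Vk k)) (hX : ∀ g, ∀ x ∈ X, sV C.act g x ∈ X) (b : ℕ),
      IsV ι 3 ((subRep ((sV C.act :)) X hX :)) b → (Bf k b).card = 9 → False := by
    intro X hX b hVX h9
    rcases Nat.lt_or_ge a 3 with h | h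
    · exact C.nine_two (by omega) (no3 ι) (no4 ι) hVX h9
    · obtain ⟨i, j, hij, hb⟩ := (card3 k b).2.2.2.2.2.1 h9
      have hj : j < a := (C.digit (c := 2) (by norm_num) (by rw [hb]; exact Nat.le_add_left _ _) ((C.lt hVX :)) :)
      have hi : i < a := by omega
      obtain ⟨Y, hY, hVY, -, -⟩ := C.lift hVX (by omega)
      obtain ⟨hY', hVY'⟩ := C.up hVY
      rw [hb] at hVY'
      obtain ⟨v, hv⟩ := IsV.basP ι 3 C.card (by norm_num) (by norm_num) hij.ne hi hj hVY'
      refine C.no22 h no3 no4 y9 ι hi hj hij (BasP.tp hv) fun h0 => ?_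
      have e2 : v 0 0 ≠ 0 := hv.li.ne_zero ((0, 0) : Fin 3 × Fin 3)
      exact e2 (Subtype.ext (congrFun (congrFun h0 0) 0))
  have h4 := dvd_of_nd D hP 4 ⊤ (ι := ι) (p := 3) (fun X hX b _ hVX => by
    obtain ⟨hf, hd⟩ := C.dims (no3 ι) hVX
    rcases hd with hd | hd | hd | hd
    · exact ⟨C.nd_four (no4 ι) hVX hd, by rw [hf, hd]⟩
    · exact (no9 X hX b hVX hd).elim
    · exact ⟨C.nd_twelve hVX hd, by rw [hf, hd]; norm_num⟩
    · exact (C.no_sixteen hVX hd).elim) 25 ⊤ (fun _ _ _ => Submodule.mem_top) le_rfl (by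
      rw [finrank_top]
      exact (finrank_Vk (k := k)).le) (nd_top D)
  rw [finrank_top] at h4
  have h25 : Module.finrank k (Vk k) = 25 := finrank_Vk
  rw [h25] at h4
  omega

end Cfsg.Agent.R2.F4P.Th
end
end
end
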